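import Groth.Agent.EtInvariance.PushFF
import Groth.Prelude.Def_SGA4b
import Groth.Prelude.Def_EtShriek2
import Mathlib

/-!
# Small étale sites of schemes: direct image along an integral universally injective morphism

Base change is cover-dense and locally fully faithful; essential image of the direct image.
-/

set_option autoImplicit false
set_option backward.isDefEq.respectTransparency false
set_option backward.isDefEq.respectTransparency.types false
set_option linter.style.haveILetI false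

universe u v' u'

open CategoryTheory CategoryTheory.Limits AlgebraicGeometry Opposite

namespace Groth.Agent.EtInvariance.SchemePush

variable {X Y : Scheme.{u}} (f : X ⟶ Y)

theorem surjective_of_mem {Z : Scheme.{u}} {E : Z.Etale} {R : Sieve E} (h : R ∈ Z.smallEtaleTopology E)
    (x : E.left) : ∃ (W : Z.Etale) (g : W ⟶ E), R g ∧ x ∈ Set.range g.left := by
  have e : Z.smallEtaleTopology = (Z.smallPretopology (P := EtCoh.etaleMP) (Q := EtCoh.etaleMP)).toGrothendieck :=
    Scheme.smallGrothendieckTopology_eq_toGrothendieck_smallPretopology Z le_rfl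
  rw [e] at h
  obtain ⟨W, g, y, hg, -, hy⟩ := (Scheme.mem_toGrothendieck_smallPretopology E R).1 h x
  exact ⟨W, g, hg, y, hy⟩

theorem mem_of_surjective {Z : Scheme.{u}} {E : Z.Etale} {R : Sieve E}
    (h : ∀ x : E.left, ∃ (W : Z.Etale) (g : W ⟶ E), R g ∧ x ∈ Set.range g.left) :
    R ∈ Z.smallEtaleTopology E := by
  choose W g hg hx using h
  refine Z.smallEtaleTopology.superset_covering ?_ ((Scheme.ofArrows_mem_smallEtaleTopology_iff g).2
    (Set.eq_univ_of_forall fun x => Set.mem_iUnion.2 ⟨x, hx x⟩))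
  rw [Sieve.ofArrows, Sieve.generate_le_iff]
  rintro _ _ ⟨x⟩
  exact hg x

variable [IsIntegralHom f] [UniversallyInjective f]

theorem isCoverDense_bc : (EtCoh.bc f).IsCoverDense X.smallEtaleTopology := by
  constructor
  intro V
  refine mem_of_surjective fun v => ?_
  haveI : Etale V.hom := V.prop
  obtain ⟨O, hO, hyO, -⟩ := exists_isAffineOpen_mem_and_subset (X := Y) (x := f (V.hom v)) (U := ⊤) trivial
  haveI : IsAffine O.toScheme := hO
  haveI : IsIntegralHom (f ∣_ O) := MorphismProperty.of_isPullback (P := @IsIntegralHom)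
    (isPullback_morphismRestrict f O).flip ‹_›
  haveI : UniversallyInjective (f ∣_ O) := MorphismProperty.of_isPullback (P := @UniversallyInjective)
    (isPullback_morphismRestrict f O).flip ‹_›
  haveI : IsAffine (f ⁻¹ᵁ O).toScheme := hO.preimage f
  obtain ⟨A, hA, hvA, hAsub⟩ := exists_isAffineOpen_mem_and_subset (X := V.left) (x := v)
    (U := V.hom ⁻¹ᵁ (f ⁻¹ᵁ O)) hyO
  haveI : IsAffine A.toScheme := hA
  let e : A.toScheme ⟶ (f ⁻¹ᵁ O).toScheme := IsOpenImmersion.lift (f ⁻¹ᵁ O).ι (A.ι ≫ V.hom) (by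
    rintro _ ⟨a, rfl⟩
    rw [Scheme.Opens.range_ι]
    exact hAsub a.2)
  have he : e ≫ (f ⁻¹ᵁ O).ι = A.ι ≫ V.hom := IsOpenImmersion.lift_fac _ _ _
  haveI : Etale e := by
    haveI : Etale (e ≫ (f ⁻¹ᵁ O).ι) := by rw [he]; infer_instance
    exact Etale.of_comp e (f ⁻¹ᵁ O).ι
  obtain ⟨W, W₀, w, hw, g, c, q, hpb, hq, hv⟩ := exists_lift_affine (f ∣_ O) e ⟨v, hvA⟩
  obtain ⟨z, hz⟩ := hv
  have sq : IsPullback (g ≫ (f ⁻¹ᵁ O).ι) c f (w ≫ O.ι) := hpb.paste_horiz (isPullback_morphismRestrict f O).flip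
  let W' : Y.Etale := Scheme.Etale.mk (w ≫ O.ι)
  let h : (EtCoh.bc f).obj W' ⟶ V := MorphismProperty.Over.homMk (sq.flip.isoPullback.inv ≫ q ≫ A.ι) (by
    show (sq.flip.isoPullback.inv ≫ q ≫ A.ι) ≫ V.hom = pullback.snd (w ≫ O.ι) f
    rw [Category.assoc, Category.assoc, ← he, reassoc_of% hq]
    exact sq.flip.isoPullback_inv_snd)
  refine ⟨_, h, Presieve.in_coverByImage _ h, sq.flip.isoPullback.hom z, ?_⟩
  show (sq.flip.isoPullback.inv ≫ q ≫ A.ι) (sq.flip.isoPullback.hom z) = v
  rw [← Scheme.Hom.comp_apply, ← Category.assoc, Iso.hom_inv_id, Category.id_comp]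
  show A.ι (q z) = v
  rw [hz]
  rfl

theorem isLocallyFull_bc : (EtCoh.bc f).IsLocallyFull X.smallEtaleTopology := by
  constructor
  intro U V φ
  haveI : Etale U.hom := U.prop
  haveI : Etale V.hom := V.prop
  have hφ : φ.left ≫ pullback.snd V.hom f = pullback.snd U.hom f := MorphismProperty.Over.w φ
  let s : ((EtCoh.bc f).obj U).left ⟶ pullback U.hom V.hom :=
    pullback.lift (pullback.fst U.hom f) (φ.left ≫ pullback.fst V.hom f) (by
      rw [pullback.condition, Category.assoc, pullback.condition, reassoc_of% hφ])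
  haveI : IsIntegralHom (pullback.fst U.hom f) := MorphismProperty.pullback_fst _ _ ‹_›
  haveI : UniversallyInjective (pullback.fst U.hom f) := MorphismProperty.pullback_fst _ _ ‹_›
  obtain ⟨O, hsO, hO⟩ := exists_open_lift (pullback.fst U.hom f) (pullback.fst U.hom V.hom) s
    (pullback.lift_fst _ _ _)
  let UO : Y.Etale := Scheme.Etale.mk ((O.ι ≫ pullback.fst U.hom V.hom) ≫ U.hom)
  let i : UO ⟶ U := MorphismProperty.Over.homMk (O.ι ≫ pullback.fst U.hom V.hom) rfl
  let l : UO ⟶ V := MorphismProperty.Over.homMk (O.ι ≫ pullback.snd U.hom V.hom) (by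
    show (O.ι ≫ pullback.snd U.hom V.hom) ≫ V.hom = (O.ι ≫ pullback.fst U.hom V.hom) ≫ U.hom
    rw [Category.assoc, Category.assoc, pullback.condition])
  have hil : (EtCoh.bc f).map l = (EtCoh.bc f).map i ≫ φ := by
    refine MorphismProperty.Over.Hom.ext (pullback.hom_ext ?_ ?_)
    · show ((EtCoh.bc f).map l).left ≫ pullback.fst V.hom f =
        (((EtCoh.bc f).map i).left ≫ φ.left) ≫ pullback.fst V.hom f
      rw [(EtCoh.isPullback_bc_map f l).w, Category.assoc]
      have h1 := hO ((EtCoh.bc f).map i).left (pullback.fst UO.hom f) (by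
        rw [(EtCoh.isPullback_bc_map f i).w, Category.assoc]; rfl)
      have h2 := congrArg (fun k => k ≫ pullback.snd U.hom V.hom) h1
      simp only [s, Category.assoc, pullback.lift_snd] at h2
      exact h2.symm
    · exact (MorphismProperty.Over.w ((EtCoh.bc f).map l)).trans
        (MorphismProperty.Over.w ((EtCoh.bc f).map i ≫ φ)).symm
  refine mem_of_surjective fun p => ?_
  obtain ⟨p', hp, -⟩ := Scheme.exists_preimage_of_isPullback (EtCoh.isPullback_bc_map f i) p
    (⟨s p, hsO p⟩ : O.toScheme) (by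
      show pullback.fst U.hom f p = pullback.fst U.hom V.hom (s p)
      rw [← Scheme.Hom.comp_apply, pullback.lift_fst]; rfl)
  exact ⟨_, (EtCoh.bc f).map i, Sieve.image_mem_functorPushforward _ _ ⟨l, hil⟩, p', hp⟩

omit [IsIntegralHom f] [UniversallyInjective f] in
theorem isLocallyFaithful_bc : (EtCoh.bc f).IsLocallyFaithful X.smallEtaleTopology := by
  constructor
  intro U V φ₁ φ₂ h
  haveI : Etale U.hom := U.prop
  haveI : Etale V.hom := V.prop
  let δ : V.left ⟶ pullback V.hom V.hom := pullback.lift (𝟙 _) (𝟙 _) rfl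
  haveI : IsOpenImmersion δ := isOpenImmersion_section_etale (pullback.fst V.hom V.hom) δ (pullback.lift_fst _ _ _)
  let m : U.left ⟶ pullback V.hom V.hom := pullback.lift φ₁.left φ₂.left
    ((MorphismProperty.Over.w φ₁).trans (MorphismProperty.Over.w φ₂).symm)
  let O : U.left.Opens := m ⁻¹ᵁ δ.opensRange
  let UO : Y.Etale := Scheme.Etale.mk (O.ι ≫ U.hom)
  let i : UO ⟶ U := MorphismProperty.Over.homMk O.ι rfl
  have heq : i ≫ φ₁ = i ≫ φ₂ := by
    refine MorphismProperty.Over.Hom.ext ?_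
    have hr : Set.range (O.ι ≫ m) ⊆ Set.range δ := by
      rintro _ ⟨x, rfl⟩
      exact x.2
    have hk := IsOpenImmersion.lift_fac δ (O.ι ≫ m) hr
    have e1 := congrArg (· ≫ pullback.fst V.hom V.hom) hk
    have e2 := congrArg (· ≫ pullback.snd V.hom V.hom) hk
    simp only [δ, m, Category.assoc, pullback.lift_fst, pullback.lift_snd, Category.comp_id] at e1 e2
    exact e1.symm.trans e2
  refine mem_of_surjective fun p => ?_
  have hπ : pullback.fst U.hom f ≫ φ₁.left = pullback.fst U.hom f ≫ φ₂.left := by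
    refine (EtCoh.isPullback_bc_map f φ₁).w.symm.trans ?_
    rw [h]
    exact (EtCoh.isPullback_bc_map f φ₂).w
  have hmem : pullback.fst U.hom f p ∈ O := by
    have h1 : pullback.fst U.hom f ≫ m = (pullback.fst U.hom f ≫ φ₁.left) ≫ δ := by
      apply pullback.hom_ext
      · simp [m, δ]
      · simp [m, δ, hπ]
    exact ⟨_, (congr($h1 p)).symm⟩
  obtain ⟨p', hp, -⟩ := Scheme.exists_preimage_of_isPullback (EtCoh.isPullback_bc_map f i) p
    (⟨_, hmem⟩ : O.toScheme) rfl
  exact ⟨_, (EtCoh.bc f).map i, Sieve.image_mem_functorPushforward _ _ heq, p', hp⟩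

/-- the objects missing the image -/
abbrev Misses (E : Y.Etale) : Prop := Disjoint (Set.range E.hom) (Set.range f)

omit [IsIntegralHom f] [UniversallyInjective f] in
theorem misses_of_hom {Z E : Y.Etale} (g : Z ⟶ E) (h : Misses f E) : Misses f Z := by
  refine h.mono_left ?_
  rintro _ ⟨z, rfl⟩
  exact ⟨g.left z, congr($(MorphismProperty.Over.w g) z)⟩

omit [IsIntegralHom f] [UniversallyInjective f] in
theorem bot_mem_of_misses {E : Y.Etale} (h : Misses f E) :
    (⊥ : Sieve ((EtCoh.bc f).obj E)) ∈ X.smallEtaleTopology _ := by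
  refine mem_of_surjective fun p => ?_
  exfalso
  let p' : ↥(pullback E.hom f) := p
  refine Set.disjoint_left.1 h ⟨pullback.fst E.hom f p', rfl⟩ ⟨pullback.snd E.hom f p', ?_⟩
  rw [← Scheme.Hom.comp_apply, ← Scheme.Hom.comp_apply, pullback.condition]
  rfl

omit [UniversallyInjective f] in
theorem sup_misses_mem {E : Y.Etale} {R : Sieve E}
    (hR : R.functorPushforward (EtCoh.bc f) ∈ X.smallEtaleTopology _) (T : Sieve E) (hT : R ≤ T)
    (hT' : ∀ ⦃Z : Y.Etale⦄ (g : Z ⟶ E), Misses f Z → T g) : T ∈ Y.smallEtaleTopology E := by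
  refine mem_of_surjective fun x => ?_
  by_cases hx : x ∈ Set.range (pullback.fst E.hom f)
  · obtain ⟨p, rfl⟩ := hx
    obtain ⟨Z', g', ⟨Z, g, h, hg, rfl⟩, z, hz⟩ := surjective_of_mem hR p
    refine ⟨Z, g, hT _ hg, pullback.fst Z.hom f (h.left z), ?_⟩
    rw [← hz]
    exact (congr($((EtCoh.isPullback_bc_map f g).w) (h.left z))).symm
  · haveI : IsIntegralHom (pullback.fst E.hom f) := MorphismProperty.pullback_fst _ _ ‹_›
    haveI : Etale E.hom := E.prop
    let O : E.left.Opens :=
      ⟨(Set.range (pullback.fst E.hom f))ᶜ, (pullback.fst E.hom f).isClosedMap.isClosed_range.isOpen_compl⟩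
    let A : Y.Etale := Scheme.Etale.mk (O.ι ≫ E.hom)
    refine ⟨A, MorphismProperty.Over.homMk O.ι rfl, hT' _ (Set.disjoint_left.2 ?_), ⟨x, hx⟩, rfl⟩
    rintro _ ⟨a, rfl⟩ ⟨y, hy⟩
    obtain ⟨p, hp, -⟩ := Scheme.Pullback.exists_preimage_pullback (f := E.hom) (g := f) (O.ι a) y hy.symm
    exact a.2 ⟨p, hp⟩

omit [UniversallyInjective f] in
theorem isSheafFor_of_misses {Q : Y.Etaleᵒᵖ ⥤ Type u'}
    (hQ : Presieve.IsSheaf Y.smallEtaleTopology Q) (hv : ∀ E, Misses f E → Nonempty (Unique (Q.obj (op E))))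
    {E : Y.Etale} {R : Sieve E} (hR : R.functorPushforward (EtCoh.bc f) ∈ X.smallEtaleTopology _) :
    Presieve.IsSheafFor Q R.arrows := by
  classical
  let D : Sieve E :=
    { arrows := fun Z g => R g ∨ Misses f Z
      downward_closed := fun {Z W g} hg k =>
        hg.imp (fun h => R.downward_closed h k) fun h => misses_of_hom f k h }
  have hD : D ∈ Y.smallEtaleTopology E := sup_misses_mem f hR D (fun Z g h => Or.inl h) fun Z g h => Or.inr h
  have hsub : ∀ Z, Misses f Z → Subsingleton (Q.obj (op Z)) := fun Z h => by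
    obtain ⟨_⟩ := hv Z h
    infer_instance
  intro x hx
  let x' : Presieve.FamilyOfElements Q D.arrows := fun Z g hg =>
    if h : Misses f Z then (hv Z h).some.default else x g (hg.resolve_right h)
  have hxe : ∀ ⦃Z⦄ (g : Z ⟶ E) (h : R g) (h' : D g), x' g h' = x g h := fun Z g h h' => by
    by_cases hm : Misses f Z
    · exact (hsub Z hm).elim _ _
    · exact dif_neg hm
  have hx' : x'.Compatible := by
    intro Z₁ Z₂ W r₁ r₂ g₁ g₂ h₁ h₂ e
    by_cases hW : Misses f W
    · haveI := hsub W hW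
      exact Subsingleton.elim _ _
    · have hR₁ : R g₁ := h₁.resolve_right fun h => hW (misses_of_hom f r₁ h)
      have hR₂ : R g₂ := h₂.resolve_right fun h => hW (misses_of_hom f r₂ h)
      rw [hxe g₁ hR₁ h₁, hxe g₂ hR₂ h₂]
      exact hx r₁ r₂ hR₁ hR₂ e
  obtain ⟨t, ht, huniq⟩ := hQ D hD x' hx'
  refine ⟨t, fun Z g hg => (ht g (Or.inl hg)).trans (hxe g hg (Or.inl hg)), fun t' ht' => huniq t' fun Z g hg => ?_⟩
  by_cases hm : Misses f Z
  · exact (hsub Z hm).elim _ _
  · rw [hxe g (hg.resolve_right hm) hg]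
    exact ht' g _

theorem fullyFaithful_push (A : Type u') [Category.{v'} A] :
    ((EtCoh.bc f).sheafPushforwardContinuous A Y.smallEtaleTopology X.smallEtaleTopology).Full ∧
      ((EtCoh.bc f).sheafPushforwardContinuous A Y.smallEtaleTopology X.smallEtaleTopology).Faithful := by
  haveI := isCoverDense_bc f
  haveI := isLocallyFull_bc f
  exact ⟨inferInstance, inferInstance⟩

instance hasLimitsOfShape_structuredArrow {C D : Type (u + 1)} [Category.{u} C] [Category.{u} D] (G : C ⥤ D)
    (T : D) {A : Type u'} [Category.{v'} A] [HasLimitsOfSize.{u + 1, u + 1} A] :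
    HasLimitsOfShape (StructuredArrow T G) A :=
  hasLimitsOfShape_of_equivalence (ULiftHom.equiv : StructuredArrow T G ≌ ULiftHom.{u + 1} (StructuredArrow T G)).symm

theorem essImage_push_iff {A : Type u'} [Category.{v'} A] [HasLimitsOfSize.{u + 1, u + 1} A]
    (G : Sheaf Y.smallEtaleTopology A) :
    ((EtCoh.bc f).sheafPushforwardContinuous A Y.smallEtaleTopology X.smallEtaleTopology).essImage G ↔
      ∀ E : Y.Etale, Misses f E → Nonempty (IsTerminal (G.obj.obj (op E))) := by
  haveI := isCoverDense_bc f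
  haveI := isLocallyFull_bc f
  haveI := isLocallyFaithful_bc f
  constructor
  · rintro ⟨F, ⟨e⟩⟩ E hE
    exact ⟨(Sheaf.isTerminalOfBotCover F _ (bot_mem_of_misses f hE)).ofIso
      (((sheafToPresheaf _ A).mapIso e).app (op E))⟩
  · intro hv
    let J' := (EtCoh.bc f).inducedTopology X.smallEtaleTopology
    have hG : Presheaf.IsSheaf J' G.obj := fun T E R hR => by
      rw [Functor.mem_inducedTopology_iff_of_isCoverDense] at hR
      refine isSheafFor_of_misses f (G.property T) (fun E' hE' => ?_) hR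
      obtain ⟨ht⟩ := hv E' hE'
      exact ⟨⟨⟨ht.from T⟩, fun g => ht.hom_ext g _⟩⟩
    haveI : ((EtCoh.bc f).sheafPushforwardContinuous A J' X.smallEtaleTopology).IsEquivalence := inferInstance
    let e := ((EtCoh.bc f).sheafPushforwardContinuous A J' X.smallEtaleTopology).objObjPreimageIso ⟨G.obj, hG⟩
    exact ⟨((EtCoh.bc f).sheafPushforwardContinuous A J' X.smallEtaleTopology).objPreimage ⟨G.obj, hG⟩,
      ⟨(fullyFaithfulSheafToPresheaf _ A).preimageIso ((sheafToPresheaf J' A).mapIso e)⟩⟩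

end Groth.Agent.EtInvariance.SchemePush
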