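import Groth.Agent.EtInvariance.Lift
import Groth.Agent.EtaleSections.Basic
import Groth.Prelude.Def_AlgSpOX2
import Mathlib

/-!
# Direct image along an integral universally injective morphism of algebraic spaces is fully faithful

Base change of small étale sites is cover-dense and locally fully faithful; the essential image of
the direct image consists of the sheaves trivial away from the image.
-/

set_option autoImplicit false
set_option backward.isDefEq.respectTransparency false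
set_option linter.style.haveILetI false

universe u

open CategoryTheory CategoryTheory.Limits AlgebraicGeometry Opposite

namespace Groth.Agent.EtInvariance

open _root_.AlgSp Groth.Agent.AlgSpLib

section Schemes

theorem isOpenImmersion_section_etale {Q U : Scheme.{u}} (q : Q ⟶ U) [Etale q] (s : U ⟶ Q) (h : s ≫ q = 𝟙 U) :
    IsOpenImmersion s :=
  EtaleSections.isOpenImmersion_section (π := q) s h

/-- the graph of a morphism defined after a base change by a universally injective integral map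
extends to an open subscheme -/
theorem exists_open_lift {U₀ U Q : Scheme.{u}} (c : U₀ ⟶ U) [IsIntegralHom c] [UniversallyInjective c]
    (q : Q ⟶ U) [Etale q] (s : U₀ ⟶ Q) (hs : s ≫ q = c) :
    ∃ O : Q.Opens, (∀ p, s p ∈ O) ∧ ∀ {Z : Scheme.{u}} (a : Z ⟶ U₀) (b : Z ⟶ O.toScheme),
      a ≫ c = (b ≫ O.ι) ≫ q → a ≫ s = b ≫ O.ι := by
  let σ : U₀ ⟶ pullback c q := pullback.lift (𝟙 _) s (by rw [Category.id_comp, hs])
  have : IsOpenImmersion σ := isOpenImmersion_section_etale (pullback.fst c q) σ (pullback.lift_fst _ _ _)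
  have : UniversallyInjective (pullback.snd c q) := MorphismProperty.pullback_snd _ _ ‹_›
  have hsnd : Topology.IsInducing (pullback.snd c q) :=
    (Topology.IsClosedEmbedding.of_continuous_injective_isClosedMap (pullback.snd c q).continuous
      (pullback.snd c q).injective (pullback.snd c q).isClosedMap).isInducing
  obtain ⟨O, hO, hOe⟩ := hsnd.isOpen_iff.1 σ.opensRange.2
  refine ⟨⟨O, hO⟩, fun p => ?_, fun {Z} a b hab => ?_⟩
  · have h1 : σ p ∈ pullback.snd c q ⁻¹' O := by rw [hOe]; exact ⟨p, rfl⟩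
    have h2 : pullback.snd c q (σ p) = s p := by
      rw [← Scheme.Hom.comp_apply, pullback.lift_snd]
    rwa [Set.mem_preimage, h2] at h1
  · let v : Z ⟶ pullback c q := pullback.lift a (b ≫ Scheme.Opens.ι ⟨O, hO⟩) hab
    have hv : Set.range v ⊆ Set.range σ := by
      rintro _ ⟨z, rfl⟩
      show v z ∈ σ.opensRange.carrier
      rw [← hOe, Set.mem_preimage, ← Scheme.Hom.comp_apply, pullback.lift_snd]
      exact (b z).2
    have hk := IsOpenImmersion.lift_fac σ v hv
    have hk' : IsOpenImmersion.lift σ v hv = a := by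
      calc IsOpenImmersion.lift σ v hv
          = IsOpenImmersion.lift σ v hv ≫ σ ≫ pullback.fst c q := by
            rw [pullback.lift_fst, Category.comp_id]
        _ = a := by rw [← Category.assoc, hk, pullback.lift_fst]
    rw [hk'] at hk
    have := congrArg (· ≫ pullback.snd c q) hk
    simpa [σ, v] using this

end Schemes

variable {S : Scheme.{u}}

/-- covering sieves of the small étale site are jointly surjective -/
theorem surjective_of_mem_etTop {X : Sp S} {E : EtOver X} {R : Sieve E} (h : R ∈ etTop X E)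
    (x : ↥E.obj.left.left) : ∃ (Z : EtOver X) (g : Z ⟶ E), R g ∧ x ∈ Set.range g.hom.left.left := by
  change (etPre X).Saturate E R at h
  induction h with
  | of E R hR =>
    obtain ⟨ι, Z, g, rfl⟩ := R.exists_eq_ofArrows
    obtain ⟨i, hi⟩ := (ofArrows_mem_etPre_iff Z g).1 hR x
    exact ⟨_, g i, Sieve.le_generate _ _ _ ⟨i⟩, hi⟩
  | top E => exact ⟨E, 𝟙 E, trivial, x, rfl⟩
  | pullback E R _ E' f ih =>
    obtain ⟨Z, g, hg, z, hz⟩ := ih (f.hom.left.left x)
    obtain ⟨p, -, hp⟩ := Scheme.exists_preimage_of_isPullback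
      (((EtOver.isPullback g f).map (EtOver.forget X)).map (Over.forget S)) z x hz
    refine ⟨_, EtOver.pullbackSnd g f, ?_, p, hp⟩
    show R (EtOver.pullbackSnd g f ≫ f)
    rw [← (EtOver.isPullback g f).w]
    exact R.downward_closed hg _
  | transitive E T R _ _ ih1 ih2 =>
    obtain ⟨Z, g, hg, z, hz⟩ := ih1 x
    obtain ⟨W, k, hk, w, hw⟩ := ih2 hg z
    refine ⟨W, k ≫ g, hk, w, ?_⟩
    show g.hom.left.left (k.hom.left.left w) = x
    rw [hw, hz]

variable {X Y : Sp S} {f : Y ⟶ X}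

/-- variant of `exists_lift_point` without surjectivity -/
theorem exists_lift_point' {V : Sp S} (hY : IsAlgSpace Y) (hV : IsAlgSpace V) (hi : RepWith @IsIntegralHom f)
    (hu : RepWith @UniversallyInjective f) (b : V ⟶ Y) (hb : IsEtaleMor b) {U : Over S} (p : (yon S).obj U ⟶ X)
    (hps : RepWith @Surjective p) (v : Points V) :
    ∃ (W : Scheme.{u}) (w : W ⟶ U.left) (_ : Etale w) (P : Over S) (g : (yon S).obj P ⟶ Y)
      (c : P ⟶ Over.mk (w ≫ U.hom)) (q : (yon S).obj P ⟶ V),
      IsPullback g ((yon S).map c) f ((yon S).map (Over.homMk w : Over.mk (w ≫ U.hom) ⟶ U) ≫ p) ∧ q ≫ b = g ∧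
        v ∈ Set.range (Points.map q) := by
  obtain ⟨u₀, hu₀⟩ := ofPt_surjective hps (Points.map f (Points.map b v))
  obtain ⟨O, hO, hu₁, -⟩ := exists_isAffineOpen_mem_and_subset (X := U.left) (x := u₀) (U := ⊤) trivial
  let T : Over S := Over.mk (O.ι ≫ U.hom)
  let j : T ⟶ U := Over.homMk O.ι rfl
  have hT : IsAffine T.left := hO
  obtain ⟨P₁, g₁, c₁, sq₁⟩ := exists_isPullback_of_representable hi.1 ((yon S).map j ≫ p)
  have hc₁i : IsIntegralHom c₁.left := hi.2 _ g₁ c₁ sq₁
  have hc₁u : UniversallyInjective c₁.left := hu.2 _ g₁ c₁ sq₁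
  have hP₁ : IsAffine P₁.left := isAffine_of_isAffineHom c₁.left
  obtain ⟨x₁, hx₁, -⟩ := exists_point_of_isPullback sq₁ (Points.map b v) (Points.ofScheme T ⟨u₀, hu₁⟩) (by
    rw [← Points.ofPt_eq_map_ofScheme, ofPt_comp, ← hu₀]
    rfl)
  have sqV := IsPullback.of_hasPullback b g₁
  have hV₁ : IsAlgSpace (pullback b g₁) := isAlgSpace_of_isPullback_space hY hV (IsAlgSpace.yon_obj _) sqV
  obtain ⟨v₁, hv₁, -⟩ := exists_point_of_isPullback sqV v x₁ hx₁.symm
  obtain ⟨U₀, a, u, hU₀, ha, rfl⟩ := exists_affine_etale_nhd hV₁ v₁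
  obtain ⟨e, he⟩ := exists_map_eq (a ≫ pullback.snd b g₁)
  have : Etale e.left := (repWith_yon_iff e).1 (by
    rw [he]
    exact isEtaleMor_baseChange (IsAlgSpace.yon_obj _) hV hY sqV.flip hb a ha)
  obtain ⟨W, W₀, w, hw, g, c, q, hpb, hq, z, hz⟩ := exists_lift_affine c₁.left e.left u
  have hP : (g ≫ P₁.hom) = c ≫ (w ≫ O.ι) ≫ U.hom := by
    rw [← Over.w c₁, reassoc_of% hpb.w]
    simp [T]
  let P : Over S := Over.mk (g ≫ P₁.hom)
  let cO : P ⟶ Over.mk ((w ≫ O.ι) ≫ U.hom) := Over.homMk c hP.symm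
  let gO : P ⟶ P₁ := Over.homMk g rfl
  let wO : Over.mk ((w ≫ O.ι) ≫ U.hom) ⟶ T := Over.homMk w (by simp [T])
  let qO : P ⟶ U₀ := Over.homMk q (by rw [← Over.w e, reassoc_of% hq]; rfl)
  have hqe : qO ≫ e = gO := Over.OverMorphism.ext hq
  have sqO : IsPullback gO.left cO.left c₁.left wO.left := hpb
  refine ⟨W, w ≫ O.ι, inferInstance, P, (yon S).map gO ≫ g₁, cO, (yon S).map qO ≫ a ≫ pullback.fst b g₁, ?_, ?_,
    Points.ofScheme P z, ?_⟩
  · have h := (isPullback_yon_iff.2 sqO).paste_horiz sq₁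
    have hwj : (Over.homMk (w ≫ O.ι) : Over.mk ((w ≫ O.ι) ≫ U.hom) ⟶ U) = wO ≫ j := Over.OverMorphism.ext rfl
    rwa [hwj, Functor.map_comp, Category.assoc ((yon S).map wO)]
  · rw [Category.assoc, Category.assoc, pullback.condition, ← Category.assoc a, ← he, ← Category.assoc,
      ← Functor.map_comp, hqe]
  · rw [← Points.ofPt_eq_map_ofScheme, ofPt_comp]
    show Points.ofPt (a ≫ pullback.fst b g₁) (q z) = v
    rw [hz, ← Points.map_ofPt, hv₁]

theorem isCoverDense_bc (hY : IsAlgSpace Y) (hX : IsAlgSpace X) (hi : RepWith @IsIntegralHom f)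
    (hu : RepWith @UniversallyInjective f) : (EtOver.bc hi.1).IsCoverDense (etTop Y) := by
  constructor
  intro E
  obtain ⟨U, p, hpe, hps⟩ := hX.atlas
  have key : ∀ v : ↥E.obj.left.left, ∃ (A : EtOver X) (h : (EtOver.bc hi.1).obj A ⟶ E),
      v ∈ Set.range h.hom.left.left := fun v => by
    obtain ⟨W, w, hw, P, g, c, q, sq, hq, z, hz⟩ := exists_lift_point' hY (IsAlgSpace.yon_obj E.obj.left) hi hu
      E.obj.hom (isEtaleMor_of_repWith' E.property) p hps (Points.ofScheme _ v)
    let wO : Over.mk (w ≫ U.hom) ⟶ U := Over.homMk w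
    let A : EtOver X := EtOver.mk ((yon S).map wO ≫ p) (repWith_comp ((repWith_yon_iff wO).2 hw) hpe)
    obtain ⟨e, he⟩ := exists_map_eq (sq.lift (hi.1.fst A.obj.hom) ((yon S).map (hi.1.snd A.obj.hom))
      (hi.1.w A.obj.hom))
    let e' : P ⟶ hi.1.pullback A.obj.hom := hi.1.lift g c sq.w
    have hee : e' ≫ e = 𝟙 P := (yon S).map_injective (sq.hom_ext
      (by
        rw [Functor.map_comp, Category.assoc, he, sq.lift_fst, CategoryTheory.Functor.map_id, Category.id_comp]
        exact hi.1.lift_fst _ _ _)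
      (by
        rw [Functor.map_comp, Category.assoc, he, sq.lift_snd, CategoryTheory.Functor.map_id, Category.id_comp,
          ← Functor.map_comp]
        exact congrArg _ (hi.1.lift_snd _ _ _)))
    obtain ⟨q', hq'⟩ := exists_map_eq q
    obtain ⟨z', rfl⟩ := (Points.schemeHomeo P).surjective z
    rw [← hq', Points.map_yon_map_apply] at hz
    refine ⟨A, EtOver.homMk (e ≫ q') ?_, e'.left z', ?_⟩
    · rw [Functor.map_comp, hq', Category.assoc, hq, he, sq.lift_fst]
      rfl
    · show q'.left (e.left (e'.left z')) = v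
      have h1 : (e' ≫ e).left = (𝟙 P : P ⟶ P).left := congrArg (fun k : P ⟶ P => k.left) hee
      rw [show e.left (e'.left z') = z' from congr($h1 z')]
      exact (Points.schemeHomeo E.obj.left).injective hz
  choose A h hv using key
  refine (etTop Y).superset_covering ?_ (ofArrows_mem_etTop _ h fun v => ⟨v, hv v⟩)
  rw [Sieve.ofArrows, Sieve.generate_le_iff]
  rintro _ _ ⟨v⟩
  exact Presieve.in_coverByImage _ (h v)

theorem exists_preimage_bcπ (hi : Representable f) {A : EtOver X} (x : ↥A.obj.left.left) (y : Points Y)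
    (h : Points.map f y = Points.map A.obj.hom (Points.schemeHomeo _ x)) :
    x ∈ Set.range (hi.snd A.obj.hom).left := by
  obtain ⟨p, -, hp⟩ := exists_point_of_isPullback (hi.isPullback A.obj.hom) y _ h
  obtain ⟨p', rfl⟩ := (Points.schemeHomeo _).surjective p
  rw [Points.map_yon_map_apply] at hp
  exact ⟨p', (Points.schemeHomeo _).injective hp⟩

theorem isLocallyFull_bc (hX : IsAlgSpace X) (hi : RepWith @IsIntegralHom f)
    (hu : RepWith @UniversallyInjective f) : (EtOver.bc hi.1).IsLocallyFull (etTop Y) := by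
  constructor
  intro A A' φ
  obtain ⟨Q, pr₁, pr₂, sq⟩ := exists_pullback hX.diag A.obj.hom A'.obj.hom
  have : Etale pr₁.left := A'.property.2 A.obj.hom ((yon S).map pr₂) pr₁ sq.flip
  obtain ⟨s, hs⟩ := exists_map_eq (sq.lift ((yon S).map (hi.1.snd A.obj.hom))
    ((yon S).map (φ.hom.left ≫ hi.1.snd A'.obj.hom)) (by
      have hφ : (yon S).map φ.hom.left ≫ hi.1.fst A'.obj.hom = hi.1.fst A.obj.hom := EtOver.w φ
      rw [Functor.map_comp, Category.assoc, ← hi.1.w, ← hi.1.w, ← Category.assoc, hφ]))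
  have hs₁ : s ≫ pr₁ = hi.1.snd A.obj.hom := (yon S).map_injective (by
    rw [Functor.map_comp, hs, sq.lift_fst])
  have hs₂ : s ≫ pr₂ = φ.hom.left ≫ hi.1.snd A'.obj.hom := (yon S).map_injective (by
    rw [Functor.map_comp, hs, sq.lift_snd])
  have hci : IsIntegralHom (hi.1.snd A.obj.hom).left := hi.2 _ _ _ (hi.1.isPullback A.obj.hom)
  have hcu : UniversallyInjective (hi.1.snd A.obj.hom).left := hu.2 _ _ _ (hi.1.isPullback A.obj.hom)
  obtain ⟨O, hsO, hO⟩ := exists_open_lift (hi.1.snd A.obj.hom).left pr₁.left s.left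
    (congrArg (·.left) hs₁)
  let j : Over.mk (O.ι ≫ Q.hom) ⟶ Q := Over.homMk O.ι rfl
  have hj : Etale (j ≫ pr₁).left := inferInstanceAs (Etale (O.ι ≫ pr₁.left))
  let AO : EtOver X := EtOver.mk ((yon S).map (j ≫ pr₁) ≫ A.obj.hom)
    (repWith_comp ((repWith_yon_iff (j ≫ pr₁)).2 hj) A.property)
  let i : AO ⟶ A := EtOver.homMk (j ≫ pr₁) rfl
  let l : AO ⟶ A' := EtOver.homMk (j ≫ pr₂) (by
    show (yon S).map (j ≫ pr₂) ≫ A'.obj.hom = (yon S).map (j ≫ pr₁) ≫ A.obj.hom
    rw [Functor.map_comp, Functor.map_comp, Category.assoc, Category.assoc, sq.w])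
  have hil : (EtOver.bc hi.1).map l = (EtOver.bc hi.1).map i ≫ φ := by
    refine EtOver.hom_ext _ _ (hi.1.hom_ext ?_ ?_)
    · exact (EtOver.w ((EtOver.bc hi.1).map l)).trans (EtOver.w ((EtOver.bc hi.1).map i ≫ φ)).symm
    · show (EtOver.bcMap hi.1 l).hom.left ≫ hi.1.snd A'.obj.hom =
        ((EtOver.bcMap hi.1 i).hom.left ≫ φ.hom.left) ≫ hi.1.snd A'.obj.hom
      rw [EtOver.bcMap_snd, Category.assoc, ← hs₂]
      have h1 := hO (EtOver.bcMap hi.1 i).hom.left.left (hi.1.snd AO.obj.hom).left (by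
        have := congrArg (·.left) (EtOver.bcMap_snd hi.1 i)
        simpa [i, j] using this)
      have h2 : (EtOver.bcMap hi.1 i).hom.left ≫ s = hi.1.snd AO.obj.hom ≫ j := Over.OverMorphism.ext h1
      rw [reassoc_of% h2]
      rfl
  refine (etTop Y).superset_covering ?_ (ofArrows_mem_etTop (fun _ : Unit => (EtOver.bc hi.1).obj AO)
    (fun _ => (EtOver.bc hi.1).map i) fun p => ?_)
  · rw [Sieve.ofArrows, Sieve.generate_le_iff]
    rintro _ _ ⟨-⟩
    exact Sieve.image_mem_functorPushforward _ _ ⟨l, hil⟩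
  · obtain ⟨p', hp, -⟩ := Scheme.exists_preimage_of_isPullback (EtOver.isPullback_bcMap_left hi.1 i) p
      (⟨s.left p, hsO p⟩ : O.toScheme) (by
        show (hi.1.snd A.obj.hom).left p = pr₁.left (s.left p)
        rw [← hs₁]; rfl)
    exact ⟨⟨⟩, p', hp⟩

theorem isLocallyFaithful_bc (hX : IsAlgSpace X) (hi : Representable f) :
    (EtOver.bc hi).IsLocallyFaithful (etTop Y) := by
  constructor
  intro A A' φ₁ φ₂ h
  obtain ⟨Q, pr₁, pr₂, sq⟩ := exists_pullback hX.diag A'.obj.hom A'.obj.hom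
  have : Etale pr₁.left := A'.property.2 A'.obj.hom ((yon S).map pr₂) pr₁ sq.flip
  obtain ⟨δ, hδ⟩ := exists_map_eq (sq.lift (𝟙 _) (𝟙 _) rfl)
  have hδ₁ : δ ≫ pr₁ = 𝟙 _ := (yon S).map_injective (by
    rw [Functor.map_comp, hδ, sq.lift_fst, CategoryTheory.Functor.map_id])
  have hδ₂ : δ ≫ pr₂ = 𝟙 _ := (yon S).map_injective (by
    rw [Functor.map_comp, hδ, sq.lift_snd, CategoryTheory.Functor.map_id])
  have : IsOpenImmersion δ.left :=
    isOpenImmersion_section_etale pr₁.left δ.left (congrArg (·.left) hδ₁)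
  obtain ⟨m, hm⟩ := exists_map_eq (sq.lift ((yon S).map φ₁.hom.left) ((yon S).map φ₂.hom.left)
    ((EtOver.w φ₁).trans (EtOver.w φ₂).symm))
  have hm₁ : m ≫ pr₁ = φ₁.hom.left := (yon S).map_injective (by rw [Functor.map_comp, hm, sq.lift_fst])
  have hm₂ : m ≫ pr₂ = φ₂.hom.left := (yon S).map_injective (by rw [Functor.map_comp, hm, sq.lift_snd])
  let O : A.obj.left.left.Opens := m.left ⁻¹ᵁ δ.left.opensRange
  let j : Over.mk (O.ι ≫ A.obj.left.hom) ⟶ A.obj.left := Over.homMk O.ι rfl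
  have hj : Etale j.left := inferInstanceAs (Etale O.ι)
  let i : EtOver.mk ((yon S).map j ≫ A.obj.hom) (repWith_comp ((repWith_yon_iff j).2 hj) A.property) ⟶ A :=
    EtOver.homMk j rfl
  have heq : i ≫ φ₁ = i ≫ φ₂ := by
    refine EtOver.hom_ext _ _ (Over.OverMorphism.ext ?_)
    have hr : Set.range (O.ι ≫ m.left) ⊆ Set.range δ.left := by
      rintro _ ⟨x, rfl⟩
      exact x.2
    have hk := IsOpenImmersion.lift_fac δ.left (O.ι ≫ m.left) hr
    have e1 := congrArg (· ≫ pr₁.left) hk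
    have e2 := congrArg (· ≫ pr₂.left) hk
    simp only [Category.assoc, ← Over.comp_left, hδ₁, hδ₂, hm₁, hm₂, Over.id_left, Category.comp_id] at e1 e2
    exact e1.symm.trans e2
  refine (etTop Y).superset_covering ?_ (ofArrows_mem_etTop (fun _ : Unit => _)
    (fun _ => (EtOver.bc hi).map i) fun p => ?_)
  · rw [Sieve.ofArrows, Sieve.generate_le_iff]
    rintro _ _ ⟨-⟩
    exact Sieve.image_mem_functorPushforward _ _ heq
  · have hπ : hi.snd A.obj.hom ≫ φ₁.hom.left = hi.snd A.obj.hom ≫ φ₂.hom.left := by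
      rw [← EtOver.bcMap_snd, ← EtOver.bcMap_snd]
      exact congrArg (fun k => k.hom.left ≫ _) h
    have hmem : (hi.snd A.obj.hom).left p ∈ O := by
      have h1 : hi.snd A.obj.hom ≫ m = (hi.snd A.obj.hom ≫ φ₁.hom.left) ≫ δ := by
        refine (yon S).map_injective (sq.hom_ext ?_ ?_)
        · rw [← Functor.map_comp, ← Functor.map_comp, Category.assoc, hm₁, Category.assoc, hδ₁,
            Category.comp_id]
        · rw [← Functor.map_comp, ← Functor.map_comp, Category.assoc, hm₂, Category.assoc, hδ₂,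
            Category.comp_id, hπ]
      have h2 : (hi.snd A.obj.hom ≫ m).left = ((hi.snd A.obj.hom ≫ φ₁.hom.left) ≫ δ).left := congrArg (·.left) h1
      exact ⟨_, (congr($h2 p)).symm⟩
    obtain ⟨p', hp, -⟩ := Scheme.exists_preimage_of_isPullback (EtOver.isPullback_bcMap_left hi i) p
      (⟨_, hmem⟩ : O.toScheme) rfl
    exact ⟨⟨⟩, p', hp⟩

end Groth.Agent.EtInvariance
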