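import Groth.Agent.EtInvariance.Points
import Groth.Agent.AlgSpLib.ProperCrit
import Groth.Agent.AlgSpLib.Diag
import Groth.Agent.AlgSpLib.QCompact
import Groth.Prelude.Def_AlgSpInf

/-!
# Topological properties across universal homeomorphisms (thickenings)
-/

universe u

open CategoryTheory CategoryTheory.Limits AlgebraicGeometry Opposite Topology

set_option backward.isDefEq.respectTransparency false

namespace Groth.Agent.EtInvariance

open _root_.AlgSp Groth.Agent.AlgSpLib

variable {S : Scheme.{u}}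

theorem IsUH.comp {F G H : Sp S} {f : F ⟶ G} {g : G ⟶ H} (hf : IsUH f) (hg : IsUH g) : IsUH (f ≫ g) :=
  ⟨repWith_comp hf.integral hg.integral, repWith_comp hf.inj hg.inj, repWith_comp hf.surj hg.surj⟩

theorem IsUH.of_thick {F G : Sp S} {f : F ⟶ G} (h : IsThickMor f) : IsUH f :=
  ⟨repWith_mono (fun _ _ q hq => have : IsClosedImmersion q := hq.1; (inferInstance : IsIntegralHom q)) h,
    repWith_mono (fun _ _ q hq => have : IsClosedImmersion q := hq.1; (inferInstance : UniversallyInjective q)) h,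
    repWith_mono (fun _ _ _ hq => hq.2) h⟩

theorem mono_of_thick {F G : Sp S} {f : F ⟶ G} (h : IsThickMor f) : Mono f :=
  mono_of_repWith_immersion (repWith_mono (fun _ _ q hq => have : IsClosedImmersion q := hq.1;
    (inferInstance : IsImmersion q)) h)

theorem IsUH.isHomeomorph {F G : Sp S} {f : F ⟶ G} (h : IsUH f) : IsHomeomorph (Points.map f) := by
  refine ⟨Points.continuous_map f, fun W hW => h.isOpen_of_preimage ?_, h.bijective⟩
  rwa [Set.preimage_image_eq _ h.bijective.1]

theorem IsUH.compactSpace_iff {F G : Sp S} {f : F ⟶ G} (h : IsUH f) :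
    CompactSpace (Points F) ↔ CompactSpace (Points G) :=
  ⟨fun _ => h.isHomeomorph.homeomorph.compactSpace, fun _ => h.isHomeomorph.homeomorph.symm.compactSpace⟩

/-- transfer of base changes, downwards -/
theorem exists_down {X X' Y Y' Z W : Sp S} {i : X ⟶ X'} {j : Y ⟶ Y'} {f : X ⟶ Y} {f' : X' ⟶ Y'}
    (hY' : IsAlgSpace Y') (hX' : IsAlgSpace X') (hi : IsUH i) [Mono j] (w : i ≫ f' = f ≫ j) (hZ : IsAlgSpace Z)
    {g : Z ⟶ Y} {fst : W ⟶ X} {snd : W ⟶ Z} (sq : IsPullback fst snd f g) :
    ∃ (W' : Sp S) (fst' : W' ⟶ X') (snd' : W' ⟶ Z) (e : W ⟶ W'),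
      IsAlgSpace W' ∧ IsPullback fst' snd' f' (g ≫ j) ∧ IsUH e ∧ e ≫ snd' = snd := by
  have sq' := IsPullback.of_hasPullback f' (g ≫ j)
  let e : W ⟶ pullback f' (g ≫ j) := pullback.lift (fst ≫ i) snd (by rw [Category.assoc, w, reassoc_of% sq.w])
  have h1 : IsPullback fst snd (i ≫ f') (g ≫ j) := by rw [w]; exact isPullback_comp_mono sq j
  have h2 : IsPullback fst e i (pullback.fst f' (g ≫ j)) :=
    IsPullback.of_bot (by rwa [pullback.lift_snd]) (pullback.lift_fst _ _ _).symm sq'
  exact ⟨_, _, _, e, isAlgSpace_of_isPullback_space hY' hX' hZ sq', sq', hi.baseChange h2, pullback.lift_snd _ _ _⟩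

/-- transfer of base changes, upwards -/
theorem exists_up {X X' Y Y' Z W' : Sp S} {i : X ⟶ X'} {j : Y ⟶ Y'} {f : X ⟶ Y} {f' : X' ⟶ Y'}
    (hX : IsAlgSpace X) (hY : IsAlgSpace Y) (hY' : IsAlgSpace Y') (hi : IsUH i) (hj : IsUH j)
    (w : i ≫ f' = f ≫ j) (hZ : IsAlgSpace Z) {g : Z ⟶ Y'} {fst' : W' ⟶ X'} {snd' : W' ⟶ Z}
    (sq : IsPullback fst' snd' f' g) :
    ∃ (Z₀ W₀ : Sp S) (y : Z₀ ⟶ Y) (z : Z₀ ⟶ Z) (x : W₀ ⟶ X) (snd₀ : W₀ ⟶ Z₀) (e : W₀ ⟶ W'),
      IsAlgSpace Z₀ ∧ IsAlgSpace W₀ ∧ IsPullback x snd₀ f y ∧ IsUH z ∧ IsUH e ∧ snd₀ ≫ z = e ≫ snd' := by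
  have sqZ := IsPullback.of_hasPullback j g
  have hZ₀ := isAlgSpace_of_isPullback_space hY' hY hZ sqZ
  have sqW := IsPullback.of_hasPullback i fst'
  let snd₀ : pullback i fst' ⟶ pullback j g := pullback.lift (pullback.fst i fst' ≫ f) (pullback.snd i fst' ≫ snd') (by
    rw [Category.assoc, ← w, ← Category.assoc, pullback.condition, Category.assoc, sq.w, Category.assoc])
  have h1 : IsPullback (pullback.fst i fst') (pullback.snd i fst' ≫ snd') (f ≫ j) g := by
    rw [← w]
    exact sqW.paste_vert sq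
  have h2 : IsPullback (pullback.fst i fst') snd₀ f (pullback.fst j g) :=
    IsPullback.of_bot (by rwa [pullback.lift_snd]) (pullback.lift_fst _ _ _).symm sqZ
  exact ⟨_, _, pullback.fst j g, pullback.snd j g, _, snd₀, pullback.snd i fst', hZ₀,
    isAlgSpace_of_isPullback_space hY hX hZ₀ h2, h2, hj.baseChange sqZ, hi.baseChange sqW, pullback.lift_snd _ _ _⟩

variable {X X' Y Y' : Sp S} {i : X ⟶ X'} {j : Y ⟶ Y'} {f : X ⟶ Y} {f' : X' ⟶ Y'}

theorem surjective_iff (hi : IsUH i) (hj : IsUH j) (w : i ≫ f' = f ≫ j) :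
    IsSurjectiveMor f ↔ IsSurjectiveMor f' := by
  have h : ∀ x, Points.map j (Points.map f x) = Points.map f' (Points.map i x) := fun x => by
    rw [← Points.map_comp, ← Points.map_comp, w]
  refine ⟨fun hf y => ?_, fun hf y => ?_⟩
  · obtain ⟨y₀, rfl⟩ := hj.bijective.2 y
    obtain ⟨x, rfl⟩ := hf y₀
    exact ⟨Points.map i x, (h x).symm⟩
  · obtain ⟨x', hx'⟩ := hf (Points.map j y)
    obtain ⟨x, rfl⟩ := hi.bijective.2 x'
    exact ⟨x, hj.bijective.1 ((h x).trans hx')⟩

/-- transfer of universal properties of the map on points invariant under homeomorphism -/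
theorem univSp_iff (hX : IsAlgSpace X) (hX' : IsAlgSpace X') (hY : IsAlgSpace Y) (hY' : IsAlgSpace Y') (hi : IsUH i)
    (hj : IsUH j) [Mono j] (w : i ≫ f' = f ≫ j) (Q : MorphismProperty (Sp S))
    (hQ : ∀ {A A' B B' : Sp S} (a : A ⟶ A') (b : B ⟶ B') (q : A ⟶ B) (q' : A' ⟶ B'),
      IsHomeomorph (Points.map a) → IsHomeomorph (Points.map b) →
      (∀ x, Points.map b (Points.map q x) = Points.map q' (Points.map a x)) → (Q q ↔ Q q')) :
    UnivSp Q f ↔ UnivSp Q f' := by
  constructor
  · intro h Z W' hZ g fst' snd' sq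
    obtain ⟨Z₀, W₀, y, z, x, snd₀, e, hZ₀, -, sq₀, hz, he, hw⟩ := exists_up hX hY hY' hi hj w hZ sq
    exact (hQ e z snd₀ snd' he.isHomeomorph hz.isHomeomorph fun p => by
      rw [← Points.map_comp, ← Points.map_comp, hw]).1 (h hZ₀ y x snd₀ sq₀)
  · intro h Z W hZ g fst snd sq
    obtain ⟨W', fst', snd', e, -, sq', he, hw⟩ := exists_down hY' hX' hi w hZ sq
    exact (hQ e (𝟙 Z) snd snd' he.isHomeomorph (by
      rw [show Points.map (𝟙 Z) = id from funext Points.map_id]; exact IsHomeomorph.id) fun p => by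
      rw [Points.map_id, ← Points.map_comp, hw]).2 (h hZ (g ≫ j) fst' snd' sq')

theorem univClosed_iff (hX : IsAlgSpace X) (hX' : IsAlgSpace X') (hY : IsAlgSpace Y) (hY' : IsAlgSpace Y')
    (hi : IsUH i) (hj : IsUH j) [Mono j] (w : i ≫ f' = f ≫ j) : IsUnivClosedMor f ↔ IsUnivClosedMor f' :=
  univSp_iff hX hX' hY hY' hi hj w IsClosedMor fun a b q q' ha hb h => by
    constructor
    · intro hq C hC
      have : Points.map q' '' C = Points.map b '' (Points.map q '' (Points.map a ⁻¹' C)) := by
        rw [← Set.image_comp, show Points.map b ∘ Points.map q = Points.map q' ∘ Points.map a from funext h,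
          Set.image_comp, Set.image_preimage_eq _ ha.surjective]
      rw [this]
      exact hb.isClosedMap _ (hq _ (hC.preimage ha.continuous))
    · intro hq C hC
      have : Points.map q '' C = Points.map b ⁻¹' (Points.map q' '' (Points.map a '' C)) := by
        rw [← Set.image_comp, ← show Points.map b ∘ Points.map q = Points.map q' ∘ Points.map a from funext h,
          Set.image_comp, Set.preimage_image_eq _ hb.injective]
      rw [this]
      exact (hq _ (ha.isClosedMap _ hC)).preimage hb.continuous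

theorem univOpen_iff (hX : IsAlgSpace X) (hX' : IsAlgSpace X') (hY : IsAlgSpace Y) (hY' : IsAlgSpace Y')
    (hi : IsUH i) (hj : IsUH j) [Mono j] (w : i ≫ f' = f ≫ j) : IsUnivOpenMor f ↔ IsUnivOpenMor f' :=
  univSp_iff hX hX' hY hY' hi hj w IsOpenMor fun a b q q' ha hb h => by
    constructor
    · intro hq C hC
      have : Points.map q' '' C = Points.map b '' (Points.map q '' (Points.map a ⁻¹' C)) := by
        rw [← Set.image_comp, show Points.map b ∘ Points.map q = Points.map q' ∘ Points.map a from funext h,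
          Set.image_comp, Set.image_preimage_eq _ ha.surjective]
      rw [this]
      exact hb.isOpenMap _ (hq _ (hC.preimage ha.continuous))
    · intro hq C hC
      have : Points.map q '' C = Points.map b ⁻¹' (Points.map q' '' (Points.map a '' C)) := by
        rw [← Set.image_comp, ← show Points.map b ∘ Points.map q = Points.map q' ∘ Points.map a from funext h,
          Set.image_comp, Set.preimage_image_eq _ hb.injective]
      rw [this]
      exact (hq _ (ha.isOpenMap _ hC)).preimage hb.continuous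

theorem univInjective_iff (hX : IsAlgSpace X) (hX' : IsAlgSpace X') (hY : IsAlgSpace Y) (hY' : IsAlgSpace Y')
    (hi : IsUH i) (hj : IsUH j) [Mono j] (w : i ≫ f' = f ≫ j) : IsUnivInjectiveMor f ↔ IsUnivInjectiveMor f' :=
  univSp_iff hX hX' hY hY' hi hj w (fun _ _ m => Function.Injective (Points.map m)) fun a b q q' ha hb h => by
    rw [← hb.injective.of_comp_iff (Points.map q), show Points.map b ∘ Points.map q = Points.map q' ∘ Points.map a
      from funext h]
    exact Function.Injective.of_comp_iff' _ ha.bijective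

theorem quasiCompact_iff (hX : IsAlgSpace X) (hX' : IsAlgSpace X') (hY : IsAlgSpace Y) (hY' : IsAlgSpace Y')
    (hi : IsUH i) (hj : IsUH j) [Mono j] (w : i ≫ f' = f ≫ j) : IsQuasiCompactMor f ↔ IsQuasiCompactMor f' := by
  constructor
  · intro h Z W' hZ hZq g fst' snd' sq
    obtain ⟨Z₀, W₀, y, z, x, snd₀, e, hZ₀, hW₀, sq₀, hz, he, -⟩ := exists_up hX hY hY' hi hj w hZ sq
    have := hz.compactSpace_iff.2 (compactSpace_of_isQuasiCompactSp hZq)
    have := compactSpace_of_isQuasiCompactSp (h hZ₀ (isQuasiCompactSp_of_compactSpace hZ₀) y x snd₀ sq₀)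
    have := he.compactSpace_iff.1 this
    exact isQuasiCompactSp_of_compactSpace (isAlgSpace_of_isPullback_space hY' hX' hZ sq)
  · intro h Z W hZ hZq g fst snd sq
    obtain ⟨W', fst', snd', e, -, sq', he, -⟩ := exists_down hY' hX' hi w hZ sq
    have := he.compactSpace_iff.2 (compactSpace_of_isQuasiCompactSp (h hZ hZq (g ≫ j) fst' snd' sq'))
    exact isQuasiCompactSp_of_compactSpace (isAlgSpace_of_isPullback_space hY hX hZ sq)

theorem IsUH.pullback_map (hi : IsUH i) [Mono i] [Mono j] (w : i ≫ f' = f ≫ j) :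
    ∃ m : pullback f f ⟶ pullback f' f', IsUH m ∧ Mono m ∧ pullback.diagonal f ≫ m = i ≫ pullback.diagonal f' := by
  have sqA := IsPullback.of_hasPullback (i ≫ f') f'
  have h1 : IsPullback (pullback.snd f f) (pullback.fst f f) (i ≫ f') (i ≫ f') := by
    rw [w]; exact isPullback_comp_mono (IsPullback.of_hasPullback f f).flip j
  let mid : pullback f f ⟶ pullback (i ≫ f') f' := pullback.lift (pullback.fst f f) (pullback.snd f f ≫ i) (by
    rw [Category.assoc, w, pullback.condition_assoc])
  have h2 : IsPullback (pullback.snd f f) mid i (pullback.snd (i ≫ f') f') :=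
    IsPullback.of_bot (by rwa [pullback.lift_fst]) (pullback.lift_snd _ _ _).symm sqA.flip
  let top : pullback (i ≫ f') f' ⟶ pullback f' f' := pullback.lift (pullback.fst _ _ ≫ i) (pullback.snd _ _) (by
    rw [Category.assoc, pullback.condition])
  have h3 : IsPullback (pullback.fst (i ≫ f') f') top i (pullback.fst f' f') :=
    IsPullback.of_bot (by rw [pullback.lift_snd]; exact sqA) (pullback.lift_fst _ _ _).symm
      (IsPullback.of_hasPullback f' f')
  have : Mono mid := h2.mono_snd_of_mono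
  have : Mono top := h3.mono_snd_of_mono
  refine ⟨mid ≫ top, (hi.baseChange h2).comp (hi.baseChange h3), mono_comp _ _, ?_⟩
  apply pullback.hom_ext
  · simp only [mid, top, Category.assoc, pullback.lift_fst, pullback.diagonal_fst, Category.comp_id]
    rw [pullback.lift_fst_assoc, pullback.diagonal_fst_assoc]
  · simp only [mid, top, Category.assoc, pullback.lift_snd, pullback.diagonal_snd, Category.comp_id]
    rw [pullback.diagonal_snd_assoc]

end Groth.Agent.EtInvariance
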