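import Groth.Agent.EtInvariance.Lift
import Groth.Agent.AlgSpLib.Quotient

/-!
# Essential surjectivity of base change along a universal homeomorphism
-/

universe u

open CategoryTheory CategoryTheory.Limits AlgebraicGeometry Opposite Topology

set_option backward.isDefEq.respectTransparency false

namespace Groth.Agent.EtInvariance

open _root_.AlgSp Groth.Agent.AlgSpLib

variable {S : Scheme.{u}}

/-- two étale surjections from a scheme identifying the same pairs of points have isomorphic targets -/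
theorem exists_iso_of_same_kernel {Z : Over S} {V W : Sp S} (hV : IsAlgSpace V) (hW : IsAlgSpace W)
    (q : (yon S).obj Z ⟶ V) (π : (yon S).obj Z ⟶ W) (hqe : RepWith @Etale q) (hqs : RepWith @Surjective q)
    (hπe : RepWith @Etale π) (hπs : RepWith @Surjective π)
    (h : ∀ (T : Over S) (p₁ p₂ : T ⟶ Z), (yon S).map p₁ ≫ q = (yon S).map p₂ ≫ q ↔
      (yon S).map p₁ ≫ π = (yon S).map p₂ ≫ π) :
    ∃ e : V ≅ W, q ≫ e.hom = π := by
  have := isLocallySurjective_of_atlas hqe hqs
  have := isLocallySurjective_of_atlas hπe hπs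
  obtain ⟨R₁, t₁, s₁, sq₁⟩ := exists_pullback hV.diag q q
  obtain ⟨R₂, t₂, s₂, sq₂⟩ := exists_pullback hW.diag π π
  obtain ⟨hc₁⟩ := isColimit_of_isPullback sq₁
  obtain ⟨hc₂⟩ := isColimit_of_isPullback sq₂
  let θ : V ⟶ W := hc₁.desc (Cofork.ofπ π ((h _ t₁ s₁).1 sq₁.w))
  let θ' : W ⟶ V := hc₂.desc (Cofork.ofπ q ((h _ t₂ s₂).2 sq₂.w))
  have hθ : q ≫ θ = π := hc₁.fac _ WalkingParallelPair.one
  have hθ' : π ≫ θ' = q := hc₂.fac _ WalkingParallelPair.one
  have : Epi q := (Sheaf.isLocallySurjective_iff_epi _).1 inferInstance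
  have : Epi π := (Sheaf.isLocallySurjective_iff_epi _).1 inferInstance
  exact ⟨⟨θ, θ', (cancel_epi q).1 (by rw [reassoc_of% hθ, hθ', Category.comp_id]),
    (cancel_epi π).1 (by rw [reassoc_of% hθ', hθ, Category.comp_id])⟩, hθ⟩

theorem repWith_openImm_diag {V X : Sp S} (hV : IsAlgSpace V) (hX : IsAlgSpace X) (b : V ⟶ X) (hb : IsEtaleMor b) :
    RepWith @IsOpenImmersion (pullback.diagonal b) := by
  have sq := IsPullback.of_hasPullback b b
  have hP : IsAlgSpace (pullback b b) := isAlgSpace_of_isPullback_space hX hV hV sq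
  have : IsSplitMono (pullback.diagonal b) := ⟨⟨pullback.fst b b, pullback.diagonal_fst b⟩⟩
  exact repWith_isOpenImmersion_of_mono hV hP _ (isEtaleMor_of_comp hP hV (g := pullback.fst b b)
    (by rw [pullback.diagonal_fst]; exact fun U φ hφ => by rw [Category.comp_id]; exact hφ)
    (isEtaleMor_baseChange hV hV hX sq hb))

/-- the locus where two maps into an étale space agree -/
theorem exists_agree {V X : Sp S} (hV : IsAlgSpace V) (hX : IsAlgSpace X) (b : V ⟶ X) (hb : IsEtaleMor b)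
    {M : Over S} (q₁ q₂ : (yon S).obj M ⟶ V) (e : q₁ ≫ b = q₂ ≫ b) :
    ∃ O : Set (Points ((yon S).obj M)), IsOpen O ∧ ∀ (T : Sp S) (z : T ⟶ (yon S).obj M),
      z ≫ q₁ = z ≫ q₂ ↔ Set.range (Points.map z) ⊆ O := by
  have sqb := IsPullback.of_hasPullback b b
  have hP : IsAlgSpace (pullback b b) := isAlgSpace_of_isPullback_space hX hV hV sqb
  have sq := IsPullback.of_hasPullback (pullback.diagonal b) (pullback.lift q₁ q₂ e)
  have hR : IsAlgSpace (pullback (pullback.diagonal b) (pullback.lift q₁ q₂ e)) :=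
    isAlgSpace_of_isPullback_space hP hV (IsAlgSpace.yon_obj _) sq
  let j := pullback.snd (pullback.diagonal b) (pullback.lift q₁ q₂ e)
  have hj : RepWith @IsOpenImmersion j := repWith_baseChange sq (repWith_openImm_diag hV hX b hb)
  have : Mono j := mono_of_repWith_immersion (repWith_mono (P := @IsOpenImmersion) (Q := @IsImmersion)
    (fun _ _ g hg => have : IsOpenImmersion g := hg; inferInstance) hj)
  refine ⟨Set.range (Points.map j), (exists_iso_subSheaf_of_mono hR (IsAlgSpace.yon_obj _) j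
    (isEtaleMor_of_repWith' (repWith_etale_of_openImm hj))).1, fun T z => ?_⟩
  rw [← exists_factor_iff hR (IsAlgSpace.yon_obj _) j hj z]
  constructor
  · intro hz
    exact ⟨pullback.lift (z ≫ q₁) z (pullback.hom_ext (by simp) (by simp [hz])), pullback.lift_snd _ _ _⟩
  · rintro ⟨g, rfl⟩
    have h1 : j ≫ q₁ = j ≫ q₂ := by
      have h := pullback.condition (f := pullback.diagonal b) (g := pullback.lift q₁ q₂ e)
      have h1 := congrArg (fun m => m ≫ pullback.fst b b) h
      have h2 := congrArg (fun m => m ≫ pullback.snd b b) h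
      simp only [Category.assoc, pullback.diagonal_fst, pullback.diagonal_snd, pullback.lift_fst, pullback.lift_snd,
        Category.comp_id] at h1 h2
      exact h1.symm.trans h2
    rw [Category.assoc, Category.assoc, h1]

/-- every étale space over the source is a base change of an étale space over the target -/
theorem exists_descend {X Y V : Sp S} (hX : IsAlgSpace X) (hY : IsAlgSpace Y) (hV : IsAlgSpace V) (f : X ⟶ Y)
    (hf : IsUH f) (b : V ⟶ X) (hb : IsEtaleMor b) :
    ∃ (V' : Sp S) (a : V' ⟶ Y) (c : V ⟶ V'), IsAlgSpace V' ∧ IsEtaleMor a ∧ IsPullback b c f a := by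
  obtain ⟨W, w, P, g, c, q, hw, sqP, hqg, hqe, hqs⟩ := exists_cover hX hY hV f hf b hb
  obtain ⟨M, m₁, m₂, sqM⟩ := exists_pullback hY.diag w w
  obtain ⟨M₀, n₁, k, sq₁⟩ := exists_pullback (IsAlgSpace.yon_obj W).diag ((yon S).map c) ((yon S).map m₁)
  have hk : IsUH ((yon S).map k) := (hf.baseChange sqP).baseChange sq₁
  obtain ⟨n₂, hn₂⟩ := exists_map_eq (sqP.lift ((yon S).map n₁ ≫ g) ((yon S).map k ≫ (yon S).map m₂) (by
    rw [Category.assoc, Category.assoc, sqP.w, sq₁.w_assoc, sqM.w]))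
  have hn₂g : (yon S).map n₂ ≫ g = (yon S).map n₁ ≫ g := by rw [hn₂, sqP.lift_fst]
  have hn₂c : (yon S).map n₂ ≫ (yon S).map c = (yon S).map k ≫ (yon S).map m₂ := by rw [hn₂, sqP.lift_snd]
  obtain ⟨O₀, hO₀, hagree⟩ := exists_agree hV hX b hb ((yon S).map n₁ ≫ q) ((yon S).map n₂ ≫ q)
    (by rw [Category.assoc, Category.assoc, hqg, hn₂g])
  let O : Set (Points ((yon S).obj M)) := Points.map ((yon S).map k) '' O₀
  have hkO : Points.map ((yon S).map k) ⁻¹' O = O₀ := Set.preimage_image_eq _ hk.bijective.1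
  have hOo : IsOpen O := hk.isOpen_of_preimage (hkO.symm ▸ hO₀)
  let U : M.left.Opens := ⟨Points.schemeHomeo M ⁻¹' O, hOo.preimage (Points.schemeHomeo M).continuous⟩
  let R : Over S := Over.mk (U.ι ≫ M.hom)
  let ι : R ⟶ M := Over.homMk U.ι rfl
  have : Mono ι := (Over.forget S).mono_of_mono_map (inferInstanceAs (Mono U.ι))
  have hfac : ∀ {T : Over S} (m : T ⟶ M),
      (∃ r : T ⟶ R, r ≫ ι = m) ↔ Set.range (Points.map ((yon S).map m)) ⊆ O := fun {T} m => by
    constructor
    · rintro ⟨r, rfl⟩ _ ⟨x, rfl⟩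
      obtain ⟨x, rfl⟩ := (Points.schemeHomeo T).surjective x
      rw [Points.map_yon_map_apply]
      exact (r.left x).2
    · intro h
      have hr : Set.range m.left ⊆ Set.range U.ι := by
        rintro _ ⟨x, rfl⟩
        rw [Scheme.Opens.range_ι]
        show Points.schemeHomeo M (m.left x) ∈ O
        rw [← Points.map_yon_map_apply]
        exact h ⟨_, rfl⟩
      exact ⟨Over.homMk (IsOpenImmersion.lift U.ι m.left hr) (by
          show IsOpenImmersion.lift U.ι m.left hr ≫ U.ι ≫ M.hom = T.hom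
          rw [IsOpenImmersion.lift_fac_assoc, Over.w m]),
        Over.OverMorphism.ext (IsOpenImmersion.lift_fac _ _ _)⟩
  -- pairs of points of `W` related by `R`
  have hiff : ∀ {T : Over S} (a₁ a₂ : T ⟶ W), (∃ r : T ⟶ R, r ≫ ι ≫ m₁ = a₁ ∧ r ≫ ι ≫ m₂ = a₂) ↔
      ((yon S).map a₁ ≫ w = (yon S).map a₂ ≫ w ∧ ∀ (T₀ : Over S) (d : T₀ ⟶ T) (p₁ p₂ : T₀ ⟶ P),
        p₁ ≫ c = d ≫ a₁ → p₂ ≫ c = d ≫ a₂ → (yon S).map p₁ ≫ g = (yon S).map p₂ ≫ g →
        (yon S).map p₁ ≫ q = (yon S).map p₂ ≫ q) := fun {T} a₁ a₂ => by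
    constructor
    · rintro ⟨r, rfl, rfl⟩
      refine ⟨by simp only [Functor.map_comp, Category.assoc, sqM.w], fun T₀ d p₁ p₂ e₁ e₂ eg => ?_⟩
      obtain ⟨z, hz⟩ := exists_map_eq (sq₁.lift ((yon S).map p₁) ((yon S).map (d ≫ r ≫ ι)) (by
        rw [← Functor.map_comp, ← Functor.map_comp, e₁, Category.assoc, Category.assoc]))
      have h1 : (yon S).map z ≫ (yon S).map n₁ = (yon S).map p₁ := by rw [hz, sq₁.lift_fst]
      have h2 : (yon S).map z ≫ (yon S).map k = (yon S).map (d ≫ r ≫ ι) := by rw [hz, sq₁.lift_snd]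
      have h3 : (yon S).map z ≫ (yon S).map n₂ = (yon S).map p₂ := sqP.hom_ext
        (by rw [Category.assoc, hn₂g, reassoc_of% h1, eg])
        (by rw [Category.assoc, hn₂c, reassoc_of% h2]; simp only [← Functor.map_comp, e₂, Category.assoc])
      rw [← h1, ← h3, Category.assoc, Category.assoc]
      refine (hagree _ _).2 ?_
      rintro _ ⟨x, rfl⟩
      rw [← hkO, Set.mem_preimage, ← Points.map_comp, h2]
      exact (hfac (d ≫ r ≫ ι)).1 ⟨d ≫ r, Category.assoc _ _ _⟩ ⟨x, rfl⟩
    · rintro ⟨hw', H⟩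
      obtain ⟨m, hm⟩ := exists_map_eq (sqM.lift ((yon S).map a₁) ((yon S).map a₂) hw')
      have h1 : m ≫ m₁ = a₁ := (yon S).map_injective (by rw [Functor.map_comp, hm, sqM.lift_fst])
      have h2 : m ≫ m₂ = a₂ := (yon S).map_injective (by rw [Functor.map_comp, hm, sqM.lift_snd])
      obtain ⟨T₀, zf, d, sq₀, -, -, hds⟩ := hk.exists_scheme ((yon S).map m)
      obtain ⟨z, rfl⟩ := exists_map_eq zf
      have hzd : z ≫ k = d ≫ m := (yon S).map_injective (by simpa using sq₀.w)
      have hz₀ : Set.range (Points.map ((yon S).map z)) ⊆ O₀ := (hagree _ _).1 (by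
        rw [← Category.assoc, ← Category.assoc, ← Functor.map_comp, ← Functor.map_comp]
        refine H T₀ d _ _ ?_ ?_ ?_
        · rw [Category.assoc, ← h1, ← reassoc_of% hzd]
          congr 1
          exact (yon S).map_injective (by simpa using sq₁.w)
        · rw [Category.assoc, ← h2, ← reassoc_of% hzd]
          congr 1
          exact (yon S).map_injective (by simpa using hn₂c)
        · simp only [Functor.map_comp, Category.assoc, hn₂g])
      obtain ⟨r, hr⟩ := (hfac m).2 (by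
        rintro _ ⟨x, rfl⟩
        obtain ⟨x₀, rfl⟩ := isSurjectiveMor_of_repWith ((repWith_yon_iff d).2 hds) x
        refine ⟨_, hz₀ ⟨x₀, rfl⟩, ?_⟩
        rw [← Points.map_comp, ← Points.map_comp, ← Functor.map_comp, ← Functor.map_comp, hzd])
      exact ⟨r, by rw [reassoc_of% hr, h1], by rw [reassoc_of% hr, h2]⟩
  have hrel : IsEtaleEqvRel (ι ≫ m₂) (ι ≫ m₁) := by
    refine ⟨⟨fun T r r' e₁ e₂ => ?_, fun T => ⟨fun a => (hiff a a).2 ⟨rfl, fun T₀ d p₁ p₂ e₁ e₂ eg => ?_⟩,
      fun {a₁ a₂} h => (hiff a₂ a₁).2 ?_, fun {a₁ a₂ a₃} h h' => (hiff a₁ a₃).2 ?_⟩⟩, ?_, ?_⟩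
    · rw [← cancel_mono ι]
      refine (yon S).map_injective (sqM.hom_ext ?_ ?_)
      · simp only [← Functor.map_comp, Category.assoc, e₁]
      · simp only [← Functor.map_comp, Category.assoc, e₂]
    · rw [sqP.hom_ext eg (by rw [← Functor.map_comp, ← Functor.map_comp, e₁, e₂])]
    · obtain ⟨hw', H⟩ := (hiff a₁ a₂).1 h
      exact ⟨hw'.symm, fun T₀ d p₁ p₂ e₁ e₂ eg => (H T₀ d p₂ p₁ e₂ e₁ eg.symm).symm⟩
    · obtain ⟨hw₁, H₁⟩ := (hiff a₁ a₂).1 h
      obtain ⟨hw₂, H₂⟩ := (hiff a₂ a₃).1 h'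
      refine ⟨hw₁.trans hw₂, fun T₀ d p₁ p₃ e₁ e₃ eg => ?_⟩
      obtain ⟨p₂, hp₂⟩ := exists_map_eq (sqP.lift ((yon S).map p₁ ≫ g) ((yon S).map (d ≫ a₂)) (by
        rw [Category.assoc, sqP.w, ← Category.assoc, ← Functor.map_comp, e₁, Functor.map_comp, Functor.map_comp,
          Category.assoc, Category.assoc, hw₁]))
      have e₂ : p₂ ≫ c = d ≫ a₂ := (yon S).map_injective (by rw [Functor.map_comp, hp₂, sqP.lift_snd])
      have eg₂ : (yon S).map p₂ ≫ g = (yon S).map p₁ ≫ g := by rw [hp₂, sqP.lift_fst]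
      exact (H₁ T₀ d p₁ p₂ e₁ e₂ eg₂.symm).trans (H₂ T₀ d p₂ p₃ e₂ e₃ (eg₂.trans eg))
    · exact MorphismProperty.comp_mem @Etale _ _ (inferInstanceAs (Etale U.ι)) (hw.2 w _ m₂ sqM)
    · exact MorphismProperty.comp_mem @Etale _ _ (inferInstanceAs (Etale U.ι)) (hw.2 w _ m₁ sqM.flip)
  obtain ⟨hA, hpres⟩ := isPresentation_of_coequalizer hrel (isColimitQuotProj (ι ≫ m₂) (ι ≫ m₁))
  let π := quotProj (ι ≫ m₂) (ι ≫ m₁)
  let a := (isColimitQuotProj (ι ≫ m₂) (ι ≫ m₁)).desc (Cofork.ofπ w (by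
    simp only [Functor.map_comp, Category.assoc, sqM.w]))
  have hπa : π ≫ a = w := (isColimitQuotProj (ι ≫ m₂) (ι ≫ m₁)).fac _ WalkingParallelPair.one
  have ha : IsEtaleMor a := (isEtaleMor_iff_locP hY).2 (locP_of_comp_surjective etST_etale hA hpres.etale
    hpres.surjective ((isEtaleMor_iff_locP hY).1 (by rw [hπa]; exact isEtaleMor_of_repWith' hw)))
  have sqX := IsPullback.of_hasPullback f a
  have hX' : IsAlgSpace (pullback f a) := isAlgSpace_of_isPullback_space hY hX hA sqX
  let π₀ : (yon S).obj P ⟶ pullback f a := pullback.lift g ((yon S).map c ≫ π) (by rw [Category.assoc, hπa, sqP.w])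
  have sq₀ : IsPullback π₀ ((yon S).map c) (pullback.snd f a) π := by
    refine IsPullback.of_right ?_ (pullback.lift_snd _ _ _) sqX
    rw [hπa, pullback.lift_fst]
    exact sqP
  obtain ⟨e, he⟩ := exists_iso_of_same_kernel hV hX' q π₀ hqe hqs (repWith_baseChange sq₀.flip hpres.etale)
    (repWith_baseChange sq₀.flip hpres.surjective) fun T p₁ p₂ => by
      constructor
      · intro hq
        have eg : (yon S).map p₁ ≫ g = (yon S).map p₂ ≫ g := by rw [← hqg, reassoc_of% hq]
        obtain ⟨z, hz⟩ := exists_map_eq (sq₁.lift ((yon S).map p₁)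
          (sqM.lift ((yon S).map (p₁ ≫ c)) ((yon S).map (p₂ ≫ c)) (by
            simp only [Functor.map_comp, Category.assoc, ← sqP.w]
            rw [reassoc_of% eg]))
          (by rw [sqM.lift_fst, Functor.map_comp]))
        have h1 : (yon S).map z ≫ (yon S).map n₁ = (yon S).map p₁ := by rw [hz, sq₁.lift_fst]
        have h3 : (yon S).map z ≫ (yon S).map n₂ = (yon S).map p₂ := sqP.hom_ext
          (by rw [Category.assoc, hn₂g, reassoc_of% h1, eg])
          (by rw [Category.assoc, hn₂c, hz, sq₁.lift_snd_assoc, sqM.lift_snd, Functor.map_comp])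
        have hO : Set.range (Points.map ((yon S).map z)) ⊆ O₀ := (hagree _ _).1 (by
          rw [reassoc_of% h1, reassoc_of% h3, hq])
        obtain ⟨r, hr⟩ := (hfac (z ≫ k)).2 (by
          rintro _ ⟨x, rfl⟩
          rw [Functor.map_comp, Points.map_comp]
          exact ⟨_, hO ⟨x, rfl⟩, rfl⟩)
        apply pullback.hom_ext
        · simpa [π₀] using eg
        · have e₁ : (yon S).map (z ≫ k) ≫ (yon S).map m₁ = (yon S).map p₁ ≫ (yon S).map c := by
            rw [Functor.map_comp, hz, sq₁.lift_snd, sqM.lift_fst, Functor.map_comp]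
          have e₂ : (yon S).map (z ≫ k) ≫ (yon S).map m₂ = (yon S).map p₂ ≫ (yon S).map c := by
            rw [Functor.map_comp, hz, sq₁.lift_snd, sqM.lift_snd, Functor.map_comp]
          simp only [π₀, Category.assoc, pullback.lift_snd]
          rw [← reassoc_of% e₁, ← reassoc_of% e₂, ← hr, (yon S).map_comp r ι, Category.assoc, Category.assoc]
          congr 1
          have := hpres.isPullback.w
          simpa only [Functor.map_comp, Category.assoc] using this
      · intro h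
        have eg : (yon S).map p₁ ≫ g = (yon S).map p₂ ≫ g := by
          simpa [π₀] using congrArg (fun m => m ≫ pullback.fst f a) h
        have hπ : (yon S).map (p₁ ≫ c) ≫ π = (yon S).map (p₂ ≫ c) ≫ π := by
          simpa [π₀] using congrArg (fun m => m ≫ pullback.snd f a) h
        obtain ⟨r, hr⟩ := exists_map_eq (hpres.isPullback.lift _ _ hπ)
        have hr₁ : r ≫ ι ≫ m₁ = p₁ ≫ c := (yon S).map_injective (by
          rw [Functor.map_comp, hr, hpres.isPullback.lift_fst])
        have hr₂ : r ≫ ι ≫ m₂ = p₂ ≫ c := (yon S).map_injective (by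
          rw [Functor.map_comp, hr, hpres.isPullback.lift_snd])
        exact ((hiff _ _).1 ⟨r, hr₁, hr₂⟩).2 T (𝟙 _) p₁ p₂ (Category.id_comp _).symm (Category.id_comp _).symm eg
  refine ⟨_, a, e.hom ≫ pullback.snd f a, hA, ha, ?_⟩
  have : Sheaf.IsLocallySurjective q := isLocallySurjective_of_atlas hqe hqs
  have : Epi q := (Sheaf.isLocallySurjective_iff_epi _).1 inferInstance
  have heb : e.hom ≫ pullback.fst f a = b := by
    rw [← cancel_epi q, reassoc_of% he, pullback.lift_fst, hqg]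
  exact sqX.of_iso e.symm (Iso.refl _) (Iso.refl _) (Iso.refl _) (by simp [← heb]) (by simp) (by simp) (by simp)

end Groth.Agent.EtInvariance
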