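import Groth.Agent.S0075
import Mathlib.CategoryTheory.Sites.Equivalence
import Mathlib.CategoryTheory.Adjunction.FullyFaithful
import Groth.Prelude.Def_EtBase

/-!
# The etale topos of a universal homeomorphism
-/

universe u

open CategoryTheory CategoryTheory.Limits AlgebraicGeometry Opposite

set_option backward.isDefEq.respectTransparency false

namespace Groth.Agent.EtInvariance

theorem isDenseSubsite_bc {X Y : Scheme.{u}} (f : X ⟶ Y) [IsIntegralHom f] [UniversallyInjective f] [Surjective f] :
    (EtCoh.bc f).IsDenseSubsite Y.smallEtaleTopology X.smallEtaleTopology := by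
  have : (EtCoh.bc f).IsEquivalence := Groth.Agent.S0075.result f
  refine ⟨inferInstance, inferInstance, inferInstance, fun {U S} => ⟨fun h => ?_, fun h => (EtCoh.coverPreserving_bc f).cover_preserve h⟩⟩
  have eY : Y.smallEtaleTopology = (Y.smallPretopology (P := EtCoh.etaleMP) (Q := EtCoh.etaleMP)).toGrothendieck :=
    Scheme.smallGrothendieckTopology_eq_toGrothendieck_smallPretopology Y le_rfl
  have eX : X.smallEtaleTopology = (X.smallPretopology (P := EtCoh.etaleMP) (Q := EtCoh.etaleMP)).toGrothendieck :=
    Scheme.smallGrothendieckTopology_eq_toGrothendieck_smallPretopology X le_rfl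
  rw [eX] at h
  rw [eY]
  refine (Scheme.mem_toGrothendieck_smallPretopology U S).2 fun x => ?_
  obtain ⟨x', rfl⟩ := (pullback.fst U.hom f).surjective x
  obtain ⟨V', g, v, ⟨V, k, h', hk, rfl⟩, -, hv⟩ := (Scheme.mem_toGrothendieck_smallPretopology _ _).1 h x'
  refine ⟨V, k, (pullback.fst V.hom f : ((EtCoh.bc f).obj V).left ⟶ V.left) (h'.left v), hk, inferInstance, ?_⟩
  rw [← hv]
  exact (congr($((EtCoh.isPullback_bc_map f k).w) (h'.left v))).symm

theorem push_isEquivalence {X Y : Scheme.{u}} (f : X ⟶ Y) [IsIntegralHom f] [UniversallyInjective f] [Surjective f] :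
    (EtCoh.push f).IsEquivalence := by
  have : (EtCoh.bc f).IsEquivalence := Groth.Agent.S0075.result f
  let e := (EtCoh.bc f).asEquivalence.symm
  have : e.inverse.IsDenseSubsite Y.smallEtaleTopology X.smallEtaleTopology := isDenseSubsite_bc f
  let E := e.sheafCongr X.smallEtaleTopology Y.smallEtaleTopology AddCommGrpCat.{u + 1}
  exact Functor.isEquivalence_of_iso (F := E.functor) (NatIso.ofComponents fun F => Iso.refl _)

theorem pull_isEquivalence {X Y : Scheme.{u}} (f : X ⟶ Y) [IsIntegralHom f] [UniversallyInjective f] [Surjective f] :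
    (EtCoh.pull f).IsEquivalence := by
  have := push_isEquivalence f
  exact (EtCoh.pullPushAdj f).isEquivalence_left_of_isEquivalence_right

end Groth.Agent.EtInvariance
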