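import Groth.Agent.EtInvariance.Points
import Groth.Agent.UnivInjMor.EtaleInj
import Groth.Agent.SpQS.MonoDiscrete

/-!
# Sections of étale morphisms extend uniquely along universal homeomorphisms
-/

universe u

open CategoryTheory CategoryTheory.Limits AlgebraicGeometry Opposite Topology

set_option backward.isDefEq.respectTransparency false

namespace Groth.Agent.EtInvariance

open _root_.AlgSp Groth.Agent.AlgSpLib

variable {S : Scheme.{u}}

lemma repWith_etale_of_openImm {F G : Sp S} {f : F ⟶ G} (h : RepWith @IsOpenImmersion f) : RepWith @Etale f :=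
  repWith_mono (P := @IsOpenImmersion) (Q := @Etale)
    (fun _ _ g hg => have : IsOpenImmersion g := hg; inferInstance) h

lemma isEtaleMor_comp {F G H : Sp S} {f : F ⟶ G} {g : G ⟶ H} (hf : RepWith @Etale f) (hg : IsEtaleMor g) :
    IsEtaleMor (f ≫ g) := fun U φ hφ => by
  rw [← Category.assoc]
  exact hg _ (repWith_comp hφ hf)

lemma isEtaleMor_baseChange {P X Y Z : Sp S} (hX : IsAlgSpace X) (hY : IsAlgSpace Y) (hZ : IsAlgSpace Z)
    {fst : P ⟶ X} {snd : P ⟶ Y} {f : X ⟶ Z} {g : Y ⟶ Z} (sq : IsPullback fst snd f g) (hg : IsEtaleMor g) :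
    IsEtaleMor fst :=
  have hP : IsAlgSpace P := isAlgSpace_of_isPullback_space hZ hX hY sq
  (isEtaleMor_iff_locP hX).2 (locP_baseChange etST_etale hY hZ hP hX sq.flip ((isEtaleMor_iff_locP hZ).1 hg))

theorem isIso_of_openImm_surjective {F G : Sp S} (hF : IsAlgSpace F) (hG : IsAlgSpace G) (f : F ⟶ G)
    (h : RepWith @IsOpenImmersion f) (hs : IsSurjectiveMor f) : IsIso f := by
  have : Mono f := mono_of_repWith_immersion (repWith_mono (P := @IsOpenImmersion) (Q := @IsImmersion)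
    (fun _ _ g hg => have : IsOpenImmersion g := hg; inferInstance) h)
  obtain ⟨g, hg⟩ := (exists_factor_iff hF hG f h (𝟙 G)).2 fun x _ => hs x
  exact ⟨g, (cancel_mono f).1 (by rw [Category.assoc, hg, Category.comp_id, Category.id_comp]), hg⟩

/-- sections of étale morphisms extend uniquely along universal homeomorphisms -/
theorem existsUnique_section {P T T₀ : Sp S} (hP : IsAlgSpace P) (hT : IsAlgSpace T) (hT₀ : IsAlgSpace T₀)
    (s : P ⟶ T) (hs : IsEtaleMor s) (c : T₀ ⟶ T) (hc : IsUH c) (σ : T₀ ⟶ P) (hσ : σ ≫ s = c) :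
    ∃! τ : T ⟶ P, τ ≫ s = 𝟙 T ∧ c ≫ τ = σ := by
  have sq := IsPullback.of_hasPullback c s
  have hP₀ : IsAlgSpace (pullback c s) := isAlgSpace_of_isPullback_space hT hT₀ hP sq
  have hb : IsUH (pullback.snd c s) := hc.baseChange sq
  have ha : IsEtaleMor (pullback.fst c s) := isEtaleMor_baseChange hT₀ hP hT sq hs
  let σ' : T₀ ⟶ pullback c s := pullback.lift (𝟙 _) σ (by rw [Category.id_comp, hσ])
  have h1 : σ' ≫ pullback.fst c s = 𝟙 _ := pullback.lift_fst _ _ _
  have h2 : σ' ≫ pullback.snd c s = σ := pullback.lift_snd _ _ _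
  have : IsSplitMono σ' := ⟨⟨_, h1⟩⟩
  have hσ' : IsEtaleMor σ' := isEtaleMor_of_comp hP₀ hT₀
    (g := pullback.fst c s) (by rw [h1]; exact fun U φ hφ => by rw [Category.comp_id]; exact hφ) ha
  have ho := repWith_isOpenImmersion_of_mono hT₀ hP₀ σ' hσ'
  have hW₀ := (exists_iso_subSheaf_of_mono hT₀ hP₀ σ' hσ').1
  let O : Set (Points P) := Set.range (Points.map σ)
  have hO : Points.map (pullback.snd c s) ⁻¹' O = Set.range (Points.map σ') := by
    ext x
    constructor
    · rintro ⟨t, ht⟩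
      rw [← h2, Points.map_comp] at ht
      exact ⟨t, hb.bijective.1 ht⟩
    · rintro ⟨t, rfl⟩
      exact ⟨t, by rw [← h2, Points.map_comp]⟩
  have hOo : IsOpen O := hb.isOpen_of_preimage (hO ▸ hW₀)
  let j := subInc O
  have hj := repWith_subInc hOo
  have hQ : IsAlgSpace (subSheaf O) := isAlgSpace_subSheaf hP hOo
  obtain ⟨σQ, hσQ⟩ := exists_factor_subInc (W := O) σ fun x => ⟨x, rfl⟩
  have hs' : IsEtaleMor (j ≫ s) := isEtaleMor_comp (repWith_etale_of_openImm hj) hs
  have hσs : σQ ≫ j ≫ s = c := by rw [← Category.assoc, hσQ, hσ]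
  have hsurj : IsSurjectiveMor (j ≫ s) := fun y => by
    obtain ⟨x, rfl⟩ := hc.bijective.2 y
    exact ⟨Points.map σQ x, by rw [← Points.map_comp, hσs]⟩
  have hinj : IsUnivInjectiveMor (j ≫ s) := by
    refine (UnivInjMor.injective_iff_isUnivInjectiveMor hQ _).1 fun K _ str q₁ q₂ e => ?_
    obtain ⟨W, fst, snd, sqW, -, -, hsW⟩ := hc.exists_scheme (q₁ ≫ j ≫ s)
    have key : ∀ q : (yon S).obj (Over.mk str) ⟶ subSheaf O, q ≫ j ≫ s = q₁ ≫ j ≫ s →
        (yon S).map snd ≫ q ≫ j = fst ≫ σ := fun q hq => by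
      let v : (yon S).obj W ⟶ pullback c s := pullback.lift fst ((yon S).map snd ≫ q ≫ j) (by
        rw [Category.assoc, Category.assoc, hq, sqW.w])
      obtain ⟨w, hw⟩ := (exists_factor_iff hT₀ hP₀ σ' ho v).2 (by
        rintro _ ⟨x, rfl⟩
        rw [← hO, Set.mem_preimage, ← Points.map_comp, pullback.lift_snd, ← Category.assoc, Points.map_comp]
        exact map_subInc_mem _)
      have hwf : w = fst := by
        rw [← Category.comp_id w, ← h1, ← Category.assoc, hw, pullback.lift_fst]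
      calc (yon S).map snd ≫ q ≫ j = v ≫ pullback.snd c s := (pullback.lift_snd _ _ _).symm
        _ = fst ≫ σ := by rw [← hw, Category.assoc, h2, hwf]
    have := hsW
    obtain ⟨k, -⟩ := snd.left.surjective (IsLocalRing.closedPoint K)
    refine UnivInjMor.hom_ext_of_point hQ q₁ q₂ snd k ?_
    rw [← cancel_mono j, Category.assoc, Category.assoc, key q₁ rfl, key q₂ e.symm]
  have : IsIso (j ≫ s) := isIso_of_openImm_surjective hQ hT _
    (UnivInjMor.repWith_isOpenImmersion_of_etale_univInj hQ hT _ hs' hinj) hsurj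
  refine ⟨inv (j ≫ s) ≫ j, ⟨by rw [Category.assoc, IsIso.inv_hom_id], ?_⟩, fun τ hτ => ?_⟩
  · have : c ≫ inv (j ≫ s) = σQ := by rw [IsIso.comp_inv_eq, hσs]
    rw [← Category.assoc, this, hσQ]
  · obtain ⟨τQ, rfl⟩ := exists_factor_subInc (W := O) τ fun y => by
      obtain ⟨x, rfl⟩ := hc.bijective.2 y
      exact ⟨x, by rw [← Points.map_comp, hτ.2]⟩
    have : τQ = inv (j ≫ s) := IsIso.eq_inv_of_inv_hom_id (by simpa using hτ.1)
    rw [this]

/-- morphisms into étale objects extend uniquely along universal homeomorphisms -/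
theorem existsUnique_extend {V₀ V W Y : Sp S} (hV₀ : IsAlgSpace V₀) (hV : IsAlgSpace V) (hW : IsAlgSpace W)
    (hY : IsAlgSpace Y) (a : V ⟶ Y) (w : W ⟶ Y) (hw : IsEtaleMor w) (c : V₀ ⟶ V) (hc : IsUH c) (h : V₀ ⟶ W)
    (e : h ≫ w = c ≫ a) : ∃! φ : V ⟶ W, φ ≫ w = a ∧ c ≫ φ = h := by
  have sq := IsPullback.of_hasPullback a w
  obtain ⟨τ, ⟨hτ₁, hτ₂⟩, huniq⟩ := existsUnique_section (isAlgSpace_of_isPullback_space hY hV hW sq) hV hV₀
    (pullback.fst a w) (isEtaleMor_baseChange hV hW hY sq hw) c hc (pullback.lift c h e.symm) (pullback.lift_fst _ _ _)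
  refine ⟨τ ≫ pullback.snd a w, ⟨?_, ?_⟩, fun φ hφ => ?_⟩
  · rw [Category.assoc, ← pullback.condition, ← Category.assoc, hτ₁, Category.id_comp]
  · rw [← Category.assoc, hτ₂, pullback.lift_snd]
  · rw [← huniq (pullback.lift (𝟙 _) φ (by rw [Category.id_comp, hφ.1]))
      ⟨pullback.lift_fst _ _ _, pullback.hom_ext (by simp) (by simp [hφ.2])⟩, pullback.lift_snd]

end Groth.Agent.EtInvariance
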