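import Groth.Agent.EtInvariance.SchemeCase
import Mathlib.AlgebraicGeometry.ZariskisMainTheorem

/-!
# Finiteness of étale morphisms descends along universal homeomorphisms
-/

universe u

open CategoryTheory CategoryTheory.Limits AlgebraicGeometry

namespace Groth.Agent.EtInvariance

theorem isFinite_of_baseChange {X Y V W : Scheme.{u}} (f : X ⟶ Y) [IsIntegralHom f] [Surjective f]
    (a : W ⟶ Y) [Etale a] (b : V ⟶ X) [IsFinite b] (c : V ⟶ W) (sq : IsPullback b c f a) : IsFinite a := by
  have : IsIntegralHom c := MorphismProperty.of_isPullback (P := @IsIntegralHom) sq ‹_›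
  have : Surjective c := MorphismProperty.of_isPullback (P := @Surjective) sq ‹_›
  let m : pullback b b ⟶ pullback a a := pullback.map b b a a c c f sq.w sq.w
  have sq₁ : IsPullback (pullback.fst b b) (pullback.snd b b ≫ c) (b ≫ f) a :=
    (IsPullback.of_hasPullback b b).paste_vert sq
  have sq₂ : IsPullback (pullback.fst b b) m c (pullback.fst a a) := by
    refine IsPullback.of_bot ?_ (pullback.lift_fst _ _ _).symm (IsPullback.of_hasPullback a a)
    rw [show m ≫ pullback.snd a a = pullback.snd b b ≫ c from pullback.lift_snd _ _ _, ← sq.w]
    exact sq₁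
  have : IsIntegralHom m := MorphismProperty.of_isPullback (P := @IsIntegralHom) sq₂ ‹_›
  have hd : pullback.diagonal b ≫ m = c ≫ pullback.diagonal a := by
    apply pullback.hom_ext
    · simp only [m, pullback.map, Category.assoc, pullback.lift_fst, pullback.diagonal_fst, Category.comp_id]
      rw [pullback.diagonal_fst_assoc]
    · simp only [m, pullback.map, Category.assoc, pullback.lift_snd, pullback.diagonal_snd, Category.comp_id]
      rw [pullback.diagonal_snd_assoc]
  have : IsClosedImmersion (pullback.diagonal a) := by
    refine IsClosedImmersion.of_isPreimmersion _ ?_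
    have h : Set.range (pullback.diagonal a) = Set.range (c ≫ pullback.diagonal a) := by
      rw [Scheme.Hom.comp_base, TopCat.coe_comp, Set.range_comp, c.surjective.range_eq, Set.image_univ]
    rw [h, ← hd, Scheme.Hom.comp_base, TopCat.coe_comp, Set.range_comp]
    exact m.isClosedMap _ (pullback.diagonal b).isClosedEmbedding.isClosed_range
  have : IsSeparated a := ⟨inferInstance⟩
  have : UniversallyClosed (c ≫ a) := by rw [← sq.w]; infer_instance
  have : UniversallyClosed a := .of_comp_surjective c a
  have : IsProper a := { }
  have : LocallyQuasiFinite a := (AlgSpLib.etST_lqf.of_etale a ‹Etale a›).1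
  exact IsFinite.of_isProper_of_locallyQuasiFinite a

end Groth.Agent.EtInvariance
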