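import Groth.Agent.EtInvariance.Quotient
import Groth.Agent.LqfRep.Main
import Groth.Agent.AlgSpLib.DiagCrit
import Groth.Agent.AlgSpLib.Glue

/-!
# Étale spaces over a scheme which become schemes along a universal homeomorphism are schemes
-/

universe u

open CategoryTheory CategoryTheory.Limits AlgebraicGeometry Opposite Topology

set_option backward.isDefEq.respectTransparency false

namespace Groth.Agent.EtInvariance

open _root_.AlgSp Groth.Agent.AlgSpLib

variable {S : Scheme.{u}}

theorem IsUH.isClosed_of_preimage {F G : Sp S} {f : F ⟶ G} (h : IsUH f) {W : Set (Points G)}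
    (hW : IsClosed (Points.map f ⁻¹' W)) : IsClosed W :=
  ⟨h.isOpen_of_preimage (by rw [Set.preimage_compl]; exact hW.isOpen_compl)⟩

/-- separatedness descends along universal homeomorphisms for étale morphisms -/
theorem isSeparatedMor_of_affine {X Y Q : Sp S} (hX : IsAlgSpace X) (hY : IsAlgSpace Y) (hQ : IsAlgSpace Q)
    (f : X ⟶ Y) (hf : IsUH f) (a : Q ⟶ Y) (ha : IsEtaleMor a) {A : Over S} [IsAffine A.left]
    (b : (yon S).obj A ⟶ X) (c : (yon S).obj A ⟶ Q) (sq : IsPullback b c f a) : IsSeparatedMor a := by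
  have hP := isAlgSpace_of_isPullback_space hY hQ hQ (IsPullback.of_hasPullback a a)
  have hd := repWith_openImm_diag hQ hY a ha
  refine (repWith_isClosedImmersion_iff hP (repWith_mono (P := @IsOpenImmersion) (Q := @IsImmersion)
    (fun _ _ g hg => have : IsOpenImmersion g := hg; inferInstance) hd)).2 ?_
  obtain ⟨P₀, p₁, p₂, sqb⟩ := exists_pullback hX.diag b b
  let c'' : (yon S).obj P₀ ⟶ pullback a a := pullback.lift ((yon S).map p₁ ≫ c) ((yon S).map p₂ ≫ c) (by
    rw [Category.assoc, Category.assoc, ← sq.w, reassoc_of% sqb.w])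
  have sq₁ : IsPullback ((yon S).map p₁) ((yon S).map p₂ ≫ c) (c ≫ a) a := by
    rw [← sq.w]
    exact sqb.paste_vert sq
  have sq₂ : IsPullback ((yon S).map p₁) c'' c (pullback.fst a a) :=
    IsPullback.of_bot (by rwa [pullback.lift_snd]) (pullback.lift_fst _ _ _).symm (IsPullback.of_hasPullback a a)
  have hc : IsUH c := hf.baseChange sq
  have hc'' : IsUH c'' := hc.baseChange sq₂
  obtain ⟨δ, hδ⟩ := exists_map_eq (sqb.lift (𝟙 _) (𝟙 _) rfl)
  have h1 : δ ≫ p₁ = 𝟙 A := (yon S).map_injective (by rw [Functor.map_comp, hδ, sqb.lift_fst, (yon S).map_id])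
  have h2 : δ ≫ p₂ = 𝟙 A := (yon S).map_injective (by rw [Functor.map_comp, hδ, sqb.lift_snd, (yon S).map_id])
  have hδd : (yon S).map δ ≫ c'' = c ≫ pullback.diagonal a := by
    apply pullback.hom_ext
    · simp only [c'', Category.assoc, pullback.lift_fst, pullback.diagonal_fst, Category.comp_id,
        ← Functor.map_comp_assoc, h1, CategoryTheory.Functor.map_id, Category.id_comp]
    · simp only [c'', Category.assoc, pullback.lift_snd, pullback.diagonal_snd, Category.comp_id,
        ← Functor.map_comp_assoc, h2, CategoryTheory.Functor.map_id, Category.id_comp]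
  have hpre : Points.map c'' ⁻¹' Set.range (Points.map (pullback.diagonal a)) = Set.range (Points.map ((yon S).map δ)) := by
    ext x
    constructor
    · rintro ⟨y, hy⟩
      obtain ⟨z, rfl⟩ := hc.bijective.2 y
      rw [← Points.map_comp, ← hδd, Points.map_comp] at hy
      exact ⟨z, hc''.bijective.1 hy⟩
    · rintro ⟨z, rfl⟩
      exact ⟨Points.map c z, by rw [← Points.map_comp, ← Points.map_comp, hδd]⟩
  refine hc''.isClosed_of_preimage ?_
  rw [hpre]
  have hsep : IsSeparated p₁.left := by
    have : Mono (prod.lift p₁ p₂) := ⟨fun u v e => (yon S).map_injective (sqb.hom_ext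
      (by simpa using congrArg (fun k => (yon S).map (k ≫ prod.fst)) e)
      (by simpa using congrArg (fun k => (yon S).map (k ≫ prod.snd)) e))⟩
    have : Mono (prod.lift p₁ p₂).left := mono_left _
    have hA : IsSeparated A.hom := inferInstance
    have : IsSeparated (prod.fst : A ⨯ A ⟶ A).left := MorphismProperty.of_isPullback (P := @IsSeparated)
      (Over.isPullback_of_binaryFan_isLimit _ (prodIsProd A A)).flip hA
    have h : (prod.lift p₁ p₂).left ≫ (prod.fst : A ⨯ A ⟶ A).left = p₁.left := by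
      rw [← Over.comp_left, prod.lift_fst]
    rw [← h]
    infer_instance
  have : IsClosedImmersion (δ.left ≫ p₁.left) := by
    rw [← Over.comp_left, h1]
    infer_instance
  have : IsClosedImmersion δ.left := IsClosedImmersion.of_comp δ.left p₁.left
  rw [Points.map_yon_map_eq, Set.range_comp, Set.range_comp, (Points.schemeHomeo A).symm.range_coe, Set.image_univ]
  exact (Points.schemeHomeo P₀).isClosedMap _ δ.left.isClosedEmbedding.isClosed_range

/-- étale spaces over a scheme which become schemes along a universal homeomorphism are schemes -/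
theorem exists_iso_yon_of_baseChange {T : Over S} {X V' : Sp S} (hX : IsAlgSpace X) (hV' : IsAlgSpace V')
    (f : X ⟶ (yon S).obj T) (hf : IsUH f) (a : V' ⟶ (yon S).obj T) (ha : IsEtaleMor a) {V : Over S}
    (b : (yon S).obj V ⟶ X) (c : (yon S).obj V ⟶ V') (sq : IsPullback b c f a) :
    ∃ W : Over S, Nonempty (V' ≅ (yon S).obj W) := by
  have hc : IsUH c := hf.baseChange sq
  have hinj : Function.Injective (Points.ofPt c) := fun x y e => (Points.schemeHomeo V).injective (hc.bijective.1 (by
    show Points.map c (Points.ofScheme V x) = Points.map c (Points.ofScheme V y)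
    rw [← Points.ofPt_eq_map_ofScheme, ← Points.ofPt_eq_map_ofScheme, e]))
  choose A hA hxA _ using fun x : ↥V.left => exists_isAffineOpen_mem_and_subset (X := V.left) (x := x) (U := ⊤) trivial
  have hO : ∀ x, IsOpen (Points.ofPt c '' (A x : Set V.left)) := fun x => hc.isOpen_of_preimage (by
    have : Points.map c ⁻¹' (Points.ofPt c '' (A x : Set V.left)) = Points.schemeHomeo V '' (A x : Set V.left) := by
      ext p
      obtain ⟨v, rfl⟩ := (Points.schemeHomeo V).surjective p
      rw [Set.mem_preimage, show Points.map c (Points.schemeHomeo V v) = Points.ofPt c v from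
        (Points.ofPt_eq_map_ofScheme c v).symm, hinj.mem_set_image, (Points.schemeHomeo V).injective.mem_set_image]
    rw [this]
    exact (Points.schemeHomeo V).isOpenMap _ (A x).2)
  have key : ∀ x, ∃ W : Over S, Nonempty (subSheaf (Points.ofPt c '' (A x : Set V.left)) ≅ (yon S).obj W) := fun x => by
    let O := Points.ofPt c '' (A x : Set V.left)
    have hj : RepWith @IsOpenImmersion (subInc O) := repWith_subInc (hO x)
    have hQ : IsAlgSpace (subSheaf O) := isAlgSpace_subSheaf hV' (hO x)
    have haQ : IsEtaleMor (subInc O ≫ a) := isEtaleMor_comp (repWith_etale_of_openImm hj) ha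
    obtain ⟨V₁, c₁, i, sq₁, hi⟩ := exists_repWith hj c
    have : IsOpenImmersion i.left := hi
    have hri : Set.range i.left = A x := by
      ext v
      constructor
      · rintro ⟨z, rfl⟩
        rw [SetLike.mem_coe, ← SetLike.mem_coe, ← hinj.mem_set_image, ← ofPt_comp]
        rw [← sq₁.w, ← Points.map_ofPt]
        exact map_subInc_mem _
      · intro hv
        obtain ⟨y, hy⟩ : Points.ofPt c v ∈ Set.range (Points.map (subInc O)) := by
          rw [range_subInc]; exact ⟨v, hv, rfl⟩
        obtain ⟨p, -, hp⟩ := exists_point_of_isPullback sq₁ y (Points.ofScheme V v) (by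
          rw [hy, Points.ofPt_eq_map_ofScheme c v])
        obtain ⟨z, rfl⟩ := (Points.schemeHomeo V₁).surjective p
        rw [Points.map_yon_map_apply] at hp
        exact ⟨z, (Points.schemeHomeo V).injective hp⟩
    have : IsAffine V₁.left := by
      have hr : i.left.opensRange = A x := TopologicalSpace.Opens.ext hri
      have : IsAffine (A x).toScheme := hA x
      exact .of_isIso (IsOpenImmersion.isoOfRangeEq i.left (A x).ι (by rw [hri, Scheme.Opens.range_ι])).hom
    exact LqfRep.exists_iso_yon_of_lqf_separated hQ (subInc O ≫ a)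
      (fun _ _ a' b' h ha' hb' e => etST_lqf.of_etale _
        ((isEtaleMor_iff_locP (IsAlgSpace.yon_obj T)).1 haQ a' b' h ha' hb' e))
      (isSeparatedMor_of_affine hX (IsAlgSpace.yon_obj T) hQ f hf _ haQ ((yon S).map i ≫ b) c₁
        (sq₁.flip.paste_horiz sq))
  choose W hW using key
  obtain ⟨W', ⟨e⟩⟩ := exists_iso_yon_of_open_cover hV' W (fun x => (hW x).some.inv ≫ subInc _)
    (fun x => (repWith_iso_comp_iff _ _).2 (repWith_subInc (hO x))) fun p => by
      obtain ⟨q, rfl⟩ := hc.bijective.2 p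
      obtain ⟨v, rfl⟩ := (Points.schemeHomeo V).surjective q
      obtain ⟨y, hy⟩ : Points.map c (Points.schemeHomeo V v) ∈
          Set.range (Points.map (subInc (Points.ofPt c '' (A v : Set V.left)))) := by
        rw [range_subInc]
        exact ⟨v, hxA v, Points.ofPt_eq_map_ofScheme c v⟩
      refine ⟨v, Points.map (hW v).some.hom y, ?_⟩
      rw [← Points.map_comp, Iso.hom_inv_id_assoc, hy]
  exact ⟨W', ⟨e⟩⟩

theorem IsUH.of_scheme {A B : Over S} (f : A ⟶ B) [IsIntegralHom f.left] [UniversallyInjective f.left]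
    [Surjective f.left] : IsUH ((yon S).map f) :=
  ⟨(repWith_yon_iff f).2 ‹_›, (repWith_yon_iff f).2 ‹_›, (repWith_yon_iff f).2 ‹_›⟩

theorem existsUnique_extend_scheme {X Y V W V₀ : Scheme.{u}} (f : X ⟶ Y) [IsIntegralHom f] [UniversallyInjective f]
    [Surjective f] (a : V ⟶ Y) (w : W ⟶ Y) [Etale w] (c : V₀ ⟶ V) (g : V₀ ⟶ X) (sq : IsPullback g c f a)
    (h : V₀ ⟶ W) (e : h ≫ w = c ≫ a) : ∃! φ : V ⟶ W, φ ≫ w = a ∧ c ≫ φ = h := by
  let V₀' : Over Y := Over.mk (c ≫ a)
  let fO : Over.mk f ⟶ Over.mk (𝟙 Y) := Over.homMk f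
  let aO : Over.mk a ⟶ Over.mk (𝟙 Y) := Over.homMk a
  let wO : Over.mk w ⟶ Over.mk (𝟙 Y) := Over.homMk w
  let cO : V₀' ⟶ Over.mk a := Over.homMk c rfl
  let gO : V₀' ⟶ Over.mk f := Over.homMk g sq.w
  let hO : V₀' ⟶ Over.mk w := Over.homMk h e
  have : IsIntegralHom fO.left := ‹_›
  have : UniversallyInjective fO.left := ‹_›
  have : Surjective fO.left := ‹_›
  have sqO : IsPullback gO.left cO.left fO.left aO.left := sq
  have hc : IsUH ((yon Y).map cO) := (IsUH.of_scheme fO).baseChange (isPullback_yon_iff.2 sqO)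
  obtain ⟨φ, hφ, huniq⟩ := existsUnique_extend (IsAlgSpace.yon_obj _) (IsAlgSpace.yon_obj _) (IsAlgSpace.yon_obj _)
    (IsAlgSpace.yon_obj _) ((yon Y).map aO) ((yon Y).map wO) ((isEtaleMor_yon_map_iff wO).2 ‹Etale w›)
    ((yon Y).map cO) hc ((yon Y).map hO) (by
      rw [← Functor.map_comp, ← Functor.map_comp]
      exact congrArg _ (Over.OverMorphism.ext e))
  obtain ⟨φ', rfl⟩ := exists_map_eq φ
  simp only [← Functor.map_comp, (yon Y).map_injective.eq_iff] at hφ
  refine ⟨φ'.left, ⟨congrArg (·.left) hφ.1, congrArg (·.left) hφ.2⟩, fun ψ hψ => ?_⟩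
  have := huniq ((yon Y).map (Over.homMk ψ hψ.1 : Over.mk a ⟶ Over.mk w)) ⟨by
      rw [← Functor.map_comp]; exact congrArg _ (Over.OverMorphism.ext hψ.1), by
      rw [← Functor.map_comp]; exact congrArg _ (Over.OverMorphism.ext hψ.2)⟩
  exact congrArg (·.left) ((yon Y).map_injective this)

theorem exists_descend_scheme {X Y V : Scheme.{u}} (f : X ⟶ Y) [IsIntegralHom f] [UniversallyInjective f]
    [Surjective f] (b : V ⟶ X) [Etale b] :
    ∃ (W : Scheme.{u}) (a : W ⟶ Y) (c : V ⟶ W), Etale a ∧ IsPullback b c f a := by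
  let fO : Over.mk f ⟶ Over.mk (𝟙 Y) := Over.homMk f
  let bO : Over.mk (b ≫ f) ⟶ Over.mk f := Over.homMk b
  have : IsIntegralHom fO.left := ‹_›
  have : UniversallyInjective fO.left := ‹_›
  have : Surjective fO.left := ‹_›
  obtain ⟨V', a, c, hV', ha, sq⟩ := exists_descend (IsAlgSpace.yon_obj _) (IsAlgSpace.yon_obj _) (IsAlgSpace.yon_obj _)
    ((yon Y).map fO) (IsUH.of_scheme fO) ((yon Y).map bO) ((isEtaleMor_yon_map_iff bO).2 ‹Etale b›)
  obtain ⟨W, ⟨e⟩⟩ := exists_iso_yon_of_baseChange (IsAlgSpace.yon_obj _) hV' _ (IsUH.of_scheme fO) a ha _ c sq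
  obtain ⟨a', ha'⟩ := exists_map_eq (e.inv ≫ a)
  obtain ⟨c', hc'⟩ := exists_map_eq (c ≫ e.hom)
  refine ⟨W.left, a'.left, c'.left, (isEtaleMor_yon_map_iff a').1 ?_, (isPullback_yon_iff (p := bO) (f := fO)).1 ?_⟩
  · rw [ha']
    exact fun U φ hφ => by
      rw [← Category.assoc]
      exact ha _ (repWith_comp hφ (repWith_of_isIso e.inv))
  · rw [ha', hc']
    exact sq.of_iso (Iso.refl _) (Iso.refl _) e (Iso.refl _) (by simp) (by simp) (by simp) (by simp)

end Groth.Agent.EtInvariance
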