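import Groth.Agent.EtInvariance.SchemeCase
import Groth.Prelude.Def_EtBase

/-!
# Base change of small étale sites along a universal homeomorphism is an equivalence
-/

set_option autoImplicit false
set_option backward.isDefEq.respectTransparency false
set_option linter.style.haveILetI false

universe u

open CategoryTheory CategoryTheory.Limits AlgebraicGeometry

namespace Groth.Agent.EtInvariance

theorem bc_isEquivalence_scheme {X Y : Scheme.{u}} (f : X ⟶ Y) [IsIntegralHom f] [UniversallyInjective f]
    [Surjective f] : (EtCoh.bc f).IsEquivalence := by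
  haveI hff : (EtCoh.bc f).Faithful ∧ (EtCoh.bc f).Full := by
    have key : ∀ (U W : Y.Etale) (φ₀ : (EtCoh.bc f).obj U ⟶ (EtCoh.bc f).obj W),
        ∃! φ : U.left ⟶ W.left, φ ≫ W.hom = U.hom ∧
          pullback.fst U.hom f ≫ φ = φ₀.left ≫ pullback.fst W.hom f := by
      intro U W φ₀
      haveI : Etale W.hom := W.prop
      refine existsUnique_extend_scheme f U.hom W.hom (pullback.fst U.hom f) (pullback.snd U.hom f)
        (IsPullback.of_hasPullback U.hom f).flip _ ?_
      have hw : φ₀.left ≫ pullback.snd W.hom f = pullback.snd U.hom f := Over.w φ₀.hom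
      rw [Category.assoc, pullback.condition]
      exact ((Category.assoc _ _ _).symm.trans (congrArg (· ≫ f) hw)).trans pullback.condition.symm
    refine ⟨⟨fun {U W} φ ψ e => ?_⟩, ⟨fun {U W} φ₀ => ?_⟩⟩
    · obtain ⟨χ, -, hu⟩ := key U W ((EtCoh.bc f).map φ)
      refine MorphismProperty.Over.Hom.ext ((hu _ ⟨Over.w φ.hom, ?_⟩).trans (hu _ ⟨Over.w ψ.hom, ?_⟩).symm)
      · exact (EtCoh.isPullback_bc_map f φ).w.symm
      · rw [e]; exact (EtCoh.isPullback_bc_map f ψ).w.symm
    · obtain ⟨χ, ⟨hχ1, hχ2⟩, -⟩ := key U W φ₀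
      refine ⟨MorphismProperty.Over.homMk χ hχ1, ?_⟩
      refine MorphismProperty.Over.Hom.ext (pullback.hom_ext ?_ ?_)
      · exact (EtCoh.isPullback_bc_map f _).w.trans hχ2
      · exact (Over.w ((EtCoh.bc f).map _).hom).trans (Over.w φ₀.hom).symm
  haveI := hff.1
  haveI := hff.2
  haveI : (EtCoh.bc f).EssSurj := ⟨fun V => by
    haveI : Etale V.hom := V.prop
    obtain ⟨W, a, c, ha, sq⟩ := exists_descend_scheme f V.hom
    exact ⟨MorphismProperty.Over.mk ⊤ a ha,
      ⟨MorphismProperty.Over.isoMk sq.flip.isoPullback.symm sq.flip.isoPullback_inv_snd⟩⟩⟩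
  exact {}

theorem bc_isEquivalence_of_closed {S S₀ : Scheme.{u}} (i : S₀ ⟶ S) [IsClosedImmersion i] [Surjective i] :
    (EtCoh.bc i).IsEquivalence :=
  bc_isEquivalence_scheme i

end Groth.Agent.EtInvariance

namespace Groth.Agent.EtInvariance

/-- a flat quasi-compact surjective universally injective morphism is integral -/
theorem isIntegralHom_of_flat_radicial {X Y : Scheme.{u}} (g : X ⟶ Y) [Flat g] [Surjective g] [QuasiCompact g]
    [UniversallyInjective g] : IsIntegralHom g := by
  have key : ∀ {X' Y' : Scheme.{u}} (g' : X' ⟶ Y') (_ : Flat g') (_ : Surjective g') (_ : QuasiCompact g')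
      (_ : UniversallyInjective g'), IsHomeomorph g' := fun g' _ _ _ _ =>
    have hq := Flat.isQuotientMap_of_surjective g'
    ⟨g'.continuous, fun U hU => hq.isOpen_preimage.1 (by rwa [g'.injective.preimage_image]),
      g'.injective, g'.surjective⟩
  haveI : UniversallyClosed g := ⟨fun X' Y' i₁ i₂ g' sq =>
    (key g' (MorphismProperty.of_isPullback sq.flip ‹Flat g›) (MorphismProperty.of_isPullback sq.flip ‹Surjective g›)
      (MorphismProperty.of_isPullback sq.flip ‹QuasiCompact g›)
      (MorphismProperty.of_isPullback sq.flip ‹UniversallyInjective g›)).isClosedMap⟩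
  haveI : IsAffineHom g := isAffineHom_of_isInducing g
    (key g inferInstance inferInstance inferInstance inferInstance).isInducing
    g.isClosedMap.isClosed_range
  exact IsIntegralHom.iff_universallyClosed_and_isAffineHom.2 ⟨inferInstance, inferInstance⟩

theorem bc_isEquivalence_of_flat_radicial {X Y : Scheme.{u}} (g : X ⟶ Y) [Flat g] [Surjective g] [QuasiCompact g]
    [UniversallyInjective g] : (EtCoh.bc g).IsEquivalence := by
  haveI := isIntegralHom_of_flat_radicial g
  exact bc_isEquivalence_scheme g

end Groth.Agent.EtInvariance
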