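import Groth.Agent.EtInvariance.Rank
import Mathlib.RingTheory.Etale.Basic
import Mathlib.RingTheory.Etale.QuasiFinite
import Mathlib.RingTheory.Unramified.LocalStructure
import Mathlib.RingTheory.Finiteness.ModuleFinitePresentation

/-!
# Étale algebras over a finite radicial algebra come from étale algebras of the base: trivial residue case
-/

universe u

open TensorProduct

namespace Groth.Agent.EtInvariance

attribute [local instance] Algebra.TensorProduct.rightAlgebra

theorem etale_tensor_map {A B R E : Type u} [CommRing A] [CommRing B] [CommRing R] [CommRing E] [Algebra A B]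
    [Algebra B R] [Algebra A R] [IsScalarTower A B R] [Algebra A E] [Algebra.Etale B R] [Algebra (E ⊗[A] B) (E ⊗[A] R)]
    (h : algebraMap (E ⊗[A] B) (E ⊗[A] R) =
      (Algebra.TensorProduct.map (AlgHom.id E E) (IsScalarTower.toAlgHom A B R)).toRingHom) :
    Algebra.Etale (E ⊗[A] B) (E ⊗[A] R) := by
  let _ : Algebra B (E ⊗[A] R) :=
    ((algebraMap R (E ⊗[A] R)).comp (algebraMap B R)).toAlgebra
  have : IsScalarTower B R (E ⊗[A] R) := .of_algebraMap_eq' rfl
  have : IsScalarTower B (E ⊗[A] B) (E ⊗[A] R) := .of_algebraMap_eq fun b => by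
    rw [h]
    show (1 : E) ⊗ₜ[A] algebraMap B R b = _
    simp [Algebra.TensorProduct.right_algebraMap_apply]
  have : IsScalarTower A B (E ⊗[A] B) := inferInstance
  have : IsScalarTower A E (E ⊗[A] R) := inferInstance
  have : IsScalarTower A (E ⊗[A] B) (E ⊗[A] R) := .of_algebraMap_eq fun a => by
    rw [h]
    exact ((Algebra.TensorProduct.map (AlgHom.id E E) (IsScalarTower.toAlgHom A B R)).restrictScalars A).commutes a |>.symm
  have : IsScalarTower E (E ⊗[A] B) (E ⊗[A] R) := .of_algebraMap_eq fun a => by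
    rw [h]
    exact (Algebra.TensorProduct.map (AlgHom.id E E) (IsScalarTower.toAlgHom A B R)).commutes a |>.symm
  have hp : Algebra.IsPushout B R (E ⊗[A] B) (E ⊗[A] R) :=
    (Algebra.IsPushout.comp_iff (R := A) (S := B) (R' := E) (S' := E ⊗[A] B) (T := R) (T' := E ⊗[A] R)).1 inferInstance
  have : Algebra.IsPushout B (E ⊗[A] B) R (E ⊗[A] R) := hp.symm
  exact Algebra.Etale.of_equiv (Algebra.IsPushout.equiv B (E ⊗[A] B) R (E ⊗[A] R))

theorem factor_aux {A B R : Type u} [CommRing A] [CommRing B] [CommRing R] [Algebra A B] [Algebra B R] [Algebra A R]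
    [IsScalarTower A B R] [Module.Finite A B] [Algebra.Etale B R]
    (hinj : ∀ (E : Type u) [CommRing E] [Algebra A E], Function.Injective (PrimeSpectrum.comap (algebraMap E (E ⊗[A] B))))
    {K : Type u} [Field K] [Algebra A K] (ρ : R →ₐ[A] K)
    (hK : ∀ x : K, ∃ n : ℕ, x ^ ringExpChar K ^ n ∈ Subfield.closure (Set.range (algebraMap A K))) :
    ∃ (E : Type u) (_ : CommRing E) (_ : Algebra A E) (_ : Algebra.Etale A E) (φ : R →ₐ[A] E ⊗[A] B) (χ : E →ₐ[A] K),
      (∀ b, φ (algebraMap B R b) = 1 ⊗ₜ b) ∧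
      (Algebra.TensorProduct.productMap χ (ρ.comp (IsScalarTower.toAlgHom A B R))).comp φ = ρ := by
  have : Algebra.FiniteType A R := Algebra.FiniteType.trans (R := A) (S := B) (A := R) inferInstance inferInstance
  have : Algebra.QuasiFinite A R := Algebra.QuasiFinite.trans A B R
  let q := RingHom.ker ρ.toRingHom
  have : q.IsPrime := RingHom.ker_isPrime _
  let p := q.under A
  have hp : p = RingHom.ker (algebraMap A K) := Ideal.ext fun a => by
    show ρ (algebraMap A R a) = 0 ↔ _
    rw [AlgHom.commutes, RingHom.mem_ker]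
  obtain ⟨E, _, _, _, P, _, _, e, he, P', _, _, hP'q, heP', hbij, hfin, huniq⟩ :=
    Algebra.exists_etale_isIdempotentElem_forall_liesOver_eq p q
  let lp : p.ResidueField →ₐ[A] K :=
    { (Ideal.ResidueField.lift p (algebraMap A K) hp.le fun x hx => isUnit_iff_ne_zero.2 fun h => hx (hp.ge h)) with
      commutes' := fun a => Ideal.ResidueField.lift_algebraMap _ _ _ _ _ }
  let εP := AlgEquiv.ofBijective _ hbij
  let χ₀ : E →ₐ[A] K := (lp.comp εP.symm.toAlgHom).comp (IsScalarTower.toAlgHom A E P.ResidueField)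
  have hχker : RingHom.ker χ₀.toRingHom = P := by
    ext x
    show lp (εP.symm (algebraMap E P.ResidueField x)) = 0 ↔ _
    rw [map_eq_zero, map_eq_zero_iff _ εP.symm.injective, ← RingHom.mem_ker, Ideal.ker_algebraMap_residueField]
  let ρ' : E ⊗[A] R →ₐ[A] K := Algebra.TensorProduct.productMap χ₀ ρ
  let Q₀ := RingHom.ker ρ'.toRingHom
  have : Q₀.IsPrime := RingHom.ker_isPrime _
  have : Q₀.LiesOver P := ⟨Ideal.ext fun x => by
    show x ∈ P ↔ ρ' (algebraMap E _ x) = 0
    rw [← hχker, Algebra.TensorProduct.algebraMap_apply, Algebra.algebraMap_self, RingHom.id_apply,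
      Algebra.TensorProduct.productMap_apply_tmul, map_one, mul_one]
    rfl⟩
  have hQ₀ : Q₀ = P' := Ideal.eq_of_comap_eq_comap_of_bijective_residueFieldMap hbij Q₀ P' (by
    rw [hP'q]
    ext r
    show ρ' ((1 : E) ⊗ₜ r) = 0 ↔ ρ r = 0
    rw [Algebra.TensorProduct.productMap_apply_tmul, map_one, one_mul])
  have heK : ρ' e ≠ 0 := fun h => heP' (hQ₀ ▸ (show e ∈ Q₀ from h))
  let F := Localization.Away e
  let m := Algebra.TensorProduct.map (AlgHom.id E E) (IsScalarTower.toAlgHom A B R)
  let _ : Algebra (E ⊗[A] B) (E ⊗[A] R) := m.toRingHom.toAlgebra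
  have hmet : Algebra.Etale (E ⊗[A] B) (E ⊗[A] R) := etale_tensor_map rfl
  have : IsScalarTower E (E ⊗[A] B) (E ⊗[A] R) := .of_algebraMap_eq fun a => (m.commutes a).symm
  have : Algebra.Etale (E ⊗[A] B) F := Algebra.Etale.comp (E ⊗[A] B) (E ⊗[A] R) F
  have : IsScalarTower E (E ⊗[A] B) F := .of_algebraMap_eq fun a => by
    rw [IsScalarTower.algebraMap_apply (E ⊗[A] B) (E ⊗[A] R) F, ← IsScalarTower.algebraMap_apply E (E ⊗[A] B) (E ⊗[A] R),
      ← IsScalarTower.algebraMap_apply]
  have : Module.Finite E F := hfin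
  have : Module.Finite (E ⊗[A] B) F := Module.Finite.of_restrictScalars_finite E _ _
  have : Module.Flat (E ⊗[A] B) F := Algebra.Smooth.flat _ _
  have : Module.FinitePresentation (E ⊗[A] B) F :=
    Module.FinitePresentation.of_finite_of_finitePresentation (E ⊗[A] B) F
  let χB : E ⊗[A] B →ₐ[A] K := Algebra.TensorProduct.productMap χ₀ (ρ.comp (IsScalarTower.toAlgHom A B R))
  let _ : Algebra (E ⊗[A] B) K := χB.toRingHom.toAlgebra
  have hρm : ∀ z, ρ' (m z) = χB z := fun z => by
    induction z using TensorProduct.induction_on with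
    | zero => rw [map_zero, map_zero, map_zero]
    | add x y hx hy => rw [map_add, map_add, hx, hy, map_add]
    | tmul a b =>
      show ρ' (a ⊗ₜ algebraMap B R b) = _
      rw [Algebra.TensorProduct.productMap_apply_tmul, Algebra.TensorProduct.productMap_apply_tmul]
      rfl
  have hlift : ∀ z, IsLocalization.Away.lift e (isUnit_iff_ne_zero.2 heK : IsUnit (ρ'.toRingHom e))
      (algebraMap (E ⊗[A] R) F z) = ρ' z := fun z => IsLocalization.Away.lift_eq e _ z
  let ρF : F →ₐ[E ⊗[A] B] K :=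
    { (IsLocalization.Away.lift e (isUnit_iff_ne_zero.2 heK : IsUnit (ρ'.toRingHom e)) : F →+* K) with
      commutes' := fun z => by
        show IsLocalization.Away.lift e _ (algebraMap (E ⊗[A] B) F z) = χB z
        rw [IsScalarTower.algebraMap_apply (E ⊗[A] B) (E ⊗[A] R) F, hlift]
        exact hρm z }
  have hρF : ∀ z, ρF (algebraMap (E ⊗[A] R) F z) = ρ' z := hlift
  let w₀ : PrimeSpectrum (E ⊗[A] B) := ⟨RingHom.ker χB.toRingHom, RingHom.ker_isPrime _⟩
  have hw₀ : w₀.asIdeal.under E = P := Ideal.ext fun x => by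
    show χB (x ⊗ₜ 1) = 0 ↔ _
    rw [Algebra.TensorProduct.productMap_apply_tmul, map_one, mul_one, ← hχker]
    rfl
  obtain ⟨s, hsP, hs⟩ := exists_rankAtStalk_eq_one (E := E) (B := E ⊗[A] B) (F := F) P fun w hw => by
    obtain rfl : w = w₀ := hinj E (PrimeSpectrum.ext (hw.trans hw₀.symm))
    have : w₀.asIdeal.IsPrime := w₀.isPrime
    let k := w₀.asIdeal.ResidueField
    have hker : w₀.asIdeal = RingHom.ker (algebraMap (E ⊗[A] B) K) := rfl
    let _ : Algebra k K := (Ideal.ResidueField.lift w₀.asIdeal (algebraMap (E ⊗[A] B) K) hker.le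
      fun x hx => isUnit_iff_ne_zero.2 fun h => hx (hker.ge h)).toAlgebra
    have : IsScalarTower (E ⊗[A] B) k K := .of_algebraMap_eq fun x => (Ideal.ResidueField.lift_algebraMap _ _ _ _ x).symm
    have hexp : ringExpChar k = ringExpChar K :=
      have := (algebraMap k K).expChar (algebraMap k K).injective (ringExpChar K)
      ringExpChar.eq k (ringExpChar K)
    have : IsPurelyInseparable k K := (isPurelyInseparable_iff_pow_mem k (ringExpChar k)).2 fun x => by
      obtain ⟨n, hn⟩ := hK x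
      have hle : Subfield.closure (Set.range (algebraMap A K)) ≤ (algebraMap k K).fieldRange := by
        rw [Subfield.closure_le]
        rintro _ ⟨a, rfl⟩
        refine ⟨algebraMap (E ⊗[A] B) k (algebraMap A _ a), ?_⟩
        rw [← IsScalarTower.algebraMap_apply]
        exact χB.commutes a
      exact ⟨n, hexp ▸ hle hn⟩
    refine rankAtStalk_eq_one w₀ ρF fun Q hQ hQw => ?_
    have h1 : Q.under (E ⊗[A] R) = P' := by
      refine huniq _ inferInstance ⟨Ideal.ext fun x => ?_⟩ fun h => hQ.ne_top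
        (Ideal.eq_top_of_isUnit_mem _ h (IsLocalization.Away.algebraMap_isUnit e))
      rw [← hw₀, ← hQw]
      show algebraMap (E ⊗[A] B) F (algebraMap E _ x) ∈ Q ↔ algebraMap (E ⊗[A] R) F (algebraMap E _ x) ∈ Q
      rw [← IsScalarTower.algebraMap_apply, ← IsScalarTower.algebraMap_apply]
    have h2 : (RingHom.ker ρF.toRingHom).under (E ⊗[A] R) = P' := by
      rw [← hQ₀]
      exact Ideal.ext fun z => by
        show ρF (algebraMap (E ⊗[A] R) F z) = 0 ↔ ρ' z = 0
        rw [hρF]
    have := PrimeSpectrum.localization_comap_injective F (Submonoid.powers e) (a₁ := ⟨Q, hQ⟩)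
      (a₂ := ⟨RingHom.ker ρF.toRingHom, RingHom.ker_isPrime _⟩) (PrimeSpectrum.ext (h1.trans h2.symm))
    exact congrArg PrimeSpectrum.asIdeal this
  let E' := Localization.Away s
  let mE : E ⊗[A] B →ₐ[A] E' ⊗[A] B :=
    Algebra.TensorProduct.map (IsScalarTower.toAlgHom A E E') (AlgHom.id A B)
  let _ : Algebra (E ⊗[A] B) (E' ⊗[A] B) := mE.toRingHom.toAlgebra
  obtain ⟨σ, hσ⟩ := exists_algHom_of_rank (B := E ⊗[A] B) (F := F) (C := E' ⊗[A] B) fun z => hs _ fun h => by
    refine z.isPrime.ne_top (Ideal.eq_top_of_isUnit_mem _ h ?_)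
    show IsUnit (mE (s ⊗ₜ 1))
    exact (IsLocalization.Away.algebraMap_isUnit (S := E') s).map
      (Algebra.TensorProduct.includeLeft : E' →ₐ[A] E' ⊗[A] B)
  have hχs : χ₀ s ≠ 0 := fun h => hsP (hχker ▸ (show s ∈ RingHom.ker χ₀.toRingHom from h))
  let χ : E' →ₐ[A] K := IsLocalization.Away.liftAlgHom s (f := χ₀) (isUnit_iff_ne_zero.2 hχs)
  have hχ : ∀ x, χ (algebraMap E E' x) = χ₀ x := fun x => IsLocalization.Away.lift_eq s (g := χ₀.toRingHom) (isUnit_iff_ne_zero.2 hχs) x
  let iR : R →ₐ[A] E ⊗[A] R := Algebra.TensorProduct.includeRight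
  have hmEc : ∀ a : A, algebraMap (E ⊗[A] B) (E' ⊗[A] B) (algebraMap A _ a) = algebraMap A (E' ⊗[A] B) a :=
    fun a => mE.commutes a
  let φ : R →ₐ[A] E' ⊗[A] B :=
    { σ.toRingHom.comp ((algebraMap (E ⊗[A] R) F).comp iR.toRingHom) with
      commutes' := fun a => by
        show σ (algebraMap (E ⊗[A] R) F (iR (algebraMap A R a))) = _
        rw [AlgHom.commutes, show algebraMap A (E ⊗[A] R) a = algebraMap (E ⊗[A] B) (E ⊗[A] R) (algebraMap A _ a)
          from ((m.restrictScalars A).commutes a).symm, ← IsScalarTower.algebraMap_apply, AlgHom.commutes, hmEc] }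
  refine ⟨E', inferInstance, inferInstance, Algebra.Etale.comp A E E', φ, χ, fun b => ?_, ?_⟩
  · show σ (algebraMap (E ⊗[A] R) F ((1 : E) ⊗ₜ algebraMap B R b)) = _
    rw [show (1 : E) ⊗ₜ algebraMap B R b = algebraMap (E ⊗[A] B) (E ⊗[A] R) ((1 : E) ⊗ₜ b) from rfl,
      ← IsScalarTower.algebraMap_apply, AlgHom.commutes]
    show mE ((1 : E) ⊗ₜ b) = _
    simp [mE]
  · let χC₀ : E' ⊗[A] B →ₐ[A] K := Algebra.TensorProduct.productMap χ (ρ.comp (IsScalarTower.toAlgHom A B R))
    let χC : E' ⊗[A] B →ₐ[E ⊗[A] B] K :=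
      { χC₀.toRingHom with
        commutes' := fun z => by
          show χC₀ (mE z) = χB z
          induction z using TensorProduct.induction_on with
          | zero => rw [map_zero, map_zero, map_zero]
          | add x y hx hy => rw [map_add, map_add, hx, hy, map_add]
          | tmul a b => simp [mE, χC₀, χB, hχ] }
    refine AlgHom.ext fun r => ?_
    show χC (σ (algebraMap (E ⊗[A] R) F ((1 : E) ⊗ₜ r))) = ρ r
    rw [← AlgHom.comp_apply, hσ K χC ρF, hρF, Algebra.TensorProduct.productMap_apply_tmul, map_one, one_mul]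

end Groth.Agent.EtInvariance
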