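import Groth.Agent.EtInvariance.Core
import Groth.Agent.EtaleSections.Basic
import Mathlib.Algebra.Polynomial.Lifts
import Mathlib.FieldTheory.PrimitiveElement
import Mathlib.AlgebraicGeometry.Pullbacks

/-!
# Étale algebras over an integral radicial algebra come from étale algebras of the base
-/

universe u

open TensorProduct CategoryTheory AlgebraicGeometry Polynomial

namespace Groth.Agent.EtInvariance

attribute [local instance] Algebra.TensorProduct.rightAlgebra

theorem comap_injective_of_univInj {A B : Type u} [CommRing A] [CommRing B] [Algebra A B]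
    [UniversallyInjective (Spec.map (CommRingCat.ofHom (algebraMap A B)))] (E : Type u) [CommRing E] [Algebra A E] :
    Function.Injective (PrimeSpectrum.comap (algebraMap E (E ⊗[A] B))) := by
  have h := isPullback_SpecMap_of_isPushout _ _ _ _ (CommRingCat.isPushout_tensorProduct A E B)
  have : UniversallyInjective (Spec.map (CommRingCat.ofHom
      (Algebra.TensorProduct.includeLeftRingHom : E →+* E ⊗[A] B))) :=
    MorphismProperty.of_isPullback h.flip inferInstance
  exact (Spec.map (CommRingCat.ofHom (Algebra.TensorProduct.includeLeftRingHom : E →+* E ⊗[A] B))).injective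

theorem factor_finite {A B R : Type u} [CommRing A] [CommRing B] [CommRing R] [Algebra A B] [Algebra B R] [Algebra A R]
    [IsScalarTower A B R] [Module.Finite A B] [Algebra.Etale B R]
    [UniversallyInjective (Spec.map (CommRingCat.ofHom (algebraMap A B)))]
    {K : Type u} [Field K] [Algebra A K] (ρ : R →ₐ[A] K) :
    ∃ (E : Type u) (_ : CommRing E) (_ : Algebra A E) (_ : Algebra.Etale A E) (φ : R →ₐ[A] E ⊗[A] B) (χ : E →ₐ[A] K),
      (∀ b, φ (algebraMap B R b) = 1 ⊗ₜ b) ∧
      (Algebra.TensorProduct.productMap χ (ρ.comp (IsScalarTower.toAlgHom A B R))).comp φ = ρ := by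
  have : Algebra.FiniteType A R := Algebra.FiniteType.trans (R := A) (S := B) (A := R) inferInstance inferInstance
  have : Algebra.QuasiFinite A R := Algebra.QuasiFinite.trans A B R
  let q := RingHom.ker ρ.toRingHom
  have : q.IsPrime := RingHom.ker_isPrime _
  let p := q.under A
  let k := p.ResidueField
  let K₀ := q.ResidueField
  let ι : K₀ →ₐ[A] K :=
    { (Ideal.ResidueField.lift q ρ.toRingHom le_rfl fun x hx => isUnit_iff_ne_zero.2 fun h => hx h) with
      commutes' := fun a => by
        show Ideal.ResidueField.lift q ρ.toRingHom _ _ (algebraMap A K₀ a) = _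
        rw [IsScalarTower.algebraMap_apply A R K₀]
        exact (Ideal.ResidueField.lift_algebraMap q ρ.toRingHom le_rfl (fun x hx => isUnit_iff_ne_zero.2 fun h => hx h) _).trans (ρ.commutes a) }
  let ρ₀ : R →ₐ[A] K₀ := IsScalarTower.toAlgHom A R K₀
  have hιρ : ι.comp ρ₀ = ρ := AlgHom.ext fun r =>
    Ideal.ResidueField.lift_algebraMap q ρ.toRingHom le_rfl (fun x hx => isUnit_iff_ne_zero.2 fun h => hx h) r
  let _ : Algebra (Localization.AtPrime p) (Localization.AtPrime q) := Localization.AtPrime.algebraOfLiesOver p q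
  have : Module.Finite k K₀ := inferInstance
  let L := separableClosure k K₀
  obtain ⟨θ₀, hθ₀⟩ := Field.exists_primitive_element k L
  let g₀ := minpoly k θ₀
  have hint₀ : IsIntegral k θ₀ := Algebra.IsIntegral.isIntegral θ₀
  -- clear the denominators of the minimal polynomial
  obtain ⟨c, hc, hcoef⟩ : ∃ c : A ⧸ p, c ∈ nonZeroDivisors (A ⧸ p) ∧
      ∀ i, ∃ a : A ⧸ p, algebraMap (A ⧸ p) k a = algebraMap (A ⧸ p) k c * g₀.coeff i := by
    obtain ⟨c, hc⟩ := IsLocalization.exist_integer_multiples (nonZeroDivisors (A ⧸ p)) g₀.support g₀.coeff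
    refine ⟨c.1, c.2, fun i => ?_⟩
    by_cases hi : i ∈ g₀.support
    · obtain ⟨a, ha⟩ := hc i hi
      exact ⟨a, ha.trans (Algebra.smul_def _ _)⟩
    · exact ⟨0, by rw [map_zero, notMem_support_iff.1 hi, mul_zero]⟩
  let c' := algebraMap (A ⧸ p) k c
  have hc' : c' ≠ 0 := IsFractionRing.to_map_ne_zero_of_mem_nonZeroDivisors hc
  let θ : L := algebraMap k L c' * θ₀
  let g := g₀.scaleRoots c'
  have hgmon : g.Monic := (monic_scaleRoots_iff c').2 (minpoly.monic hint₀)
  have hgθ : aeval θ g = 0 := scaleRoots_aeval_eq_zero (minpoly.aeval k θ₀)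
  have hgen : IntermediateField.adjoin k {θ} = ⊤ := by
    rw [eq_top_iff, ← hθ₀, IntermediateField.adjoin_simple_le_iff]
    have h0 : θ₀ = algebraMap k L c'⁻¹ * θ := by
      rw [← mul_assoc, ← map_mul, inv_mul_cancel₀ hc', map_one, one_mul]
    rw [h0]
    exact mul_mem (IntermediateField.algebraMap_mem _ _) (IntermediateField.mem_adjoin_simple_self k θ)
  have hintθ : IsIntegral k θ := Algebra.IsIntegral.isIntegral θ
  have hgmin : minpoly k θ = g := by
    refine (Polynomial.eq_of_monic_of_dvd_of_natDegree_le (minpoly.monic hintθ) hgmon (minpoly.dvd k θ hgθ) ?_).symm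
    rw [natDegree_scaleRoots, ← IntermediateField.adjoin.finrank hintθ, ← IntermediateField.adjoin.finrank hint₀,
      hgen, hθ₀]
  have hglifts : g ∈ lifts (algebraMap A k) := by
    rw [lifts_iff_coeff_lifts]
    intro i
    have hsurj : ∀ a : A ⧸ p, algebraMap (A ⧸ p) k a ∈ Set.range (algebraMap A k) := fun a => by
      obtain ⟨a, rfl⟩ := Ideal.Quotient.mk_surjective a
      exact ⟨a, IsScalarTower.algebraMap_apply A (A ⧸ p) k a⟩
    rw [coeff_scaleRoots]
    rcases lt_trichotomy i g₀.natDegree with hi | hi | hi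
    · obtain ⟨a, ha⟩ := hcoef i
      have : g₀.coeff i * c' ^ (g₀.natDegree - i) = algebraMap (A ⧸ p) k (a * c ^ (g₀.natDegree - i - 1)) := by
        rw [map_mul, map_pow, ha, mul_comm _ (g₀.coeff i), mul_assoc, ← pow_succ',
          Nat.sub_add_cancel (Nat.sub_pos_of_lt hi)]
      rw [this]; exact hsurj _
    · subst hi
      rw [coeff_natDegree, (minpoly.monic hint₀).leadingCoeff, one_mul, Nat.sub_self, pow_zero]
      exact ⟨1, map_one _⟩
    · rw [coeff_eq_zero_of_natDegree_lt hi, zero_mul]
      exact ⟨0, map_zero _⟩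
  obtain ⟨F, hF, -, hFmon⟩ := lifts_and_natDegree_eq_and_monic hglifts hgmon
  let P : StandardEtalePair A := ⟨F, hFmon, derivative F, ⟨1, 0, 1, by simp⟩⟩
  let θK : K₀ := (θ : K₀)
  have haev : ∀ G : A[X], aeval θK G = (aeval θ (G.map (algebraMap A k)) : L) := fun G => by
    rw [show ((aeval θ (G.map (algebraMap A k)) : L) : K₀) = aeval θK (G.map (algebraMap A k)) from
      (aeval_algHom_apply L.val θ _).symm, aeval_map_algebraMap]
  have hmap : P.HasMap θK := by
    refine ⟨?_, isUnit_iff_ne_zero.2 ?_⟩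
    · rw [haev, hF, hgθ]; rfl
    · rw [haev, ← derivative_map, hF, ← hgmin]
      intro h
      exact (Algebra.IsSeparable.isSeparable k θ).aeval_derivative_ne_zero (minpoly.aeval k θ) (Subtype.ext h)
  let E₁ := P.Ring
  let χ₁ : E₁ →ₐ[A] K₀ := P.lift θK hmap
  let _ : Algebra E₁ K₀ := χ₁.toRingHom.toAlgebra
  have : IsScalarTower A E₁ K₀ := .of_algebraMap_eq fun a => (χ₁.commutes a).symm
  let m := Algebra.TensorProduct.map (AlgHom.id E₁ E₁) (IsScalarTower.toAlgHom A B R)
  let _ : Algebra (E₁ ⊗[A] B) (E₁ ⊗[A] R) := m.toRingHom.toAlgebra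
  have : IsScalarTower E₁ (E₁ ⊗[A] B) (E₁ ⊗[A] R) := .of_algebraMap_eq fun a => (m.commutes a).symm
  have : Algebra.Etale (E₁ ⊗[A] B) (E₁ ⊗[A] R) := etale_tensor_map rfl
  let ρ₁ : E₁ ⊗[A] R →ₐ[E₁] K₀ := Algebra.TensorProduct.lift (Algebra.ofId E₁ K₀) ρ₀ fun _ _ => Commute.all _ _
  have hinj : ∀ (E : Type u) [CommRing E] [Algebra E₁ E],
      Function.Injective (PrimeSpectrum.comap (algebraMap E (E ⊗[E₁] (E₁ ⊗[A] B)))) := fun E _ _ => by
    let _ : Algebra A E := ((algebraMap E₁ E).comp (algebraMap A E₁)).toAlgebra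
    have : IsScalarTower A E₁ E := .of_algebraMap_eq' rfl
    let c := Algebra.TensorProduct.cancelBaseChange A E₁ E E B
    rw [show algebraMap E (E ⊗[E₁] (E₁ ⊗[A] B)) = c.symm.toRingEquiv.toRingHom.comp (algebraMap E (E ⊗[A] B)) from
      RingHom.ext fun x => (c.symm.commutes x).symm]
    refine fun a b h => PrimeSpectrum.comap_injective_of_surjective c.symm.toRingEquiv.toRingHom
      c.symm.surjective (comap_injective_of_univInj (B := B) E ?_)
    simpa only [PrimeSpectrum.comap_comp_apply] using h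
  have hcl : ∀ y : L, (y : K₀) ∈ Subfield.closure (Set.range (algebraMap E₁ K₀)) := fun y => by
    have hk : ∀ z : k, algebraMap k K₀ z ∈ Subfield.closure (Set.range (algebraMap E₁ K₀)) := fun z => by
      obtain ⟨a, b, -, rfl⟩ := IsFractionRing.div_surjective (A := A ⧸ p) z
      obtain ⟨a, rfl⟩ := Ideal.Quotient.mk_surjective a
      obtain ⟨b, rfl⟩ := Ideal.Quotient.mk_surjective b
      have h1 : ∀ a : A, algebraMap k K₀ (algebraMap (A ⧸ p) k (Ideal.Quotient.mk p a)) =
          algebraMap E₁ K₀ (algebraMap A E₁ a) := fun a => by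
        rw [← Ideal.Quotient.algebraMap_eq, ← IsScalarTower.algebraMap_apply A (A ⧸ p) k,
          ← IsScalarTower.algebraMap_apply A k K₀, ← IsScalarTower.algebraMap_apply A E₁ K₀]
      rw [map_div₀, h1, h1]
      exact div_mem (Subfield.subset_closure ⟨_, rfl⟩) (Subfield.subset_closure ⟨_, rfl⟩)
    let S : IntermediateField k L := IntermediateField.adjoin k {θ}
    have hy : y ∈ S := by rw [show S = ⊤ from hgen]; trivial
    induction hy using IntermediateField.adjoin_induction with
    | mem x hx =>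
      obtain rfl : x = θ := hx
      exact Subfield.subset_closure ⟨P.X, StandardEtalePair.lift_X P _ _⟩
    | algebraMap z => exact hk z
    | add x y _ _ hx hy => exact add_mem hx hy
    | inv x _ hx => exact inv_mem hx
    | mul x y _ _ hx hy => exact mul_mem hx hy
  obtain ⟨E, _, _, _, φ₁, χ, hφ₁, hcomp⟩ := factor_aux (A := E₁) (B := E₁ ⊗[A] B) (R := E₁ ⊗[A] R) hinj ρ₁ fun x => by
    have hexp : ringExpChar L = ringExpChar K₀ :=
      have := (algebraMap L K₀).expChar (algebraMap L K₀).injective (ringExpChar K₀)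
      ringExpChar.eq L (ringExpChar K₀)
    obtain ⟨n, y, hy⟩ := IsPurelyInseparable.pow_mem L (ringExpChar L) x
    exact ⟨n, hexp ▸ hy ▸ hcl y⟩
  let _ : Algebra A E := ((algebraMap E₁ E).comp (algebraMap A E₁)).toAlgebra
  have : IsScalarTower A E₁ E := .of_algebraMap_eq' rfl
  let cc := Algebra.TensorProduct.cancelBaseChange A E₁ E₁ E B
  refine ⟨E, inferInstance, inferInstance, Algebra.Etale.comp A E₁ E,
    ((cc.toAlgHom.restrictScalars A).comp (φ₁.restrictScalars A)).comp Algebra.TensorProduct.includeRight,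
    ι.comp (χ.restrictScalars A), fun b => ?_, ?_⟩
  · show cc (φ₁ ((1 : E₁) ⊗ₜ algebraMap B R b)) = _
    rw [show (1 : E₁) ⊗ₜ algebraMap B R b = algebraMap (E₁ ⊗[A] B) (E₁ ⊗[A] R) ((1 : E₁) ⊗ₜ b) from rfl, hφ₁]
    show cc ((1 : E) ⊗ₜ ((1 : E₁) ⊗ₜ b)) = _
    rw [Algebra.TensorProduct.cancelBaseChange_tmul, one_smul]
  · refine AlgHom.ext fun r => ?_
    rw [← hιρ]
    have h : ∀ z, Algebra.TensorProduct.productMap (ι.comp (χ.restrictScalars A))
        ((ι.comp ρ₀).comp (IsScalarTower.toAlgHom A B R)) (cc z) =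
        ι (Algebra.TensorProduct.productMap χ (ρ₁.comp (IsScalarTower.toAlgHom E₁ (E₁ ⊗[A] B) (E₁ ⊗[A] R))) z) := by
      intro z
      induction z using TensorProduct.induction_on with
      | zero => simp
      | add x y hx hy => simp only [map_add, hx, hy]
      | tmul a b =>
        induction b using TensorProduct.induction_on with
        | zero => simp
        | add x y hx hy => simp only [tmul_add, map_add, hx, hy]
        | tmul e b =>
          rw [Algebra.TensorProduct.cancelBaseChange_tmul, Algebra.TensorProduct.productMap_apply_tmul,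
            Algebra.TensorProduct.productMap_apply_tmul]
          show ι (χ (e • a)) * ι (ρ₀ (algebraMap B R b)) = ι (χ a * (χ₁ e * ρ₀ (algebraMap B R b)))
          rw [Algebra.smul_def, map_mul χ, AlgHom.commutes, ← map_mul]
          congr 1
          rw [RingHom.algebraMap_toAlgebra]
          show χ₁ e * χ a * _ = χ a * (χ₁ e * _)
          ring
    show Algebra.TensorProduct.productMap _ _ (cc (φ₁ ((1 : E₁) ⊗ₜ r))) = ι (ρ₀ r)
    rw [h, ← AlgHom.comp_apply (Algebra.TensorProduct.productMap χ _) φ₁, hcomp]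
    simp [ρ₁]

theorem exists_pair_descend {B : Type u} [CommRing B] {S : Type u} [CommRing S] [Algebra S B] (P : StandardEtalePair B)
    (hinj : Function.Injective (algebraMap S B)) (p₁ p₂ : B[X]) (n : ℕ) (he : derivative P.f * p₁ + P.f * p₂ = P.g ^ n)
    (h : ∀ G ∈ [P.f, P.g, p₁, p₂], G ∈ lifts (algebraMap S B)) :
    ∃ P' : StandardEtalePair S, P'.map (algebraMap S B) = P := by
  obtain ⟨f, hf, -, hfm⟩ := lifts_and_natDegree_eq_and_monic (h P.f (by simp)) P.monic_f
  obtain ⟨g, hg⟩ := (mem_lifts _).1 (h P.g (by simp))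
  obtain ⟨q₁, hq₁⟩ := (mem_lifts _).1 (h p₁ (by simp))
  obtain ⟨q₂, hq₂⟩ := (mem_lifts _).1 (h p₂ (by simp))
  refine ⟨⟨f, hfm, g, q₁, q₂, n, map_injective _ hinj ?_⟩, ?_⟩
  · rw [Polynomial.map_add, Polynomial.map_mul, Polynomial.map_mul, Polynomial.map_pow, ← derivative_map, hf, hg, hq₁,
      hq₂, he]
  · cases P
    simp only [StandardEtalePair.map] at *
    congr

/-- every point of an étale algebra over an integral radicial algebra is hit by an étale algebra of the base -/
theorem factor {A B R : Type u} [CommRing A] [CommRing B] [CommRing R] [Algebra A B] [Algebra B R] [Algebra A R]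
    [IsScalarTower A B R] [Algebra.IsIntegral A B] [Algebra.Etale B R]
    [UniversallyInjective (Spec.map (CommRingCat.ofHom (algebraMap A B)))]
    {K : Type u} [Field K] [Algebra A K] (ρ : R →ₐ[A] K) :
    ∃ (E : Type u) (_ : CommRing E) (_ : Algebra A E) (_ : Algebra.Etale A E) (φ : R →ₐ[A] E ⊗[A] B) (χ : E →ₐ[A] K),
      (∀ b, φ (algebraMap B R b) = 1 ⊗ₜ b) ∧
      (Algebra.TensorProduct.productMap χ (ρ.comp (IsScalarTower.toAlgHom A B R))).comp φ = ρ := by
  classical
  let q := RingHom.ker ρ.toRingHom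
  have : q.IsPrime := RingHom.ker_isPrime _
  have : Algebra.IsEtaleAt B q :=
    haveI : Algebra.FormallyEtale R (Localization.AtPrime q) := Algebra.FormallyEtale.of_isLocalization q.primeCompl
    Algebra.FormallyEtale.comp B R _
  obtain ⟨h, hh, hstd⟩ := Algebra.IsEtaleAt.exists_isStandardEtale (R := B) q
  obtain ⟨pr⟩ := hstd.nonempty_standardEtalePresentation
  let ρh : Localization.Away h →ₐ[A] K := IsLocalization.Away.liftAlgHom h (f := ρ) (isUnit_iff_ne_zero.2 hh)
  have hρh : ∀ r, ρh (algebraMap R _ r) = ρ r :=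
    fun r => IsLocalization.Away.lift_eq h (g := ρ.toRingHom) (isUnit_iff_ne_zero.2 hh) r
  obtain ⟨p₁, p₂, n, he⟩ := pr.P.cond
  let B₁ : Subalgebra A B := Algebra.adjoin A
    ↑(pr.P.f.coeffs ∪ pr.P.g.coeffs ∪ p₁.coeffs ∪ p₂.coeffs)
  have : Module.Finite A B₁ := ⟨(Submodule.fg_top _).2
    (fg_adjoin_of_finite (Finset.finite_toSet _) fun x _ => Algebra.IsIntegral.isIntegral x)⟩
  have hl : ∀ G : B[X], G.coeffs ⊆ pr.P.f.coeffs ∪ pr.P.g.coeffs ∪ p₁.coeffs ∪ p₂.coeffs →
      G ∈ lifts (algebraMap B₁ B) := fun G hG => (lifts_iff_coeffs_subset_range G).2 fun x hx =>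
    ⟨⟨x, Algebra.subset_adjoin (hG hx)⟩, rfl⟩
  obtain ⟨P₁, hP₁⟩ := exists_pair_descend (S := B₁) pr.P Subtype.val_injective p₁ p₂ n he (by
    simp only [List.mem_cons, List.not_mem_nil, or_false]
    rintro G (rfl | rfl | rfl | rfl) <;> refine hl _ ?_ <;> intro x hx <;> simp [hx])
  have : UniversallyInjective (Spec.map (CommRingCat.ofHom (algebraMap A B₁))) := by
    have hs : Surjective (Spec.map (CommRingCat.ofHom B₁.val.toRingHom)) := ⟨fun x => by
      have : Algebra.IsIntegral B₁ B := Algebra.IsIntegral.tower_top (R := A)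
      exact Algebra.IsIntegral.comap_surjective (R := B₁) (S := B) x⟩
    have : UniversallyInjective (Spec.map (CommRingCat.ofHom B₁.val.toRingHom) ≫
        Spec.map (CommRingCat.ofHom (algebraMap A B₁))) := by
      rw [← Spec.map_comp, ← CommRingCat.ofHom_comp]
      exact ‹UniversallyInjective (Spec.map (CommRingCat.ofHom (algebraMap A B)))›
    exact EtaleSections.universallyInjective_of_comp_surjective (Spec.map (CommRingCat.ofHom B₁.val.toRingHom)) _
  let _ : Algebra B K := (ρ.comp (IsScalarTower.toAlgHom A B R)).toRingHom.toAlgebra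
  have : IsScalarTower A B K := .of_algebraMap_eq fun a => ((ρ.comp (IsScalarTower.toAlgHom A B R)).commutes a).symm
  have : IsScalarTower B₁ B K := .of_algebraMap_eq fun _ => rfl
  let ρB : Localization.Away h →ₐ[B] K :=
    { ρh.toRingHom with
      commutes' := fun b => by
        show ρh (algebraMap B _ b) = ρ (algebraMap B R b)
        rw [IsScalarTower.algebraMap_apply B R (Localization.Away h), hρh] }
  have hHM : P₁.HasMap (ρB pr.x) := by
    have h1 := pr.hasMap.map ρB
    rw [← hP₁] at h1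
    simpa [StandardEtalePair.HasMap] using h1
  have : Algebra.Etale B₁ P₁.Ring := inferInstance
  let _ : Algebra A P₁.Ring := ((algebraMap B₁ P₁.Ring).comp (algebraMap A B₁)).toAlgebra
  have : IsScalarTower A B₁ P₁.Ring := .of_algebraMap_eq' rfl
  let ρ₁ : P₁.Ring →ₐ[A] K := (P₁.lift _ hHM).restrictScalars A
  obtain ⟨E, _, _, hE, φ₁, χ, hφ₁, hcomp⟩ := factor_finite (A := A) (B := B₁) (R := P₁.Ring) ρ₁
  let mv : E ⊗[A] B₁ →ₐ[A] E ⊗[A] B := Algebra.TensorProduct.map (AlgHom.id A E) B₁.val
  let φB₁ : P₁.Ring →ₐ[B₁] E ⊗[A] B :=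
    { mv.toRingHom.comp φ₁.toRingHom with
      commutes' := fun b => by
        show mv (φ₁ (algebraMap B₁ P₁.Ring b)) = _
        rw [hφ₁, IsScalarTower.algebraMap_apply B₁ B (E ⊗[A] B), Algebra.TensorProduct.right_algebraMap_apply]
        simp [mv] }
  have hz : pr.P.HasMap (φB₁ P₁.X) := by
    rw [← hP₁]
    exact (P₁.hasMap_X.map φB₁).map_algebraMap
  let ψ : Localization.Away h →ₐ[B] E ⊗[A] B := (pr.P.lift _ hz).comp pr.equivRing.toAlgHom
  refine ⟨E, inferInstance, inferInstance, hE,
    (ψ.restrictScalars A).comp (IsScalarTower.toAlgHom A R (Localization.Away h)), χ, fun b => ?_, ?_⟩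
  · show ψ (algebraMap R _ (algebraMap B R b)) = _
    rw [← IsScalarTower.algebraMap_apply, AlgHom.commutes, Algebra.TensorProduct.right_algebraMap_apply]
  · let χB : E ⊗[A] B →ₐ[B] K :=
      { (Algebra.TensorProduct.productMap χ (ρ.comp (IsScalarTower.toAlgHom A B R))).toRingHom with
        commutes' := fun b => by
          show Algebra.TensorProduct.productMap χ _ ((1 : E) ⊗ₜ b) = _
          rw [Algebra.TensorProduct.productMap_apply_tmul, map_one, one_mul]
          rfl }
    have hψ : χB.comp ψ = ρB := pr.hom_ext (by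
      show χB (pr.P.lift _ hz (pr.equivRing pr.x)) = ρB pr.x
      rw [pr.equivRing_x, StandardEtalePair.lift_X]
      show Algebra.TensorProduct.productMap χ _ (mv (φ₁ P₁.X)) = _
      have hmv : ∀ z, Algebra.TensorProduct.productMap χ (ρ.comp (IsScalarTower.toAlgHom A B R)) (mv z) =
          Algebra.TensorProduct.productMap χ (ρ₁.comp (IsScalarTower.toAlgHom A B₁ P₁.Ring)) z := fun z => by
        induction z using TensorProduct.induction_on with
        | zero => simp
        | add x y hx hy => simp only [map_add, hx, hy]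
        | tmul a b =>
          simp only [mv, Algebra.TensorProduct.map_tmul, Algebra.TensorProduct.productMap_apply_tmul, AlgHom.id_apply]
          congr 1
          exact ((P₁.lift _ hHM).commutes b).symm
      rw [hmv, ← AlgHom.comp_apply, hcomp]
      change P₁.lift _ hHM P₁.X = _
      exact StandardEtalePair.lift_X P₁ _ _)
    exact AlgHom.ext fun r => (AlgHom.congr_fun hψ (algebraMap R _ r)).trans (hρh r)

end Groth.Agent.EtInvariance
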