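import Groth.Agent.EtInvariance.ThickLft
import Groth.Agent.InfLift.Charts
import Groth.Agent.ThickProp.Scheme
import Groth.Prelude.Def_MoreMor

/-!
# Deformations over a finite order thickened base: charts
-/

universe u

open CategoryTheory CategoryTheory.Limits AlgebraicGeometry Opposite

set_option backward.isDefEq.respectTransparency false

namespace Groth.Agent.EtInvariance

open _root_.AlgSp Groth.Agent.AlgSpLib

variable {S : Scheme.{u}}

/-- etale base changes of finite order thickenings to schemes are finite order thickenings -/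
theorem isFiniteOrderThickening_of_chart {B B' : Sp S} {iB : B ⟶ B'} (hB : IsFinThickMor iB) {W W₀ : Over S}
    {c : (yon S).obj W ⟶ B'} (hc : RepWith @Etale c) {y : (yon S).obj W₀ ⟶ B} {iW : W₀ ⟶ W}
    (sq : IsPullback y ((yon S).map iW) iB c) : MoreMor.IsFiniteOrderThickening iW.left := by
  obtain ⟨n, hth, hn⟩ := hB
  have hW : thick iW.left := hth.2 c y iW sq
  have : IsClosedImmersion iW.left := hW.1
  refine ⟨hW, n + 1, ?_⟩
  ext U : 2
  rw [Scheme.IdealSheafData.ideal_pow, Pi.pow_apply]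
  show _ = (⊥ : Ideal Γ(W.left, U.1))
  let WU : Over S := Over.mk (U.1.ι ≫ W.hom)
  let jU : WU ⟶ W := Over.homMk U.1.ι rfl
  let W₀U : Over S := Over.mk ((iW.left ⁻¹ᵁ U.1).ι ≫ W₀.hom)
  let j₀ : W₀U ⟶ W₀ := Over.homMk (iW.left ⁻¹ᵁ U.1).ι rfl
  let iU : W₀U ⟶ WU := Over.homMk (iW.left ∣_ U.1) (by
    simp only [WU, W₀U, Over.mk_hom, morphismRestrict_ι_assoc, Over.w])
  have sqU : IsPullback ((yon S).map j₀) ((yon S).map iU) ((yon S).map iW) ((yon S).map jU) :=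
    isPullback_yon_iff.2 (isPullback_morphismRestrict iW.left U.1).flip
  have : IsAffine WU.left := U.2
  have : IsAffine W₀U.left := U.2.preimage iW.left
  have h := hn ((yon S).map jU ≫ c) ((yon S).map j₀ ≫ y) iU U.2
    (repWith_etale_openImmersion_comp hc U.1.ι) (sqU.paste_horiz sq)
  change (iW.left ∣_ U.1).ker ^ (n + 1) = ⊥ at h
  have : IsAffine (U.1 : Scheme.{u}) := U.2
  have : IsAffine (iW.left ⁻¹ᵁ U.1 : Scheme.{u}) := U.2.preimage iW.left
  rw [pow_ker_eq_bot_iff] at h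
  rw [Scheme.Hom.ker_apply, eq_bot_iff]
  intro a ha
  have h1 : Ideal.map U.1.topIso.inv.hom (RingHom.ker (iW.left.app U.1).hom) ≤
      RingHom.ker (iW.left ∣_ U.1).appTop.hom := Ideal.map_le_iff_le_comap.2 fun x hx => by
    have key : U.1.topIso.inv ≫ (iW.left ∣_ U.1).appTop = iW.left.app U.1 ≫ (iW.left ⁻¹ᵁ U.1).topIso.inv := by
      rw [← cancel_mono (iW.left ⁻¹ᵁ U.1).topIso.hom, Category.assoc, Category.assoc, Iso.inv_hom_id,
        Category.comp_id, Scheme.Opens.topIso_inv, Scheme.Opens.topIso_hom, Scheme.Hom.appTop, morphismRestrict_app]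
      simp [Scheme.Hom.app_eq_appLE, Scheme.Hom.appLE_map, Scheme.Hom.map_appLE]
    have h2 := congrArg (fun k => k.hom x) key
    simp only [CommRingCat.hom_comp, RingHom.comp_apply] at h2
    rw [RingHom.mem_ker.1 hx, map_zero] at h2
    exact h2
  have h2 := (Ideal.pow_right_mono h1 (n + 1)).trans h.le
  rw [← Ideal.map_pow] at h2
  have h3 : U.1.topIso.inv.hom a = 0 := h2 (Ideal.mem_map_of_mem _ ha)
  exact (ConcreteCategory.bijective_of_isIso U.1.topIso.inv).1 (h3.trans (map_zero _).symm)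

/-- compatible charts of a morphism over a thickened base -/
theorem exists_deform_chart {X X' Y Y' B B' : Space S} (iX : X ⟶ X') (iY : Y ⟶ Y') (iB : B ⟶ B') (f : X ⟶ Y)
    (f' : X' ⟶ Y') (g : Y ⟶ B) (g' : Y' ⟶ B') (hcX : IsPullback iX.hom (f ≫ g).hom (f' ≫ g').hom iB.hom)
    (hcY : IsPullback iY.hom g.hom g'.hom iB.hom) (w : iX ≫ f' = f ≫ iY) (hB : IsFinThickMor iB.hom) :
    ∃ (U V W U₀ V₀ W₀ : Over S) (a : (yon S).obj U ⟶ X'.obj) (b : (yon S).obj V ⟶ Y'.obj)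
      (c : (yon S).obj W ⟶ B'.obj) (a₀ : (yon S).obj U₀ ⟶ X.obj) (b₀ : (yon S).obj V₀ ⟶ Y.obj)
      (k : U ⟶ V) (α : V ⟶ W) (k₀ : U₀ ⟶ V₀) (g₀ : V₀ ⟶ W₀) (iU : U₀ ⟶ U) (iV : V₀ ⟶ V) (iW : W₀ ⟶ W),
      RepWith @Etale a ∧ RepWith @Surjective a ∧ RepWith @Etale b ∧ RepWith @Etale c ∧
      a ≫ f'.hom = (yon S).map k ≫ b ∧ b ≫ g'.hom = (yon S).map α ≫ c ∧
      RepWith @Etale a₀ ∧ RepWith @Surjective a₀ ∧ RepWith @Etale b₀ ∧ a₀ ≫ f.hom = (yon S).map k₀ ≫ b₀ ∧
      MoreMor.IsFiniteOrderThickening iW.left ∧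
      IsPullback iU.left (k₀.left ≫ g₀.left) (k.left ≫ α.left) iW.left ∧
      IsPullback iV.left g₀.left α.left iW.left ∧ iU.left ≫ k.left = k₀.left ≫ iV.left := by
  obtain ⟨W, c, hc, hcs⟩ := B'.property.atlas
  obtain ⟨V, b, α, hb, hbs, hα⟩ := exists_chart_lift Y'.property B'.property g'.hom hc hcs
  obtain ⟨U, a, k, ha, has, hk⟩ := exists_chart_lift X'.property Y'.property f'.hom hb hbs
  obtain ⟨n, hBn⟩ := hB
  obtain ⟨W₀, y, iW, sqW, -⟩ := exists_repWith hBn.1 c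
  obtain ⟨V₀, iV, g₀, sqV⟩ := exists_pullback (IsAlgSpace.yon_obj W).diag ((yon S).map α) ((yon S).map iW)
  obtain ⟨U₀, iU, h₀, sqU⟩ := exists_pullback (IsAlgSpace.yon_obj W).diag ((yon S).map (k ≫ α)) ((yon S).map iW)
  have h1 : IsPullback ((yon S).map iV) ((yon S).map g₀ ≫ y) (b ≫ g'.hom) iB.hom := by
    rw [hα]; exact sqV.paste_vert sqW.flip
  let b₀ : (yon S).obj V₀ ⟶ Y.obj := hcY.lift ((yon S).map iV ≫ b) ((yon S).map g₀ ≫ y) (by
    rw [Category.assoc, h1.w])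
  have hb₀ : IsPullback b₀ ((yon S).map iV) iY.hom b :=
    IsPullback.of_right (by rw [hcY.lift_snd]; exact h1.flip) (hcY.lift_fst _ _ _) hcY.flip
  have h2 : IsPullback ((yon S).map iU) ((yon S).map h₀ ≫ y) (a ≫ (f' ≫ g').hom) iB.hom := by
    show IsPullback _ _ (a ≫ f'.hom ≫ g'.hom) _
    rw [reassoc_of% hk, hα, ← Category.assoc, ← Functor.map_comp]
    exact sqU.paste_vert sqW.flip
  let a₀ : (yon S).obj U₀ ⟶ X.obj := hcX.lift ((yon S).map iU ≫ a) ((yon S).map h₀ ≫ y) (by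
    rw [Category.assoc, h2.w])
  have ha₀ : IsPullback a₀ ((yon S).map iU) iX.hom a :=
    IsPullback.of_right (by rw [hcX.lift_snd]; exact h2.flip) (hcX.lift_fst _ _ _) hcX.flip
  obtain ⟨k₀, hk₀⟩ := exists_map_eq (sqV.lift ((yon S).map (iU ≫ k)) ((yon S).map h₀) (by
    rw [← sqU.w, Functor.map_comp, Functor.map_comp, Category.assoc]))
  have e1 : k₀ ≫ iV = iU ≫ k := (yon S).map_injective (by rw [Functor.map_comp, hk₀, sqV.lift_fst])
  have e2 : k₀ ≫ g₀ = h₀ := (yon S).map_injective (by rw [Functor.map_comp, hk₀, sqV.lift_snd])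
  have w' : iX.hom ≫ f'.hom = f.hom ≫ iY.hom := congrArg (·.hom) w
  have comm : a₀ ≫ f.hom = (yon S).map k₀ ≫ b₀ := by
    apply hcY.hom_ext
    · rw [Category.assoc, ← w', ← Category.assoc, hcX.lift_fst, Category.assoc, hk, Category.assoc,
        hcY.lift_fst, ← Category.assoc, ← Category.assoc, ← Functor.map_comp, ← Functor.map_comp, e1]
    · rw [Category.assoc, Category.assoc, hcY.lift_snd, ← Category.assoc ((yon S).map k₀), ← Functor.map_comp, e2]
      exact hcX.lift_snd _ _ _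
  refine ⟨U, V, W, U₀, V₀, W₀, a, b, c, a₀, b₀, k, α, k₀, g₀, iU, iV, iW, ha, has, hb, hc, hk, hα,
    repWith_baseChange ha₀.flip ha, repWith_baseChange ha₀.flip has, repWith_baseChange hb₀.flip hb, comm,
    isFiniteOrderThickening_of_chart ⟨n, hBn⟩ hc sqW, ?_, isPullback_yon_iff.1 sqV,
    (congrArg (fun m => m.left) e1).symm⟩
  rw [← Over.comp_left, e2, ← Over.comp_left]
  exact isPullback_yon_iff.1 sqU

/-- properties local on source and target deform along finite order thickenings of the base as they do for schemes -/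
theorem locP_deform {X X' Y Y' B B' : Space S} (iX : X ⟶ X') (iY : Y ⟶ Y') (iB : B ⟶ B') (f : X ⟶ Y)
    (f' : X' ⟶ Y') (g : Y ⟶ B) (g' : Y' ⟶ B') (hcX : IsPullback iX.hom (f ≫ g).hom (f' ≫ g').hom iB.hom)
    (hcY : IsPullback iY.hom g.hom g'.hom iB.hom) (w : iX ≫ f' = f ≫ iY) (hB : IsFinThickMor iB.hom)
    (hflat : LocP @Flat (f' ≫ g').hom) (P : MorphismProperty Scheme.{u}) (hP : EtST P)
    (h : ∀ {A A' C C' D D' : Scheme.{u}} (iA : A ⟶ A') (iC : C ⟶ C') (iD : D ⟶ D') (q : A ⟶ C) (q' : A' ⟶ C')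
      (r : C ⟶ D) (r' : C' ⟶ D'), MoreMor.IsFiniteOrderThickening iD → IsPullback iA (q ≫ r) (q' ≫ r') iD →
      IsPullback iC r r' iD → iA ≫ q' = q ≫ iC → Flat (q' ≫ r') → P q → P q')
    (hf : LocP P f.hom) : LocP P f'.hom := by
  obtain ⟨U, V, W, U₀, V₀, W₀, a, b, c, a₀, b₀, k, α, k₀, g₀, iU, iV, iW, ha, has, hb, hc, hk, hα, ha₀, -, hb₀,
    comm, hth, hsqU, hsqV, hw⟩ := exists_deform_chart iX iY iB f f' g g' hcX hcY w hB
  refine locP_of_chart hP X'.property Y'.property ha has hb hk ?_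
  refine h _ _ _ _ _ _ _ hth hsqU hsqV hw ?_ (hf a₀ b₀ k₀ ha₀ hb₀ comm)
  exact hflat a c (k ≫ α) ha hc (by
    show a ≫ f'.hom ≫ g'.hom = _
    rw [reassoc_of% hk, hα, Functor.map_comp, Category.assoc])

end Groth.Agent.EtInvariance
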