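import Groth.Agent.EtInvariance.FinDeform
import Groth.Agent.InfLift.SchemeLocal
import Groth.Agent.InfLift.Sheaf
import Groth.Agent.UnivInjMor.MonoUnram

/-!
# Monomorphisms deform along finite order thickenings
-/

universe u

open CategoryTheory CategoryTheory.Limits AlgebraicGeometry Opposite

set_option backward.isDefEq.respectTransparency false

namespace Groth.Agent.EtInvariance

open _root_.AlgSp Groth.Agent.AlgSpLib

variable {S : Scheme.{u}}

noncomputable def quotPt {A : Type u} [CommRing A] (str : Spec (CommRingCat.of A) ⟶ S) (K : Ideal A) :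
    Over.mk (Spec.map (CommRingCat.ofHom (Ideal.Quotient.mk K)) ≫ str) ⟶ Over.mk str :=
  Over.homMk (Spec.map (CommRingCat.ofHom (Ideal.Quotient.mk K))) rfl

/-- two maps into a formally unramified space which agree modulo a nilpotent ideal agree -/
theorem eq_of_nilpotent {X Y : Sp S} {f : X ⟶ Y} (hf : IsFormallyUnramifiedMor f) {A : Type u} [CommRing A]
    (str : Spec (CommRingCat.of A) ⟶ S) (J : Ideal A) (hJ : IsNilpotent J)
    (g h : (yon S).obj (Over.mk str) ⟶ X) (hgh : g ≫ f = h ≫ f)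
    (h0 : (yon S).map (quotPt str J) ≫ g = (yon S).map (quotPt str J) ≫ h) : g = h := by
  have step : ∀ K : Ideal A, (yon S).map (quotPt str K) ≫ g = (yon S).map (quotPt str K) ≫ h →
      (yon S).map (quotPt str (K ^ 2)) ≫ g = (yon S).map (quotPt str (K ^ 2)) ≫ h := by
    intro K hK
    let I : Ideal (A ⧸ K ^ 2) := K.map (Ideal.Quotient.mk (K ^ 2))
    have hI : I ^ 2 = ⊥ := by
      rw [← Ideal.map_pow]
      exact Ideal.map_quotient_self _
    let str' := Spec.map (CommRingCat.ofHom (Ideal.Quotient.mk (K ^ 2))) ≫ str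
    let ψ : A ⧸ K →+* (A ⧸ K ^ 2) ⧸ I := Ideal.Quotient.lift K ((Ideal.Quotient.mk I).comp (Ideal.Quotient.mk _))
      fun a ha => Ideal.Quotient.eq_zero_iff_mem.2 (Ideal.mem_map_of_mem _ ha)
    have hψ : Spec.map (CommRingCat.ofHom (Ideal.Quotient.mk I)) ≫
        Spec.map (CommRingCat.ofHom (Ideal.Quotient.mk (K ^ 2))) =
        Spec.map (CommRingCat.ofHom ψ) ≫ Spec.map (CommRingCat.ofHom (Ideal.Quotient.mk K)) := by
      rw [← Spec.map_comp, ← Spec.map_comp]
      rfl
    let p : Over.mk (Spec.map (CommRingCat.ofHom (Ideal.Quotient.mk I)) ≫ str') ⟶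
        Over.mk (Spec.map (CommRingCat.ofHom (Ideal.Quotient.mk K)) ≫ str) :=
      Over.homMk (Spec.map (CommRingCat.ofHom ψ))
        ((Category.assoc _ _ _).symm.trans ((congrArg (· ≫ str) hψ.symm).trans (Category.assoc _ _ _)))
    have hp : quotPt str' I ≫ quotPt str (K ^ 2) = p ≫ quotPt str K := Over.OverMorphism.ext hψ
    have ht : ((yon S).map (quotPt str' I) ≫ (yon S).map (quotPt str (K ^ 2)) ≫ g) =
        (yon S).map (quotPt str' I) ≫ (yon S).map (quotPt str (K ^ 2)) ≫ h := by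
      rw [← Functor.map_comp_assoc, ← Functor.map_comp_assoc, hp, Functor.map_comp_assoc, Functor.map_comp_assoc, hK]
    let sq : InfSq f :=
      { A := A ⧸ K ^ 2, I := I, sq_zero := hI, str := str',
        top := (yon S).map (quotPt str' I) ≫ (yon S).map (quotPt str (K ^ 2)) ≫ g,
        bot := (yon S).map (quotPt str (K ^ 2)) ≫ g ≫ f,
        comm := by simp only [Category.assoc]; rfl }
    exact hf sq _ _ rfl (Category.assoc _ _ _) ht.symm (by rw [Category.assoc, ← hgh])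
  have key : ∀ m : ℕ, (yon S).map (quotPt str (J ^ (2 ^ m))) ≫ g = (yon S).map (quotPt str (J ^ (2 ^ m))) ≫ h :=
    fun m => by
      induction m with
      | zero => rw [pow_zero, pow_one]; exact h0
      | succ m ih => rw [pow_succ, pow_mul]; exact step _ ih
  obtain ⟨n, hn⟩ := hJ
  have hb : J ^ (2 ^ n) = ⊥ := by
    rw [eq_bot_iff, ← Ideal.zero_eq_bot, ← hn]
    exact Ideal.pow_le_pow_right n.lt_two_pow_self.le
  have : IsIso (quotPt str (J ^ (2 ^ n))).left := by
    show IsIso (Spec.map (CommRingCat.ofHom (Ideal.Quotient.mk (J ^ (2 ^ n)))))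
    have : IsIso (CommRingCat.ofHom (Ideal.Quotient.mk (J ^ (2 ^ n)))) :=
      (ConcreteCategory.isIso_iff_bijective _).2 ⟨(RingHom.injective_iff_ker_eq_bot (Ideal.Quotient.mk (J ^ (2 ^ n)))).2 (Ideal.mk_ker.trans hb), Ideal.Quotient.mk_surjective⟩
    infer_instance
  have : IsIso (quotPt str (J ^ (2 ^ n))) :=
    (Over.isoMk (asIso (quotPt str (J ^ (2 ^ n))).left) (Over.w _)).isIso_hom
  exact (cancel_epi ((yon S).map (quotPt str (J ^ (2 ^ n))))).1 (key n)

theorem eq_of_nilpotent_ker {X Y : Sp S} {f : X ⟶ Y} (hf : IsFormallyUnramifiedMor f) {T T₀ : Over S}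
    [IsAffine T.left] (i : T₀ ⟶ T) [IsClosedImmersion i.left] (hi : IsNilpotent i.left.ker)
    (g h : (yon S).obj T ⟶ X) (hgh : g ≫ f = h ≫ f) (h0 : (yon S).map i ≫ g = (yon S).map i ≫ h) : g = h := by
  obtain ⟨I, e, he⟩ := IsClosedImmersion.Spec_iff.1 (inferInstance : IsClosedImmersion (i.left ≫ T.left.isoSpec.hom))
  let str : Spec Γ(T.left, ⊤) ⟶ S := T.left.isoSpec.inv ≫ T.hom
  let d : Over.mk str ⟶ T := Over.homMk T.left.isoSpec.inv rfl
  have : IsIso d.left := inferInstanceAs (IsIso T.left.isoSpec.inv)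
  have : IsIso d := (Over.isoMk (asIso d.left) (Over.w d)).isIso_hom
  have hI : IsNilpotent I := by
    obtain ⟨n, hn⟩ := hi
    have : IsAffine T₀.left := (IsClosedImmersion.isAffine_surjective_of_isAffine i.left).1
    have hn' : i.left.ker ^ n = ⊥ := hn
    rw [pow_ker_eq_bot_iff] at hn'
    refine ⟨n, ?_⟩
    rw [Ideal.zero_eq_bot, eq_bot_iff, ← hn']
    refine Ideal.pow_right_mono (fun x hx => ?_) n
    rw [RingHom.mem_ker]
    have h1 := congrArg (fun m => m.hom ((Scheme.ΓSpecIso Γ(T.left, ⊤)).inv.hom x)) (congrArg Scheme.Hom.appTop he)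
    simp only [Scheme.Hom.comp_appTop, CommRingCat.hom_comp, RingHom.comp_apply] at h1
    have h2 := congrArg (fun m => m.hom x) (Scheme.ΓSpecIso_inv_naturality (CommRingCat.ofHom (Ideal.Quotient.mk I)))
    simp only [CommRingCat.hom_comp, RingHom.comp_apply, CommRingCat.hom_ofHom] at h2
    have h3 : T.left.isoSpec.hom.appTop.hom ((Scheme.ΓSpecIso Γ(T.left, ⊤)).inv.hom x) = x := by
      rw [Scheme.isoSpec_hom, Scheme.toSpecΓ_appTop]
      exact (Scheme.ΓSpecIso Γ(T.left, ⊤)).commRingCatIsoToRingEquiv.apply_symm_apply x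
    rw [h3] at h1
    rw [h1]
    erw [← h2]
    rw [Ideal.Quotient.eq_zero_iff_mem.2 hx, map_zero, map_zero]
  suffices (yon S).map d ≫ g = (yon S).map d ≫ h from (cancel_epi ((yon S).map d)).1 this
  refine eq_of_nilpotent hf str I hI _ _ (by rw [Category.assoc, Category.assoc, hgh]) ?_
  let p : Over.mk (Spec.map (CommRingCat.ofHom (Ideal.Quotient.mk I)) ≫ str) ⟶ T₀ := Over.homMk e.inv (by
    simp only [Over.mk_hom, str]
    rw [← Over.w i, show i.left = (e.hom ≫ Spec.map (CommRingCat.ofHom (Ideal.Quotient.mk I))) ≫ T.left.isoSpec.inv by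
      rw [← he, Category.assoc, Iso.hom_inv_id, Category.comp_id]]
    simp only [Category.assoc, Iso.inv_hom_id_assoc])
  have hp : quotPt str I ≫ d = p ≫ i := Over.OverMorphism.ext (by
    show Spec.map (CommRingCat.ofHom (Ideal.Quotient.mk I)) ≫ T.left.isoSpec.inv = e.inv ≫ i.left
    rw [show i.left = (e.hom ≫ Spec.map (CommRingCat.ofHom (Ideal.Quotient.mk I))) ≫ T.left.isoSpec.inv by
      rw [← he, Category.assoc, Iso.hom_inv_id, Category.comp_id]]
    simp only [Category.assoc, Iso.inv_hom_id_assoc])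
  rw [← Functor.map_comp_assoc, ← Functor.map_comp_assoc, hp, Functor.map_comp_assoc, Functor.map_comp_assoc, h0]

/-- monomorphisms deform along finite order thickenings of the base -/
theorem mono_deform {X X' Y Y' B B' : Space S} (iX : X ⟶ X') (iY : Y ⟶ Y') (iB : B ⟶ B') (f : X ⟶ Y)
    (f' : X' ⟶ Y') (g : Y ⟶ B) (g' : Y' ⟶ B') (hcX : IsPullback iX.hom (f ≫ g).hom (f' ≫ g').hom iB.hom)
    (hcY : IsPullback iY.hom g.hom g'.hom iB.hom) (w : iX ≫ f' = f ≫ iY) (hB : IsFinThickMor iB.hom)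
    [Mono f.hom] : Mono f'.hom := by
  have hu : IsFormallyUnramifiedMor f'.hom := by
    obtain ⟨U, V, W, U₀, V₀, W₀, a, b, c, a₀, b₀, k, α, k₀, g₀, iU, iV, iW, ha, has, hb, hc, hk, hα, ha₀, -, hb₀,
      comm, hth, hsqU, hsqV, hw⟩ := exists_deform_chart iX iY iB f f' g g' hcX hcY w hB
    refine InfLift.unram_of_chart ha has hb hk ?_
    have h0 : FormallyUnramified k₀.left :=
      InfLift.chart_unram (UnivInjMor.isFormallyUnramifiedMor_of_mono f.hom) ha₀ comm
    have hc' : IsPullback iU.left k₀.left k.left iV.left := IsPullback.of_bot hsqU hw hsqV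
    have : IsClosedImmersion iW.left := hth.1.1
    have : IsClosedImmersion iV.left := MorphismProperty.of_isPullback (P := @IsClosedImmersion) hsqV.flip ‹_›
    exact ThickProp.formallyUnramified_of_finiteOrder hc' (ThickProp.isNilpotent_ker_left hsqV hth.2)
  obtain ⟨W, c, hc, hcs⟩ := B'.property.atlas
  obtain ⟨n, hBn⟩ := hB
  obtain ⟨W₀, y, iW, sqW, -⟩ := exists_repWith hBn.1 c
  have hth := isFiniteOrderThickening_of_chart ⟨n, hBn⟩ hc sqW
  have w' : iX.hom ≫ f'.hom = f.hom ≫ iY.hom := congrArg (·.hom) w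
  refine mono_of_points f'.hom fun T p q e => ?_
  obtain ⟨T', πT, β, sqT⟩ := exists_pullback B'.property.diag (p ≫ f'.hom ≫ g'.hom) c
  have : Etale πT.left := hc.2 (p ≫ f'.hom ≫ g'.hom) ((yon S).map β) πT sqT.flip
  have : Surjective πT.left := hcs.2 (p ≫ f'.hom ≫ g'.hom) ((yon S).map β) πT sqT.flip
  have : Sheaf.IsLocallySurjective ((yon S).map πT) := isLocallySurjective_yon_map πT
  suffices (yon S).map πT ≫ p = (yon S).map πT ≫ q from (cancel_epi ((yon S).map πT)).1 this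
  refine hom_ext_cover (R := Presieve.ofArrows T'.left.affineCover.X T'.left.affineCover.f)
    (Scheme.zariskiPrecoverage_le_fppfPrecoverage _ T'.left.affineCover.mem₀) ?_
  rintro _ _ ⟨j⟩
  let P : Over S := Over.mk (T'.left.affineCover.f j ≫ T'.hom)
  let v : P ⟶ T' := Over.homMk (T'.left.affineCover.f j) rfl
  have : IsAffine P.left := inferInstanceAs (IsAffine (T'.left.affineCover.X j))
  obtain ⟨P₀, iP, β₀, sqP⟩ := exists_pullback (IsAlgSpace.yon_obj W).diag ((yon S).map (v ≫ β)) ((yon S).map iW)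
  have hiP := isPullback_yon_iff.1 sqP
  have : IsClosedImmersion iW.left := hth.1.1
  have : IsClosedImmersion iP.left := MorphismProperty.of_isPullback (P := @IsClosedImmersion) hiP.flip ‹_›
  show (yon S).map v ≫ (yon S).map πT ≫ p = (yon S).map v ≫ (yon S).map πT ≫ q
  refine eq_of_nilpotent_ker hu iP (ThickProp.isNilpotent_ker_left hiP hth.2) _ _
    (by simp only [Category.assoc, e]) ?_
  have e1 : ((yon S).map iP ≫ (yon S).map v ≫ (yon S).map πT ≫ p) ≫ (f' ≫ g').hom =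
      ((yon S).map β₀ ≫ y) ≫ iB.hom := by
    show (_ ≫ _ ≫ _ ≫ p) ≫ f'.hom ≫ g'.hom = _
    simp only [Category.assoc]
    rw [sqT.w, sqW.w, ← sqP.w_assoc, Functor.map_comp, Category.assoc]
  have e2 : ((yon S).map iP ≫ (yon S).map v ≫ (yon S).map πT ≫ q) ≫ (f' ≫ g').hom =
      ((yon S).map β₀ ≫ y) ≫ iB.hom := by
    rw [← e1]
    show (_ ≫ _ ≫ _ ≫ q) ≫ f'.hom ≫ g'.hom = (_ ≫ _ ≫ _ ≫ p) ≫ f'.hom ≫ g'.hom
    simp only [Category.assoc]
    rw [← reassoc_of% e]
  obtain ⟨l₁, l₁a, l₁b⟩ : ∃ l, l ≫ iX.hom = (yon S).map iP ≫ (yon S).map v ≫ (yon S).map πT ≫ p ∧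
      l ≫ f.hom ≫ g.hom = (yon S).map β₀ ≫ y := ⟨hcX.lift _ _ e1, hcX.lift_fst _ _ _, hcX.lift_snd _ _ _⟩
  obtain ⟨l₂, l₂a, l₂b⟩ : ∃ l, l ≫ iX.hom = (yon S).map iP ≫ (yon S).map v ≫ (yon S).map πT ≫ q ∧
      l ≫ f.hom ≫ g.hom = (yon S).map β₀ ≫ y := ⟨hcX.lift _ _ e2, hcX.lift_fst _ _ _, hcX.lift_snd _ _ _⟩
  have e3 : l₁ = l₂ := by
    rw [← cancel_mono f.hom]
    apply hcY.hom_ext
    · simp only [Category.assoc, ← w']
      rw [reassoc_of% l₁a, reassoc_of% l₂a, e]
    · simp only [Category.assoc]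
      exact l₁b.trans l₂b.symm
  rw [← l₁a, e3, l₂a]

end Groth.Agent.EtInvariance
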