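import Groth.Agent.S0400
import Groth.Agent.LocalCrit.Basic
import Groth.Agent.ThickProp.Ring

/-!
# Flatness and finite presentation along a nilpotent ideal of the base
-/

set_option linter.style.haveILetI false
universe u

open TensorProduct

namespace Groth.Agent.EtInvariance

variable {R' A' B' A B : Type u} [CommRing R'] [CommRing A'] [CommRing B'] [CommRing A] [CommRing B]
  (I : Ideal R') (α : R' →+* A') (φ' : A' →+* B') (p : A' →+* A) (q : B' →+* B) (φ : A →+* B)

/-- flatness descends along a nilpotent ideal of the base -/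
theorem flat_of_nilpotent_base (hI : IsNilpotent I) (hp : Function.Surjective p) (hq : Function.Surjective q)
    (hpk : RingHom.ker p = I.map α) (hqk : RingHom.ker q = (I.map α).map φ') (h : q.comp φ' = φ.comp p)
    (hflat : (φ'.comp α).Flat) (hφ : φ.Flat) : φ'.Flat := by
  algebraize [α, φ', φ'.comp α, p, φ, φ.comp p]
  let qL : B' →ₗ[A'] B :=
    { q with
      map_smul' := fun a b => by
        show q (φ' a * b) = φ (p a) * q b
        rw [map_mul, ← RingHom.comp_apply q φ', h, RingHom.comp_apply] }
  let J : Ideal A' := I.map α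
  have hker : J • (⊤ : Submodule A' B') = LinearMap.ker qL := by
    rw [Ideal.smul_top_eq_map]
    ext b
    show b ∈ J.map φ' ↔ q b = 0
    rw [← RingHom.mem_ker, hqk]
  have hJ : J ≤ RingHom.ker p := hpk.ge
  letI : Algebra (A' ⧸ J) A := (Ideal.Quotient.lift J p fun a ha => hJ ha).toAlgebra
  letI : Module (A' ⧸ J) B := Module.compHom B (φ.comp (algebraMap (A' ⧸ J) A))
  haveI : IsScalarTower (A' ⧸ J) A B := IsScalarTower.of_algebraMap_smul fun r b => rfl
  haveI : IsScalarTower A' (A' ⧸ J) B := IsScalarTower.of_algebraMap_smul fun a b => by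
    show φ (p a) * b = _
    rfl
  have hb : Function.Bijective (algebraMap (A' ⧸ J) A) := by
    refine ⟨(RingHom.injective_iff_ker_eq_bot _).2 ?_, Ideal.Quotient.lift_surjective_of_surjective _ _ hp⟩
    rw [show algebraMap (A' ⧸ J) A = Ideal.Quotient.lift J p fun a ha => hJ ha from rfl, Ideal.ker_quotient_lift, hpk,
      Ideal.map_quotient_self]
  haveI : Module.Flat (A' ⧸ J) A := RingHom.flat_algebraMap_iff.1 (RingHom.Flat.of_bijective hb)
  haveI : Module.Flat A B := hφ
  have hflatB : Module.Flat (A' ⧸ J) B := Module.Flat.trans (A' ⧸ J) A B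
  let e : (A' ⧸ J) ⊗[A'] B' ≃ₗ[A'] B := TensorProduct.quotTensorEquivQuotSMul B' J ≪≫ₗ
    Submodule.quotEquivOfEq _ _ hker ≪≫ₗ qL.quotKerEquivOfSurjective hq
  refine S0400.result I hI ?_
  exact Module.Flat.of_linearEquiv (e.extendScalarsOfSurjective Ideal.Quotient.mk_surjective)

/-- finite presentation descends along a nilpotent ideal of the base -/
theorem finitePresentation_of_nilpotent_base (hI : IsNilpotent I) (hp : Function.Surjective p)
    (hq : Function.Surjective q) (hpk : RingHom.ker p = I.map α) (hqk : RingHom.ker q = (I.map α).map φ')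
    (h : q.comp φ' = φ.comp p) (hflat : (φ'.comp α).Flat) (hφ : φ.FinitePresentation) : φ'.FinitePresentation := by
  have hft : φ'.FiniteType := ThickProp.finiteType_of_nilpotent φ' φ p q h (by rw [hqk, hpk]) hp hq
    (by rw [hpk]; exact ThickProp.isNilpotent_map α hI le_rfl) (RingHom.FiniteType.of_finitePresentation hφ)
  algebraize [α, φ', φ'.comp α, p, φ, φ.comp p]
  obtain ⟨n, π, hπ⟩ := Algebra.FiniteType.iff_quotient_mvPolynomial''.1 ‹Algebra.FiniteType A' B'›
  let P := MvPolynomial (Fin n) A'
  let K : Ideal P := RingHom.ker π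
  let L : Ideal P := (I.map α).map MvPolynomial.C
  -- the kernel modulo the ideal
  let π₀ : MvPolynomial (Fin n) A →ₐ[A] B := MvPolynomial.aeval fun i => q (π (MvPolynomial.X i))
  have hcomm : ∀ x : P, π₀ (MvPolynomial.map p x) = q (π x) := fun x => by
    induction x using MvPolynomial.induction_on with
    | C a =>
      rw [MvPolynomial.map_C, ← MvPolynomial.algebraMap_eq, AlgHom.commutes, ← MvPolynomial.algebraMap_eq,
        AlgHom.commutes]
      exact ((RingHom.comp_apply q φ' a).symm.trans (congrArg (fun k => k a) h)).symm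
    | add x y hx hy => simp only [map_add, hx, hy]
    | mul_X x i hx => simp only [map_mul, MvPolynomial.map_X, hx, π₀, MvPolynomial.aeval_X]
  have hπ₀ : Function.Surjective π₀ := fun b => by
    obtain ⟨b', rfl⟩ := hq b
    obtain ⟨x, rfl⟩ := hπ b'
    exact ⟨_, hcomm x⟩
  obtain ⟨t, ht⟩ := Algebra.FinitePresentation.ker_fG_of_surjective π₀ hπ₀
  have hmapsurj : Function.Surjective (MvPolynomial.map (σ := Fin n) p) := MvPolynomial.map_surjective p hp
  have hπL : L.map π.toRingHom = (I.map α).map φ' := by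
    rw [Ideal.map_map]
    congr 1
    exact RingHom.ext fun a => π.commutes a
  have hlift : ∀ x₀ ∈ t, ∃ k ∈ K, MvPolynomial.map p k = x₀ := fun x₀ hx₀ => by
    obtain ⟨x, rfl⟩ := hmapsurj x₀
    have h1 : π₀ (MvPolynomial.map p x) = 0 := by
      have : MvPolynomial.map p x ∈ RingHom.ker π₀.toRingHom := ht ▸ Ideal.subset_span hx₀
      exact this
    have h2 : π x ∈ L.map π.toRingHom := by
      rw [hπL, ← hqk, RingHom.mem_ker, ← hcomm, h1]
    obtain ⟨l, hl, hl'⟩ := (Ideal.mem_map_iff_of_surjective π.toRingHom hπ).1 h2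
    refine ⟨x - l, ?_, ?_⟩
    · show π (x - l) = 0
      rw [map_sub, sub_eq_zero]
      exact hl'.symm
    · have : MvPolynomial.map p l = 0 := by
        rw [← RingHom.mem_ker, MvPolynomial.ker_map, hpk]
        exact hl
      rw [map_sub, this, sub_zero]
  choose k hkK hk using hlift
  classical
  let G : Ideal P := Ideal.span ↑(t.attach.image fun x => k x.1 x.2)
  have hG : G ≤ K := by
    rw [Ideal.span_le]
    intro x hx
    obtain ⟨y, -, rfl⟩ := Finset.mem_image.1 (Finset.mem_coe.1 hx)
    exact hkK _ _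
  have hKG : K ≤ G ⊔ L := fun x hx => by
    have h1 : MvPolynomial.map p x ∈ G.map (MvPolynomial.map p) := by
      have : MvPolynomial.map p x ∈ Ideal.span (↑t : Set (MvPolynomial (Fin n) A)) := by
        rw [ht]
        show π₀ (MvPolynomial.map p x) = 0
        rw [hcomm, show π x = 0 from hx, map_zero]
      refine Ideal.span_le.2 (fun y hy => ?_) this
      rw [SetLike.mem_coe, ← hk y hy]
      exact Ideal.mem_map_of_mem _ (Ideal.subset_span (Finset.mem_image.2 ⟨⟨y, hy⟩, Finset.mem_attach _ _, rfl⟩))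
    obtain ⟨g, hg, hg'⟩ := (Ideal.mem_map_iff_of_surjective _ hmapsurj).1 h1
    have h2 : x - g ∈ RingHom.ker (MvPolynomial.map (σ := Fin n) p) := by
      rw [RingHom.mem_ker, map_sub, hg', sub_self]
    rw [MvPolynomial.ker_map, hpk] at h2
    rw [← add_sub_cancel g x]
    exact add_mem (Submodule.mem_sup_left hg) (Submodule.mem_sup_right h2)
  -- flatness of the quotient over the base
  have key : ∀ x ∈ K, x ∈ L → x ∈ L * K := by
    intro x hx hxL
    let πR : P →ₗ[R'] B' := (π.restrictScalars R').toLinearMap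
    let ι : LinearMap.ker πR →ₗ[R'] P := (LinearMap.ker πR).subtype
    have hinj : Function.Injective (ι.lTensor (R' ⧸ I)) :=
      LinearMap.lTensor_injective_of_exact_of_flat πR hπ ι (Submodule.subtype_injective _)
        (LinearMap.exact_subtype_ker_map _) (R' ⧸ I)
    have hL : L = I.map (algebraMap R' P) := by
      rw [IsScalarTower.algebraMap_eq R' A' P, ← Ideal.map_map]
      rfl
    have hx' : x ∈ LinearMap.ker πR := hx
    have hxI : ι ⟨x, hx'⟩ ∈ I • (⊤ : Submodule R' P) := by
      rw [Ideal.smul_top_eq_map, Submodule.restrictScalars_mem, ← hL]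
      exact hxL
    have h2 := (LocalCrit.quot_lTensor_injective_iff I ι).1 hinj _ hxI
    refine Submodule.smul_induction_on (p := fun y : LinearMap.ker πR => y.1 ∈ L * K) h2 (fun r hr y _ => ?_)
      fun y z hy hz => add_mem hy hz
    have hy : y.1 ∈ K := y.2
    show r • y.1 ∈ L * K
    rw [Algebra.smul_def]
    exact Ideal.mul_mem_mul (hL ▸ Ideal.mem_map_of_mem _ hr) hy
  have hKK : K ≤ G ⊔ L * K := fun x hx => by
    obtain ⟨g, hg, l, hl, rfl⟩ := Submodule.mem_sup.1 (hKG hx)
    refine add_mem (Submodule.mem_sup_left hg) (Submodule.mem_sup_right (key l ?_ hl))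
    have := sub_mem hx (hG hg)
    rwa [add_sub_cancel_left] at this
  have hstep : ∀ m : ℕ, K ≤ G ⊔ L ^ m * K := fun m => by
    induction m with
    | zero => simp
    | succ m ih =>
      calc K ≤ G ⊔ L * K := hKK
        _ ≤ G ⊔ L * (G ⊔ L ^ m * K) := sup_le_sup_left (Ideal.mul_mono_right ih) _
        _ ≤ G ⊔ L ^ (m + 1) * K := by
          rw [Ideal.mul_sup, ← mul_assoc, ← pow_succ', ← sup_assoc]
          exact sup_le_sup_right (sup_le le_rfl Ideal.mul_le_right) _
  obtain ⟨m, hm⟩ := hI
  have hLm : L ^ m = ⊥ := by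
    rw [← Ideal.map_pow, ← Ideal.map_pow, hm, Ideal.zero_eq_bot, Ideal.map_bot, Ideal.map_bot]
  have hKG' : K ≤ G := by
    have := hstep m
    rw [hLm, Ideal.bot_mul, sup_bot_eq] at this
    exact this
  have hKfg : K.FG := le_antisymm hKG' hG ▸ Submodule.fg_span (Finset.finite_toSet _)
  exact Algebra.FinitePresentation.of_surjective hπ hKfg

end Groth.Agent.EtInvariance
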