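import Groth.Agent.EtInvariance.ThickProps
import Groth.Agent.FibreFlat.ThickSp
import Groth.Agent.UnivInjMor.MonoUnram
import Groth.Agent.AlgSpLib.FpqcLocP
import Groth.Agent.S3694

/-!
# Deformations over a thickened base: flat, locally finitely presented morphisms
-/

universe u

open CategoryTheory CategoryTheory.Limits AlgebraicGeometry Opposite

set_option backward.isDefEq.respectTransparency false
set_option linter.unusedSectionVars false

namespace Groth.Agent.EtInvariance

section Scheme

variable {X X' Y Y' : Scheme.{u}} {i : X ⟶ X'} {f : X ⟶ Y} {f' : X' ⟶ Y'} {j : Y ⟶ Y'}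

variable (sq : IsPullback i f f' j) [IsClosedImmersion j] [Surjective j]

include sq

theorem fiber_of_thick (P : MorphismProperty Scheme.{u}) [P.IsStableUnderBaseChange] (hf : P f) (y' : Y') :
    P (f'.fiberToSpecResidueField y') := by
  obtain ⟨g₀, hg₀⟩ := exists_lift_of_isReduced (j := j) (Y'.fromSpecResidueField y')
  have h1 : IsPullback (pullback.fst f g₀ ≫ i) (pullback.snd f g₀) f' (Y'.fromSpecResidueField y') := by
    rw [← hg₀]
    exact (IsPullback.of_hasPullback f g₀).paste_horiz sq
  rw [show f'.fiberToSpecResidueField y' = ((IsPullback.of_hasPullback f' _).isoIsPullback _ _ h1).hom ≫ pullback.snd f g₀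
    from (IsPullback.isoIsPullback_hom_snd _ _ (IsPullback.of_hasPullback f' _) h1).symm]
  exact (MorphismProperty.cancel_left_of_respectsIso P _ _).2 (MorphismProperty.pullback_snd _ _ hf)

theorem surjective_of_thick [Surjective f] : Surjective f' := by
  have : Surjective (i ≫ f') := by rw [sq.w]; infer_instance
  exact Surjective.of_comp i f'

variable [Flat f'] [LocallyOfFinitePresentation f']

theorem smooth_of_thick [Smooth f] : Smooth f' :=
  Smooth.of_smooth_fiberToSpecResidueField f' (fiber_of_thick sq @Smooth inferInstance)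

theorem etale_of_thick [Etale f] : Etale f' := by
  have : FormallyUnramified f' := formallyUnramified_of_thick sq
  exact Etale.of_formallyUnramified_of_flat f'

theorem isOpenImmersion_of_thick [IsOpenImmersion f] : IsOpenImmersion f' := by
  have : Etale f' := etale_of_thick sq
  have : Mono f' := mono_of_thick_square sq
  exact Groth.Agent.S3694.result f'

theorem isIso_of_thick [IsIso f] : IsIso f' := by
  have : IsOpenImmersion f' := isOpenImmersion_of_thick sq
  have : Surjective f' := surjective_of_thick sq
  have : Epi f'.base := (TopCat.epi_iff_surjective _).2 f'.surjective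
  exact IsOpenImmersion.isIso f'

theorem finLocFreeOfDeg_of_thick (d : ℕ) [IsSeparated f'] (h : AlgSp.finLocFreeOfDeg d f) :
    AlgSp.finLocFreeOfDeg d f' := by
  obtain ⟨⟨h1, -, -⟩, hd⟩ := h
  have := h1
  have hfin : IsFinite f' := isFinite_of_thick sq
  refine ⟨⟨hfin, inferInstance, inferInstance⟩, fun y' => ?_⟩
  obtain ⟨y, rfl⟩ := j.surjective y'
  rw [← Scheme.Hom.finrank_of_isPullback _ _ _ _ sq y]
  exact hd y

end Scheme

open _root_.AlgSp Groth.Agent.AlgSpLib

variable {S : Scheme.{u}} {X X' Y Y' B B' : Space S}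

/-- the standing hypotheses of a deformation over a thickened base, unpacked -/
structure DeformData (iX : X ⟶ X') (iY : Y ⟶ Y') (f : X ⟶ Y) (f' : X' ⟶ Y') : Prop where
  thX : IsThickMor iX.hom
  thY : IsThickMor iY.hom
  w : iX ≫ f' = f ≫ iY
  cart : IsPullback iX.hom f.hom f'.hom iY.hom
  lfp' : LocP @LocallyOfFinitePresentation f'.hom
  lfp : LocP @LocallyOfFinitePresentation f.hom
  flat : LocP @Flat f.hom → LocP @Flat f'.hom

theorem deformData_mk (iX : X ⟶ X') (iY : Y ⟶ Y') (iB : B ⟶ B') (f : X ⟶ Y) (f' : X' ⟶ Y') (g : Y ⟶ B) (g' : Y' ⟶ B')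
    (hcX : IsPullback iX.hom (f ≫ g).hom (f' ≫ g').hom iB.hom) (hcY : IsPullback iY.hom g.hom g'.hom iB.hom)
    (w : iX ≫ f' = f ≫ iY) (hB : IsThickMor iB.hom) (hg' : LocP @LocallyOfFiniteType g'.hom)
    (hflat : LocP @Flat (f' ≫ g').hom) (hfp : LocP @LocallyOfFinitePresentation (f' ≫ g').hom) :
    DeformData iX iY f f' := by
  have hbc : ∀ {A A' C C' : Sp S} {a : A ⟶ A'} {g : A ⟶ C} {g' : A' ⟶ C'} {c : C ⟶ C'},
      IsPullback a g g' c → IsThickMor c → IsThickMor a := fun sq hc => by
    have : thick.{u}.IsStableUnderBaseChange := inferInstanceAs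
      (MorphismProperty.IsStableUnderBaseChange (@IsClosedImmersion ⊓ @Surjective : MorphismProperty Scheme.{u}))
    exact repWith_baseChange sq.flip hc
  have w' : iX.hom ≫ f'.hom = f.hom ≫ iY.hom := congrArg (·.hom) w
  have hcart : IsPullback iX.hom f.hom f'.hom iY.hom := IsPullback.of_bot hcX w' hcY
  have hfp' : LocP @LocallyOfFinitePresentation f'.hom :=
    locP_cancel etST_lfp (Q := @LocallyOfFiniteType) (fun A C D a c hc hac =>
      have : LocallyOfFiniteType c := hc
      have : LocallyOfFinitePresentation (a ≫ c) := hac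
      LimDesc.lfp_of_comp a c) B'.property hfp hg'
  exact {
    thX := hbc hcX hB
    thY := hbc hcY hB
    w := w
    cart := hcart
    lfp' := hfp'
    lfp := locP_baseChange etST_lfp X'.property Y'.property X.property Y.property hcart hfp'
    flat := fun h => (FibreFlat.flat_of_thick X.property Y.property B.property X'.property Y'.property B'.property
      hcX hcY w' hB hg' hflat hfp h).1 }

variable {iX : X ⟶ X'} {iY : Y ⟶ Y'} {f : X ⟶ Y} {f' : X' ⟶ Y'}

theorem DeformData.lft' (D : DeformData iX iY f f') : LocP @LocallyOfFiniteType f'.hom :=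
  fun U V a b k ha hb e => have : LocallyOfFinitePresentation k.left := D.lfp' a b k ha hb e; inferInstance

theorem DeformData.lft (D : DeformData iX iY f f') : LocP @LocallyOfFiniteType f.hom :=
  fun U V a b k ha hb e => have : LocallyOfFinitePresentation k.left := D.lfp a b k ha hb e; inferInstance

theorem DeformData.smooth (D : DeformData iX iY f f') (h : LocP @Smooth f.hom) : LocP @Smooth f'.hom := by
  have hf : LocP @Flat f.hom := fun U V a b k ha hb e =>
    have : Smooth k.left := h a b k ha hb e
    inferInstance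
  exact locP_of_thick D.thY D.cart @Smooth (@Flat ⊓ @LocallyOfFinitePresentation)
    (fun U V a b k ha hb e => ⟨D.flat hf a b k ha hb e, D.lfp' a b k ha hb e⟩) (fun sq hb hs hg' hg => by
      have := hb; have := hs; have := hg'.1; have := hg'.2; have := hg
      exact smooth_of_thick sq) h

theorem DeformData.etale (D : DeformData iX iY f f') (h : LocP @Etale f.hom) : LocP @Etale f'.hom := by
  have hf : LocP @Flat f.hom := fun U V a b k ha hb e =>
    have : Etale k.left := h a b k ha hb e
    inferInstance
  exact locP_of_thick D.thY D.cart @Etale (@Flat ⊓ @LocallyOfFinitePresentation)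
    (fun U V a b k ha hb e => ⟨D.flat hf a b k ha hb e, D.lfp' a b k ha hb e⟩) (fun sq hb hs hg' hg => by
      have := hb; have := hs; have := hg'.1; have := hg'.2; have := hg
      exact etale_of_thick sq) h

/-- representable separated locally quasi-finite properties of flat morphisms deform -/
theorem DeformData.repWith (D : DeformData iX iY f f') (P : MorphismProperty Scheme.{u}) [P.IsStableUnderBaseChange]
    (hP : ∀ {A C : Scheme.{u}} (g : A ⟶ C), P g → LocallyQuasiFinite g ∧ IsSeparated g ∧ Flat g)
    (h : ∀ {A A' C C' : Scheme.{u}} {a : A ⟶ A'} {g : A ⟶ C} {g' : A' ⟶ C'} {c : C ⟶ C'},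
      IsPullback a g g' c → IsClosedImmersion c → Surjective c → IsSeparated g' → Flat g' →
      LocallyOfFinitePresentation g' → P g → P g') (hf : RepWith P f.hom) : RepWith P f'.hom := by
  obtain ⟨hrep, hsep⟩ := representable_of_thick D.thX D.thY D.w D.cart D.lft'
    (repWith_mono (fun _ _ g hg => (⟨(hP g hg).1, (hP g hg).2.1⟩ : LocallyQuasiFinite g ∧ IsSeparated g)) hf) D.lft
  have hfl : LocP @Flat f.hom :=
    (locP_iff_repWith etST_flat Y.property hf.1).2 (repWith_mono (fun _ _ g hg => (hP g hg).2.2) hf)
  exact repWith_of_thick D.thY D.cart hrep P _ (repWith_inf_iff.2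
    ⟨(isSeparatedMor_iff_repWith X'.property Y'.property hrep).1 hsep, repWith_inf_iff.2
      ⟨(locP_iff_repWith etST_flat Y'.property hrep).1 (D.flat hfl),
        (locP_iff_repWith etST_lfp Y'.property hrep).1 D.lfp'⟩⟩)
    (fun sq hb hs hg' hg => h sq hb hs hg'.1 hg'.2.1 hg'.2.2 hg) hf

theorem DeformData.mono (D : DeformData iX iY f f') [Mono f.hom] : Mono f'.hom := by
  have hrep := UnivInjMor.representable_of_mono X.property Y.property f.hom D.lft
  have hm := UnivInjMor.repWith_monomorphisms_of_mono f.hom hrep
  have hl := (locP_iff_repWith etST_lqf Y.property hrep).1 (UnivInjMor.lqf_of_mono X.property Y.property f.hom D.lft)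
  obtain ⟨hrep', -⟩ := representable_of_thick D.thX D.thY D.w D.cart D.lft' (repWith_inf_iff.2
    ⟨repWith_mono (fun _ _ g hg => hg.1) hl,
      (isSeparatedMor_iff_repWith X.property Y.property hrep).1 (UnivInjMor.isSeparatedMor_of_mono f.hom)⟩) D.lft
  exact mono_of_repWith (repWith_of_thick D.thY D.cart hrep' _ _
    ((locP_iff_repWith etST_lft Y'.property hrep').1 D.lft') (fun sq hb hs hg' hg => by
      have := hb; have := hs; have := hg'; have : Mono _ := hg
      exact mono_of_thick_square sq) hm)

end Groth.Agent.EtInvariance
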