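import Groth.Agent.EtInvariance.FinRing
import Groth.Agent.EtInvariance.ThickDeform
import Groth.Agent.ThickProp.Scheme
import Groth.Prelude.Def_MoreMor

/-!
# Deformations of morphisms of schemes over a finite order thickened base
-/

universe u

open CategoryTheory CategoryTheory.Limits AlgebraicGeometry

set_option backward.isDefEq.respectTransparency false
set_option linter.unusedSectionVars false

namespace Groth.Agent.EtInvariance.Fin

variable {X X' Y Y' S S' : Scheme.{u}} {iX : X ⟶ X'} {iY : Y ⟶ Y'} {iS : S ⟶ S'} {f : X ⟶ Y} {f' : X' ⟶ Y'}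
  {g : Y ⟶ S} {g' : Y' ⟶ S'}
  (hS : MoreMor.IsFiniteOrderThickening iS) (hcX : IsPullback iX (f ≫ g) (f' ≫ g') iS)
  (hcY : IsPullback iY g g' iS) (w : iX ≫ f' = f ≫ iY)

include hS hcX hcY w

theorem isPullback_top : IsPullback iX f f' iY := IsPullback.of_bot hcX w hcY

theorem isClosedImmersion_iY : IsClosedImmersion iY :=
  have : IsClosedImmersion iS := hS.1.1
  ThickProp.isClosedImmersion_left hcY

theorem surjective_iY : Surjective iY :=
  have : Surjective iS := hS.1.2
  ThickProp.surjective_left hcY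

theorem isNilpotent_ker_iY : IsNilpotent iY.ker :=
  have : IsClosedImmersion iS := hS.1.1
  ThickProp.isNilpotent_ker_left hcY hS.2

theorem lft [LocallyOfFiniteType f] : LocallyOfFiniteType f' :=
  have := isClosedImmersion_iY hS hcX hcY w
  ThickProp.locallyOfFiniteType_of_finiteOrder (isPullback_top hS hcX hcY w) (isNilpotent_ker_iY hS hcX hcY w)

theorem formallyUnramified [FormallyUnramified f] : FormallyUnramified f' :=
  have := isClosedImmersion_iY hS hcX hcY w
  ThickProp.formallyUnramified_of_finiteOrder (isPullback_top hS hcX hcY w) (isNilpotent_ker_iY hS hcX hcY w)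

theorem lqf [LocallyQuasiFinite f] [LocallyOfFiniteType f] : LocallyQuasiFinite f' :=
  have := isClosedImmersion_iY hS hcX hcY w
  have := surjective_iY hS hcX hcY w
  have := lft hS hcX hcY w
  lqf_of_thick (isPullback_top hS hcX hcY w)

theorem exists_affine_chain (x : X') : ∃ (W : S'.affineOpens) (V : Y'.affineOpens) (U : X'.affineOpens),
    x ∈ U.1 ∧ V.1 ≤ g' ⁻¹ᵁ W.1 ∧ U.1 ≤ f' ⁻¹ᵁ V.1 := by
  obtain ⟨W, hW, hxW, -⟩ := exists_isAffineOpen_mem_and_subset (U := (⊤ : S'.Opens)) (x := g' (f' x)) trivial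
  obtain ⟨V, hV, hxV, hVW⟩ := exists_isAffineOpen_mem_and_subset (U := g' ⁻¹ᵁ W) (x := f' x) hxW
  obtain ⟨U, hU, hxU, hUV⟩ := exists_isAffineOpen_mem_and_subset (U := f' ⁻¹ᵁ V) (x := x) hxV
  exact ⟨⟨W, hW⟩, ⟨V, hV⟩, ⟨U, hU⟩, hxU, hVW, hUV⟩

variable [Flat (f' ≫ g')]

theorem appLE_data {W : S'.affineOpens} {V : Y'.affineOpens} {U : X'.affineOpens} (hVW : V.1 ≤ g' ⁻¹ᵁ W.1)
    (hUV : U.1 ≤ f' ⁻¹ᵁ V.1) :
    IsNilpotent (RingHom.ker (iS.app W.1).hom) ∧ Function.Surjective (iY.app V.1).hom ∧
      Function.Surjective (iX.app U.1).hom ∧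
      RingHom.ker (iY.app V.1).hom = (RingHom.ker (iS.app W.1).hom).map (g'.appLE W.1 V.1 hVW).hom ∧
      RingHom.ker (iX.app U.1).hom =
        ((RingHom.ker (iS.app W.1).hom).map (g'.appLE W.1 V.1 hVW).hom).map (f'.appLE V.1 U.1 hUV).hom ∧
      ((f'.appLE V.1 U.1 hUV).hom.comp (g'.appLE W.1 V.1 hVW).hom).Flat ∧
      IsAffineOpen (iY ⁻¹ᵁ V.1) ∧ IsAffineOpen (iX ⁻¹ᵁ U.1) := by
  have : IsClosedImmersion iS := hS.1.1
  have : IsClosedImmersion iY := isClosedImmersion_iY hS hcX hcY w
  have hc := isPullback_top hS hcX hcY w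
  have : IsClosedImmersion iX := ThickProp.isClosedImmersion_left hc
  refine ⟨ThickProp.isNilpotent_ker_app hS.2 W, iY.app_surjective V.1 V.2, iX.app_surjective U.1 U.2,
    ThickProp.ker_app_eq_map hcY W V hVW, ?_, ?_, V.2.preimage iY, U.2.preimage iX⟩
  · rw [ThickProp.ker_app_eq_map hc V U hUV, ThickProp.ker_app_eq_map hcY W V hVW]
  · rw [← CommRingCat.hom_comp, Scheme.Hom.appLE_comp_appLE]
    exact HasRingHomProperty.appLE (P := @Flat) (f' ≫ g') inferInstance W U _

theorem flat [Flat f] : Flat f' := by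
  rw [HasRingHomProperty.iff_exists_appLE (P := @Flat)
    (RingHom.Flat.stableUnderComposition.stableUnderCompositionWithLocalizationAway
      RingHom.Flat.holdsForLocalizationAway).left]
  intro x
  obtain ⟨W, V, U, hx, hVW, hUV⟩ := exists_affine_chain hS hcX hcY w x
  obtain ⟨hI, hp, hq, hpk, hqk, hfl, hVa, hUa⟩ := appLE_data hS hcX hcY w hVW hUV
  exact ⟨V, U, hx, hUV, flat_of_nilpotent_base _ _ _ _ _ _ hI hp hq hpk hqk (ThickProp.appLE_square w hUV) hfl
    (HasRingHomProperty.appLE (P := @Flat) f inferInstance ⟨_, hVa⟩ ⟨_, hUa⟩ (ThickProp.preimage_le w hUV))⟩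

theorem lfp [LocallyOfFinitePresentation f] : LocallyOfFinitePresentation f' := by
  rw [HasRingHomProperty.iff_exists_appLE (P := @LocallyOfFinitePresentation)
    (RingHom.finitePresentation_stableUnderComposition.stableUnderCompositionWithLocalizationAway
      RingHom.finitePresentation_holdsForLocalizationAway).left]
  intro x
  obtain ⟨W, V, U, hx, hVW, hUV⟩ := exists_affine_chain hS hcX hcY w x
  obtain ⟨hI, hp, hq, hpk, hqk, hfl, hVa, hUa⟩ := appLE_data hS hcX hcY w hVW hUV
  exact ⟨V, U, hx, hUV, finitePresentation_of_nilpotent_base _ _ _ _ _ _ hI hp hq hpk hqk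
    (ThickProp.appLE_square w hUV) hfl (HasRingHomProperty.appLE (P := @LocallyOfFinitePresentation) f inferInstance
      ⟨_, hVa⟩ ⟨_, hUa⟩ (ThickProp.preimage_le w hUV))⟩

theorem smooth [Smooth f] : Smooth f' :=
  have := isClosedImmersion_iY hS hcX hcY w
  have := surjective_iY hS hcX hcY w
  have := flat hS hcX hcY w
  have := lfp hS hcX hcY w
  smooth_of_thick (isPullback_top hS hcX hcY w)

theorem etale [Etale f] : Etale f' :=
  have := isClosedImmersion_iY hS hcX hcY w
  have := surjective_iY hS hcX hcY w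
  have := flat hS hcX hcY w
  have := lfp hS hcX hcY w
  etale_of_thick (isPullback_top hS hcX hcY w)

theorem isOpenImmersion [IsOpenImmersion f] : IsOpenImmersion f' :=
  have := isClosedImmersion_iY hS hcX hcY w
  have := surjective_iY hS hcX hcY w
  have := flat hS hcX hcY w
  have := lfp hS hcX hcY w
  isOpenImmersion_of_thick (isPullback_top hS hcX hcY w)

theorem isIso [IsIso f] : IsIso f' :=
  have := isClosedImmersion_iY hS hcX hcY w
  have := surjective_iY hS hcX hcY w
  have := flat hS hcX hcY w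
  have := lfp hS hcX hcY w
  isIso_of_thick (isPullback_top hS hcX hcY w)

theorem finLocFreeOfDeg (d : ℕ) (h : Mor2.IsFinLocFreeOfDeg d f) : Mor2.IsFinLocFreeOfDeg d f' :=
  have := isClosedImmersion_iY hS hcX hcY w
  have := surjective_iY hS hcX hcY w
  have : IsFinite f := h.1.1
  have : Flat f := h.1.2.1
  have : LocallyOfFinitePresentation f := h.1.2.2
  have := flat hS hcX hcY w
  have := lfp hS hcX hcY w
  have : IsAffineHom f' := ThickProp.isAffineHom_right (isPullback_top hS hcX hcY w)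
  finLocFreeOfDeg_of_thick (isPullback_top hS hcX hcY w) d h

end Groth.Agent.EtInvariance.Fin
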