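import Groth.Agent.EtInvariance.FinScheme
import Groth.Agent.EtInvariance.FinDeform

/-!
# Deformations of morphisms of algebraic spaces over a finite order thickened base
-/

universe u

open CategoryTheory CategoryTheory.Limits AlgebraicGeometry Opposite

set_option backward.isDefEq.respectTransparency false

namespace Groth.Agent.EtInvariance.Fin

open _root_.AlgSp Groth.Agent.AlgSpLib

variable {S : Scheme.{u}} {X X' Y Y' B B' : Space S}

/-- the properties which deform along finite order thickenings of the base -/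
structure Transfer (f : X ⟶ Y) (f' : X' ⟶ Y') : Prop where
  flat : LocP @Flat f.hom → LocP @Flat f'.hom
  lft : LocP @LocallyOfFiniteType f.hom → LocP @LocallyOfFiniteType f'.hom
  lfp : LocP @LocallyOfFinitePresentation f.hom → LocP @LocallyOfFinitePresentation f'.hom
  smooth : LocP @Smooth f.hom → LocP @Smooth f'.hom
  etale : LocP @Etale f.hom → LocP @Etale f'.hom
  lqf : LocP (@LocallyQuasiFinite ⊓ @LocallyOfFiniteType) f.hom →
    LocP (@LocallyQuasiFinite ⊓ @LocallyOfFiniteType) f'.hom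
  unramified : LocP (@LocallyOfFiniteType ⊓ @FormallyUnramified) f.hom →
    LocP (@LocallyOfFiniteType ⊓ @FormallyUnramified) f'.hom
  repData : LocP @LocallyOfFinitePresentation f.hom → ∃ (iX : X ⟶ X') (iY : Y ⟶ Y'), DeformData iX iY f f'

theorem transfer (iX : X ⟶ X') (iY : Y ⟶ Y') (iB : B ⟶ B') (f : X ⟶ Y) (f' : X' ⟶ Y') (g : Y ⟶ B) (g' : Y' ⟶ B')
    (hcX : IsPullback iX.hom (f ≫ g).hom (f' ≫ g').hom iB.hom) (hcY : IsPullback iY.hom g.hom g'.hom iB.hom)
    (w : iX ≫ f' = f ≫ iY) (hB : IsFinThickMor iB.hom) (hflat : LocP @Flat (f' ≫ g').hom) : Transfer f f' := by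
  have D := fun P hP h => locP_deform iX iY iB f f' g g' hcX hcY w hB hflat P hP h
  have hlfp : LocP @LocallyOfFinitePresentation f.hom → LocP @LocallyOfFinitePresentation f'.hom :=
    D _ etST_lfp (fun _ _ _ _ _ _ _ h1 h2 h3 h4 hfl hq => have := hfl; have := hq; lfp h1 h2 h3 h4)
  have hfla : LocP @Flat f.hom → LocP @Flat f'.hom :=
    D _ etST_flat (fun _ _ _ _ _ _ _ h1 h2 h3 h4 hfl hq => have := hfl; have := hq; flat h1 h2 h3 h4)
  exact {
    flat := hfla
    lfp := hlfp
    lft := D _ etST_lft (fun _ _ _ _ _ _ _ h1 h2 h3 h4 _ hq => have := hq; lft h1 h2 h3 h4)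
    smooth := D _ etST_smooth (fun _ _ _ _ _ _ _ h1 h2 h3 h4 hfl hq => have := hfl; have := hq; smooth h1 h2 h3 h4)
    etale := D _ etST_etale (fun _ _ _ _ _ _ _ h1 h2 h3 h4 hfl hq => have := hfl; have := hq; etale h1 h2 h3 h4)
    lqf := D _ etST_lqf (fun _ _ _ _ _ _ _ h1 h2 h3 h4 _ hq =>
      have := hq.1; have := hq.2; ⟨lqf h1 h2 h3 h4, lft h1 h2 h3 h4⟩)
    unramified := D _ etST_unramified (fun _ _ _ _ _ _ _ h1 h2 h3 h4 _ hq =>
      have := hq.1; have := hq.2; ⟨lft h1 h2 h3 h4, formallyUnramified h1 h2 h3 h4⟩)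
    repData := fun hf => by
      obtain ⟨n, hBn⟩ := hB
      have w' : iX.hom ≫ f'.hom = f.hom ≫ iY.hom := congrArg (·.hom) w
      exact ⟨iX, iY, {
        thX := repWith_baseChange hcX.flip hBn.1
        thY := repWith_baseChange hcY.flip hBn.1
        w := w
        cart := IsPullback.of_bot hcX w' hcY
        lfp' := hlfp hf
        lfp := hf
        flat := hfla }⟩ }

/-- flatness of the base at the image -/
theorem flatAt_image (f' : X' ⟶ Y') (g' : Y' ⟶ B') (h : LocP @Flat f'.hom)
    (hflat : LocP @Flat (f' ≫ g').hom) (x' : Points X'.obj) : IsFlatAtMor g'.hom (Points.map f'.hom x') := by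
  obtain ⟨W, c, hce, hcs⟩ := B'.property.atlas
  obtain ⟨V, b, k, hbe, hbs, hk⟩ := exists_chart_lift Y'.property B'.property g'.hom hce hcs
  obtain ⟨U, a, m, hae, has, hm⟩ := exists_chart_lift X'.property Y'.property f'.hom hbe hbs
  obtain ⟨u, rfl⟩ := ofPt_surjective has x'
  rw [Points.map_ofPt, hm, ofPt_comp, FibreFlat.isFlatAtMor_iff_chart Y'.property B'.property hbe hce hk]
  have hmf : Flat m.left := h a b m hae hbe hm
  have hmk : Flat (m.left ≫ k.left) := hflat a c (m ≫ k) hae hce (by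
    show a ≫ f'.hom ≫ g'.hom = _
    rw [reassoc_of% hm, hk, Functor.map_comp, Category.assoc])
  exact FibreFlat.flatAt_of_comp (FibreFlat.flatAt_of_flat m.left u) (FibreFlat.flatAt_of_flat (m.left ≫ k.left) u)

end Groth.Agent.EtInvariance.Fin
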