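import Groth.Agent.EtInvariance.FinDeform
import Groth.Agent.AlgSpLib.PureMono
import Groth.Agent.ThickSys.Sys

/-!
# Base change of finite order thickenings of algebraic spaces
-/

universe u

open CategoryTheory CategoryTheory.Limits AlgebraicGeometry Opposite

set_option backward.isDefEq.respectTransparency false

namespace Groth.Agent.EtInvariance

open _root_.AlgSp Groth.Agent.AlgSpLib

theorem eq_bot_of_comap_eq_bot {V' V : Scheme.{u}} [IsAffine V] (p : V' ⟶ V) [Flat p] [Surjective p]
    (K : V.IdealSheafData) (h : K.comap p = ⊥) : K = ⊥ := by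
  refine Scheme.IdealSheafData.ext_of_isAffine ?_
  rw [Scheme.IdealSheafData.ideal_bot, Pi.bot_apply, eq_bot_iff]
  intro x hx
  have h1 : K ≤ p.ker := Scheme.IdealSheafData.map_bot p ▸ Scheme.IdealSheafData.le_map_iff_comap_le.2 h.le
  have h2 : p.appTop.hom x = 0 := Scheme.IdealSheafData.ideal_ofIdeals_le _ _ (h1 _ hx)
  exact appTop_injective_of_flat_surjective p (h2.trans (map_zero _).symm)

variable {S : Scheme.{u}}

/-- base changes of finite order thickenings are finite order thickenings -/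
theorem isFinThickMor_baseChange {X X' B B' : Sp S} (hB' : IsAlgSpace B') {iB : B ⟶ B'} {iX : X ⟶ X'} {h : X ⟶ B}
    {h' : X' ⟶ B'} (sq : IsPullback iX h h' iB) (hB : IsFinThickMor iB) : IsFinThickMor iX := by
  have hst : thick.{u}.IsStableUnderBaseChange := inferInstanceAs
    (MorphismProperty.IsStableUnderBaseChange (@IsClosedImmersion ⊓ @Surjective : MorphismProperty Scheme.{u}))
  obtain ⟨W, c, hc, hcs⟩ := hB'.atlas
  obtain ⟨n, hBn⟩ := hB
  obtain ⟨W₀, y, iW, sqW, hiW⟩ := exists_repWith hBn.1 c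
  have : IsClosedImmersion iW.left := hiW.1
  obtain ⟨-, m, hm⟩ := isFiniteOrderThickening_of_chart ⟨n, hBn⟩ hc sqW
  refine ⟨m, repWith_baseChange sq.flip hBn.1, fun V V₀ b fst u hV hb sqb => ?_⟩
  obtain ⟨V', p, α, sqp⟩ := exists_pullback hB'.diag (b ≫ h') c
  have : Etale p.left := (repWith_yon_iff p).1 (repWith_baseChange sqp.flip hc)
  have : Surjective p.left := (repWith_yon_iff p).1 (repWith_baseChange sqp.flip hcs)
  have : Flat p.left := inferInstance
  have hu : thick u.left := (repWith_baseChange sq.flip hBn.1).2 b fst u sqb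
  have : IsClosedImmersion u.left := hu.1
  obtain ⟨V'₀, u', q, sqq⟩ := exists_pullback (IsAlgSpace.yon_obj V).diag ((yon S).map p) ((yon S).map u)
  have hbig : IsPullback ((yon S).map u') (((yon S).map q ≫ fst) ≫ h) ((yon S).map p ≫ b ≫ h') iB := by
    rw [Category.assoc]
    exact sqq.paste_vert (sqb.flip.paste_vert sq)
  obtain ⟨l, hl⟩ := exists_map_eq (sqW.lift (((yon S).map q ≫ fst) ≫ h) ((yon S).map (u' ≫ α)) (by
    rw [Functor.map_comp, Category.assoc ((yon S).map u'), ← sqp.w, hbig.w]))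
  have hl₁ : (yon S).map l ≫ y = ((yon S).map q ≫ fst) ≫ h := by rw [hl, sqW.lift_fst]
  have hl₂ : (yon S).map l ≫ (yon S).map iW = (yon S).map u' ≫ (yon S).map α := by
    rw [hl, sqW.lift_snd, Functor.map_comp]
  have sqL : IsPullback ((yon S).map l) ((yon S).map u') ((yon S).map iW) ((yon S).map α) :=
    IsPullback.of_right (by rw [hl₁, ← sqp.w]; exact hbig.flip) hl₂ sqW
  have h1 : u'.left.ker = iW.left.ker.comap α.left := ThickSys.ker_of_isPullback (isPullback_yon_iff.1 sqL).flip
  have h2 : u'.left.ker = u.left.ker.comap p.left := ThickSys.ker_of_isPullback (isPullback_yon_iff.1 sqq)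
  show u.left.ker ^ (m + 1) = ⊥
  refine eq_bot_of_comap_eq_bot p.left _ ?_
  rw [ThickSys.comap_pow, ← h2, h1, ← ThickSys.comap_pow, pow_succ, hm,
    zero_mul, Scheme.IdealSheafData.zero_eq_bot, Scheme.IdealSheafData.comap_bot]

end Groth.Agent.EtInvariance
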