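import Groth.Agent.EtInvariance.Factor
import Groth.Agent.EtInvariance.Extend
import Mathlib.AlgebraicGeometry.Morphisms.Etale

/-!
# Étale morphisms to the source of a universal homeomorphism are covered by base changes
-/

universe u

open CategoryTheory CategoryTheory.Limits AlgebraicGeometry Opposite Topology TensorProduct

set_option backward.isDefEq.respectTransparency false

namespace Groth.Agent.EtInvariance

theorem exists_lift_ring {A B R : Type u} [CommRing A] [CommRing B] [CommRing R] [Algebra A B] [Algebra B R] [Algebra A R]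
    [IsScalarTower A B R] [Algebra.IsIntegral A B] [Algebra.Etale B R]
    [UniversallyInjective (Spec.map (CommRingCat.ofHom (algebraMap A B)))] (x : PrimeSpectrum R) :
    ∃ (E : Type u) (_ : CommRing E) (_ : Algebra A E) (_ : Algebra.Etale A E) (φ : R →ₐ[A] E ⊗[A] B),
      (∀ b, φ (algebraMap B R b) = 1 ⊗ₜ b) ∧ x ∈ Set.range (PrimeSpectrum.comap φ.toRingHom) := by
  let K := x.asIdeal.ResidueField
  let ρ : R →ₐ[A] K := IsScalarTower.toAlgHom A R K
  obtain ⟨E, _, _, hE, φ, χ, hφ, hcomp⟩ := factor (B := B) ρ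
  let χB := Algebra.TensorProduct.productMap χ (ρ.comp (IsScalarTower.toAlgHom A B R))
  refine ⟨E, inferInstance, inferInstance, hE, φ, hφ, ⟨RingHom.ker χB.toRingHom, RingHom.ker_isPrime _⟩,
    PrimeSpectrum.ext (Ideal.ext fun r => ?_)⟩
  show χB (φ r) = 0 ↔ r ∈ x.asIdeal
  rw [← AlgHom.comp_apply, hcomp]
  exact Ideal.algebraMap_residueField_eq_zero

theorem exists_lift_spec {A B R : CommRingCat.{u}} (φ : A ⟶ B) (ψ : B ⟶ R) [IsIntegralHom (Spec.map φ)]
    [UniversallyInjective (Spec.map φ)] [Etale (Spec.map ψ)] (x : ↥(Spec R)) :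
    ∃ (W W₀ : Scheme.{u}) (w : W ⟶ Spec A) (_ : Etale w) (g : W₀ ⟶ Spec B) (c : W₀ ⟶ W) (q : W₀ ⟶ Spec R),
      IsPullback g c (Spec.map φ) w ∧ q ≫ Spec.map ψ = g ∧ x ∈ Set.range q := by
  algebraize [φ.hom, ψ.hom, ψ.hom.comp φ.hom]
  have : Algebra.IsIntegral A B := ⟨(IsIntegralHom.SpecMap_iff.1 ‹_›)⟩
  have : Algebra.Etale B R := RingHom.etale_algebraMap.1
    (HasRingHomProperty.Spec_iff.1 (‹_› : Etale (Spec.map ψ)))
  have : UniversallyInjective (Spec.map (CommRingCat.ofHom (algebraMap A B))) := ‹_›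
  obtain ⟨E, _, _, hE, q, hq, hx⟩ := exists_lift_ring (A := A) (B := B) (R := R) x
  have hpb := isPullback_SpecMap_of_isPushout _ _ _ _ (CommRingCat.isPushout_tensorProduct A E B)
  refine ⟨Spec (.of E), _, Spec.map (CommRingCat.ofHom (algebraMap A E)),
    HasRingHomProperty.Spec_iff.2 (RingHom.etale_algebraMap.2 hE), _, _, Spec.map (CommRingCat.ofHom q.toRingHom),
    hpb.flip, ?_, hx⟩
  rw [← Spec.map_comp]
  congr 1
  ext b
  exact hq b

theorem exists_lift_affine {T P U : Scheme.{u}} [IsAffine T] [IsAffine P] [IsAffine U] (i : P ⟶ T) [IsIntegralHom i]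
    [UniversallyInjective i] (e : U ⟶ P) [Etale e] (u : U) :
    ∃ (W W₀ : Scheme.{u}) (w : W ⟶ T) (_ : Etale w) (g : W₀ ⟶ P) (c : W₀ ⟶ W) (q : W₀ ⟶ U),
      IsPullback g c i w ∧ q ≫ e = g ∧ u ∈ Set.range q := by
  have hi : Spec.map i.appTop = P.isoSpec.inv ≫ i ≫ T.isoSpec.hom := by
    rw [← Scheme.isoSpec_hom_naturality, Iso.inv_hom_id_assoc]
  have he : Spec.map e.appTop = U.isoSpec.inv ≫ e ≫ P.isoSpec.hom := by
    rw [← Scheme.isoSpec_hom_naturality, Iso.inv_hom_id_assoc]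
  have : IsIntegralHom (Spec.map i.appTop) := by rw [hi]; infer_instance
  have : UniversallyInjective (Spec.map i.appTop) := by
    rw [hi, MorphismProperty.cancel_left_of_respectsIso (P := @UniversallyInjective),
      MorphismProperty.cancel_right_of_respectsIso (P := @UniversallyInjective)]
    assumption
  have : Etale (Spec.map e.appTop) := by rw [he]; infer_instance
  obtain ⟨W, W₀, w, hw, g, c, q, hpb, hq, x, hx⟩ := exists_lift_spec i.appTop e.appTop (U.isoSpec.hom u)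
  refine ⟨W, W₀, w ≫ T.isoSpec.inv, inferInstance, g ≫ P.isoSpec.inv, c, q ≫ U.isoSpec.inv, ?_, ?_, x, ?_⟩
  · refine hpb.of_iso (Iso.refl _) P.isoSpec.symm (Iso.refl _) T.isoSpec.symm ?_ ?_ ?_ ?_
    · simp
    · simp
    · simp [hi]
    · simp
  · rw [← hq, he]
    simp
  · rw [Scheme.Hom.comp_apply, hx, ← Scheme.Hom.comp_apply, Iso.hom_inv_id]
    rfl

open _root_.AlgSp Groth.Agent.AlgSpLib

variable {S : Scheme.{u}}

theorem exists_affine_etale_nhd {F : Sp S} (hF : IsAlgSpace F) (x : Points F) :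
    ∃ (U : Over S) (a : (yon S).obj U ⟶ F) (u : ↥U.left),
      IsAffine U.left ∧ RepWith @Etale a ∧ Points.ofPt a u = x := by
  obtain ⟨U, p, he, hs⟩ := hF.atlas
  obtain ⟨u, rfl⟩ := ofPt_surjective hs x
  obtain ⟨O, hO, hu, -⟩ := exists_isAffineOpen_mem_and_subset (X := U.left) (x := u) (U := ⊤) trivial
  let j : Over.mk (O.ι ≫ U.hom) ⟶ U := Over.homMk O.ι rfl
  exact ⟨_, (yon S).map j ≫ p, ⟨u, hu⟩, hO,
    repWith_comp ((repWith_yon_iff j).2 (inferInstanceAs (Etale O.ι))) he, ofPt_comp _ _ _⟩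

theorem exists_lift_point {X Y V : Sp S} (hX : IsAlgSpace X) (hV : IsAlgSpace V) (f : X ⟶ Y)
    (hf : IsUH f) (b : V ⟶ X) (hb : IsEtaleMor b) {U : Over S} (p : (yon S).obj U ⟶ Y)
    (hps : RepWith @Surjective p) (v : Points V) :
    ∃ (W : Scheme.{u}) (w : W ⟶ U.left) (_ : Etale w) (P : Over S) (g : (yon S).obj P ⟶ X)
      (c : P ⟶ Over.mk (w ≫ U.hom)) (q : (yon S).obj P ⟶ V),
      IsPullback g ((yon S).map c) f ((yon S).map (Over.homMk w : Over.mk (w ≫ U.hom) ⟶ U) ≫ p) ∧ q ≫ b = g ∧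
        v ∈ Set.range (Points.map q) := by
  obtain ⟨u₀, hu₀⟩ := ofPt_surjective hps (Points.map f (Points.map b v))
  obtain ⟨O, hO, hu, -⟩ := exists_isAffineOpen_mem_and_subset (X := U.left) (x := u₀) (U := ⊤) trivial
  let T : Over S := Over.mk (O.ι ≫ U.hom)
  let j : T ⟶ U := Over.homMk O.ι rfl
  have hT : IsAffine T.left := hO
  obtain ⟨P₁, g₁, c₁, sq₁, hc₁i, hc₁u, -⟩ := hf.exists_scheme ((yon S).map j ≫ p)
  have hP₁ : IsAffine P₁.left := isAffine_of_isAffineHom c₁.left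
  obtain ⟨x₁, hx₁, -⟩ := exists_point_of_isPullback sq₁ (Points.map b v) (Points.ofScheme T ⟨u₀, hu⟩) (by
    rw [← Points.ofPt_eq_map_ofScheme, ofPt_comp, ← hu₀]
    rfl)
  have sqV := IsPullback.of_hasPullback b g₁
  have hV₁ : IsAlgSpace (pullback b g₁) := isAlgSpace_of_isPullback_space hX hV (IsAlgSpace.yon_obj _) sqV
  obtain ⟨v₁, hv₁, -⟩ := exists_point_of_isPullback sqV v x₁ hx₁.symm
  obtain ⟨U₀, a, u, hU₀, ha, rfl⟩ := exists_affine_etale_nhd hV₁ v₁
  obtain ⟨e, he⟩ := exists_map_eq (a ≫ pullback.snd b g₁)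
  have : Etale e.left := (repWith_yon_iff e).1 (by
    rw [he]
    exact isEtaleMor_baseChange (IsAlgSpace.yon_obj _) hV hX sqV.flip hb a ha)
  obtain ⟨W, W₀, w, hw, g, c, q, hpb, hq, z, hz⟩ := exists_lift_affine c₁.left e.left u
  have hP : (g ≫ P₁.hom) = c ≫ (w ≫ O.ι) ≫ U.hom := by
    rw [← Over.w c₁, reassoc_of% hpb.w]
    simp [T]
  let P : Over S := Over.mk (g ≫ P₁.hom)
  let cO : P ⟶ Over.mk ((w ≫ O.ι) ≫ U.hom) := Over.homMk c hP.symm
  let gO : P ⟶ P₁ := Over.homMk g rfl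
  let wO : Over.mk ((w ≫ O.ι) ≫ U.hom) ⟶ T := Over.homMk w (by simp [T])
  let qO : P ⟶ U₀ := Over.homMk q (by rw [← Over.w e, reassoc_of% hq]; rfl)
  have hqe : qO ≫ e = gO := Over.OverMorphism.ext hq
  have sqO : IsPullback gO.left cO.left c₁.left wO.left := hpb
  refine ⟨W, w ≫ O.ι, inferInstance, P, (yon S).map gO ≫ g₁, cO, (yon S).map qO ≫ a ≫ pullback.fst b g₁, ?_, ?_,
    Points.ofScheme P z, ?_⟩
  · have h := (isPullback_yon_iff.2 sqO).paste_horiz sq₁
    have hwj : (Over.homMk (w ≫ O.ι) : Over.mk ((w ≫ O.ι) ≫ U.hom) ⟶ U) = wO ≫ j := Over.OverMorphism.ext rfl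
    rwa [hwj, Functor.map_comp, Category.assoc ((yon S).map wO)]
  · rw [Category.assoc, Category.assoc, pullback.condition, ← Category.assoc a, ← he, ← Category.assoc,
      ← Functor.map_comp, hqe]
  · rw [← Points.ofPt_eq_map_ofScheme, ofPt_comp]
    show Points.ofPt (a ≫ pullback.fst b g₁) (q z) = v
    rw [hz, ← Points.map_ofPt, hv₁]

/-- an étale space over the source is the target of a surjection from a base change of a scheme étale over the target -/
theorem exists_cover {X Y V : Sp S} (hX : IsAlgSpace X) (hY : IsAlgSpace Y) (hV : IsAlgSpace V) (f : X ⟶ Y)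
    (hf : IsUH f) (b : V ⟶ X) (hb : IsEtaleMor b) :
    ∃ (W : Over S) (w : (yon S).obj W ⟶ Y) (P : Over S) (g : (yon S).obj P ⟶ X) (c : P ⟶ W)
      (q : (yon S).obj P ⟶ V),
      RepWith @Etale w ∧ IsPullback g ((yon S).map c) f w ∧ q ≫ b = g ∧ RepWith @Etale q ∧ RepWith @Surjective q := by
  obtain ⟨U, p, hpe, hps⟩ := hY.atlas
  obtain ⟨U', p', -, hp's⟩ := hV.atlas
  choose Wi wi hwi Pi gi ci qi sqi hqi hvi using
    fun x : ↥U'.left => exists_lift_point hX hV f hf b hb p hps (Points.ofPt p' x)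
  let wS : Over.mk (Sigma.desc wi ≫ U.hom) ⟶ U := Over.homMk (Sigma.desc wi) rfl
  have hwS : Etale wS.left := (IsZariskiLocalAtSource.iff_of_openCover (P := @Etale) (sigmaOpenCover Wi)).2 fun i => by
    change Etale (Sigma.ι Wi i ≫ Sigma.desc wi)
    rw [Sigma.ι_desc]
    exact hwi i
  have hw : RepWith @Etale ((yon S).map wS ≫ p) := repWith_comp ((repWith_yon_iff wS).2 hwS) hpe
  obtain ⟨P, g, c, sq, -⟩ := exists_repWith hf.integral ((yon S).map wS ≫ p)
  let ιi : ∀ i, Over.mk (wi i ≫ U.hom) ⟶ Over.mk (Sigma.desc wi ≫ U.hom) :=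
    fun i => Over.homMk (Sigma.ι Wi i) (Sigma.ι_desc_assoc _ _ _)
  have hιi : ∀ i, ιi i ≫ wS = Over.homMk (wi i) := fun i => Over.OverMorphism.ext (Sigma.ι_desc _ _)
  have hsq' : ∀ i, IsPullback (gi i) ((yon S).map (ci i)) f ((yon S).map (ιi i) ≫ (yon S).map wS ≫ p) := fun i => by
    rw [← Category.assoc, ← Functor.map_comp, hιi]
    exact sqi i
  choose k hk using fun i => exists_map_eq (sq.lift (gi i) ((yon S).map (ci i) ≫ (yon S).map (ιi i)) (by
    rw [Category.assoc]; exact (hsq' i).w))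
  have hkg : ∀ i, (yon S).map (k i) ≫ g = gi i := fun i => by rw [hk, sq.lift_fst]
  have sqk : ∀ i, IsPullback (k i).left (ci i).left c.left (ιi i).left := fun i => by
    refine isPullback_yon_iff.1 (IsPullback.of_right ?_ (by rw [hk, sq.lift_snd]) sq)
    rw [hkg]
    exact hsq' i
  have : ∀ i, IsOpenImmersion (k i).left :=
    fun i => MorphismProperty.of_isPullback (P := @IsOpenImmersion) (sqk i).flip
      (inferInstanceAs (IsOpenImmersion (Sigma.ι Wi i)))
  obtain ⟨hcol⟩ := nonempty_isColimit_cofanMk_of (fun i => (k i).left) (by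
    refine eq_top_iff.2 fun z _ => ?_
    obtain ⟨i, x, hx⟩ := (sigmaOpenCover Wi).exists_eq (c.left z)
    obtain ⟨y, hy, -⟩ := Scheme.exists_preimage_of_isPullback (sqk i) z x hx.symm
    exact TopologicalSpace.Opens.mem_iSup.2 ⟨i, y, hy⟩) (fun i j hij => by
    refine disjoint_iff_inf_le.2 fun z hz => ?_
    obtain ⟨⟨y, hy⟩, y', hy'⟩ := hz
    have h1 : Sigma.ι Wi i ((ci i).left y) = c.left z := by
      rw [← hy]; exact (congr($((sqk i).w) y)).symm
    have h2 : Sigma.ι Wi j ((ci j).left y') = c.left z := by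
      rw [← hy']; exact (congr($((sqk j).w) y')).symm
    exact ((disjoint_opensRange_sigmaι Wi i j hij).le_bot (show c.left z ∈ _ from ⟨⟨_, h1⟩, ⟨_, h2⟩⟩)).elim)
  let θ : Over.mk (Sigma.desc fun i => (Pi i).hom) ⟶ P :=
    Over.homMk (Sigma.desc fun i => (k i).left) (Sigma.hom_ext _ _ fun i => by simp)
  have : IsIso θ.left := (Cofan.nonempty_isColimit_iff_isIso_sigmaDesc _).1 ⟨hcol⟩
  have : IsIso ((Over.forget S).map θ) := ‹IsIso θ.left›
  have : IsIso θ := isIso_of_reflects_iso θ (Over.forget S)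
  obtain ⟨L, hL⟩ := exists_sigma_hom (fun i => (Pi i).hom) (fun i => qi i)
  let q := (yon S).map (inv θ) ≫ L
  have hkq : ∀ i, (yon S).map (k i) ≫ q = qi i := fun i => by
    refine Eq.trans ?_ (hL i)
    rw [← Category.assoc, ← Functor.map_comp]
    congr 2
    rw [IsIso.comp_inv_eq]
    exact Over.OverMorphism.ext (Sigma.ι_desc (fun i => (k i).left) i).symm
  have hq : q ≫ b = g := by
    refine hom_ext_cover (R := Presieve.ofArrows _ fun i => (k i).left)
      (Scheme.zariskiPrecoverage_le_fppfPrecoverage _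
        (Scheme.Cover.mkOfCovers (P := @IsOpenImmersion) ↥U'.left _ (fun i => (k i).left)
          (fun z => by
            obtain ⟨i, x, hx⟩ := (sigmaOpenCover Wi).exists_eq (c.left z)
            obtain ⟨y, hy, -⟩ := Scheme.exists_preimage_of_isPullback (sqk i) z x hx.symm
            exact ⟨i, y, hy⟩)).mem₀) ?_
    rintro _ _ ⟨i⟩
    have he : (Over.homMk (k i).left rfl : Over.mk ((k i).left ≫ P.hom) ⟶ P) =
        (Over.homMk (𝟙 _) ((Category.id_comp _).trans (Over.w (k i)).symm) :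
          Over.mk ((k i).left ≫ P.hom) ⟶ Pi i) ≫ k i := Over.OverMorphism.ext (Category.id_comp _).symm
    erw [he]
    rw [Functor.map_comp]
    simp only [Category.assoc]
    congr 1
    rw [hkg, ← hqi i, ← hkq i, Category.assoc]
    simp only [q, Category.assoc]
  have hqe : RepWith @Etale q := repWith_etale_of_comp hV hX (by rw [hq]; exact repWith_baseChange sq.flip hw) hb
  have hqs : IsSurjectiveMor q := fun v => by
    obtain ⟨x, rfl⟩ := ofPt_surjective hp's v
    obtain ⟨y, hy⟩ := hvi x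
    exact ⟨Points.map ((yon S).map (k x)) y, by rw [← Points.map_comp, hkq, hy]⟩
  exact ⟨_, _, P, g, c, q, hw, sq, hq, hqe, repWith_surjective_of_isSurjectiveMor hqe.1 hqs⟩

end Groth.Agent.EtInvariance
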