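import Groth.Agent.AlgSpLib.Points
import Groth.Agent.AlgSpLib.FpqcProps
import Groth.Agent.UnivInjMor.Basic

/-!
# Universal homeomorphisms of fppf sheaves (representable form): points
-/

universe u

open CategoryTheory CategoryTheory.Limits AlgebraicGeometry Opposite Topology

set_option backward.isDefEq.respectTransparency false

namespace Groth.Agent.EtInvariance

open _root_.AlgSp Groth.Agent.AlgSpLib

variable {S : Scheme.{u}}

/-- representable integral, universally injective and surjective -/
structure IsUH {F G : Sp S} (f : F ⟶ G) : Prop where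
  integral : RepWith @IsIntegralHom f
  inj : RepWith @UniversallyInjective f
  surj : RepWith @Surjective f

theorem IsUH.of_mor {F G : Sp S} (hF : IsAlgSpace F) {f : F ⟶ G} (h1 : IsIntegralMor f) (h2 : IsUnivInjectiveMor f)
    (h3 : IsSurjectiveMor f) : IsUH f := by
  have h1' := (isIntegralMor_iff_repWith f).1 h1
  exact ⟨h1', (UnivInjMor.repWith_universallyInjective_iff h1'.1).2 fun _ _ str =>
    UnivInjMor.injective_of_isUnivInjectiveMor hF h2 str, repWith_surjective_of_isSurjectiveMor h1'.1 h3⟩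

theorem IsUH.rep {F G : Sp S} {f : F ⟶ G} (h : IsUH f) : Representable f := h.integral.1

theorem IsUH.baseChange {F G F' G' : Sp S} {f : F ⟶ G} {fst : F' ⟶ F} {f' : F' ⟶ G'} {g : G' ⟶ G}
    (sq : IsPullback fst f' f g) (h : IsUH f) : IsUH f' :=
  ⟨repWith_baseChange sq h.integral, repWith_baseChange sq h.inj, repWith_baseChange sq h.surj⟩

theorem IsUH.exists_scheme {F G : Sp S} {f : F ⟶ G} (h : IsUH f) {T : Over S} (g : (yon S).obj T ⟶ G) :
    ∃ (P : Over S) (fst : (yon S).obj P ⟶ F) (snd : P ⟶ T), IsPullback fst ((yon S).map snd) f g ∧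
      IsIntegralHom snd.left ∧ UniversallyInjective snd.left ∧ Surjective snd.left := by
  obtain ⟨P, fst, snd, sq⟩ := exists_isPullback_of_representable h.rep g
  exact ⟨P, fst, snd, sq, h.integral.2 g fst snd sq,
    h.inj.2 g fst snd sq,
    h.surj.2 g fst snd sq⟩

theorem IsUH.bijective {F G : Sp S} {f : F ⟶ G} (h : IsUH f) : Function.Bijective (Points.map f) := by
  refine ⟨fun x₁ x₂ e => ?_, isSurjectiveMor_of_repWith h.surj⟩
  obtain ⟨T, g, t, ht⟩ := exists_ofPt (Points.map f x₂)
  obtain ⟨P, fst, snd, sq, -, hinj, -⟩ := h.exists_scheme g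
  have ht' : Points.map f x₂ = Points.map g (Points.ofScheme T t) := by
    rw [← ht, ← Points.ofPt_eq_map_ofScheme]
  obtain ⟨p₁, rfl, hp₁⟩ := exists_point_of_isPullback sq x₁ _ (e.trans ht')
  obtain ⟨p₂, rfl, hp₂⟩ := exists_point_of_isPullback sq x₂ _ ht'
  obtain ⟨v₁, rfl⟩ := (Points.schemeEquiv P).surjective p₁
  obtain ⟨v₂, rfl⟩ := (Points.schemeEquiv P).surjective p₂
  have h12 : Points.schemeEquiv T (snd.left v₁) = Points.schemeEquiv T (snd.left v₂) := by
    change Points.schemeHomeo T (snd.left v₁) = Points.schemeHomeo T (snd.left v₂)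
    rw [← Points.map_yon_map_apply, ← Points.map_yon_map_apply]
    exact hp₁.trans hp₂.symm
  have : v₁ = v₂ := snd.left.injective ((Points.schemeEquiv T).injective h12)
  rw [this]

theorem IsUH.isOpen_of_preimage {F G : Sp S} {f : F ⟶ G} (h : IsUH f) {W : Set (Points G)}
    (hW : IsOpen (Points.map f ⁻¹' W)) : IsOpen W := by
  refine Points.isOpen_iff.2 fun T g => ?_
  obtain ⟨P, fst, snd, sq, hint, -, hs⟩ := h.exists_scheme g
  have hq : IsQuotientMap snd.left := (snd.left.isClosedMap).isQuotientMap snd.left.continuous snd.left.surjective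
  rw [← hq.isOpen_preimage]
  have : snd.left ⁻¹' (Points.ofPt g ⁻¹' W) = Points.ofPt fst ⁻¹' (Points.map f ⁻¹' W) := by
    ext v
    show Points.ofPt g (snd.left v) ∈ W ↔ Points.map f (Points.ofPt fst v) ∈ W
    rw [Points.map_ofPt, sq.w, ofPt_comp]
  rw [this]
  exact hW.preimage (Points.continuous_ofPt fst)

end Groth.Agent.EtInvariance
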