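import Groth.Agent.EtInvariance.PushFF
import Mathlib

/-!
# Full faithfulness and essential image of the direct image along integral universally injective morphisms
-/

set_option autoImplicit false
set_option backward.isDefEq.respectTransparency false
set_option linter.style.haveILetI false

universe u v' u'

open CategoryTheory CategoryTheory.Limits AlgebraicGeometry Opposite

namespace Groth.Agent.EtInvariance

open _root_.AlgSp Groth.Agent.AlgSpLib

variable {S : Scheme.{u}} {X Y : Space S} {f : Y ⟶ X}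

theorem repWith_univInj (hi : RepWith @IsIntegralHom f.hom) (hu : IsUnivInjectiveMor f.hom) :
    RepWith @UniversallyInjective f.hom :=
  (UnivInjMor.repWith_universallyInjective_iff hi.1).2 fun _ _ str =>
    UnivInjMor.injective_of_isUnivInjectiveMor Y.property hu str

theorem fullyFaithful_pushEt (hi : RepWith @IsIntegralHom f.hom) (hu : IsUnivInjectiveMor f.hom)
    (A : Type u') [Category.{v'} A] : (pushEt hi.1 A).Full ∧ (pushEt hi.1 A).Faithful := by
  haveI := isCoverDense_bc Y.property X.property hi (repWith_univInj hi hu)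
  haveI := isLocallyFull_bc X.property hi (repWith_univInj hi hu)
  exact ⟨inferInstance, inferInstance⟩

/-- the objects missing the image -/
abbrev Misses (f : Y ⟶ X) (E : EtOver X.obj) : Prop :=
  Disjoint (Set.range (Points.map E.obj.hom)) (Set.range (Points.map f.hom))

theorem misses_of_hom {Z E : EtOver X.obj} (g : Z ⟶ E) (h : Misses f E) : Misses f Z := by
  refine h.mono_left ?_
  rintro _ ⟨z, rfl⟩
  exact ⟨Points.map ((yon S).map g.hom.left) z, by rw [← Points.map_comp, EtOver.w g]⟩

theorem bot_mem_of_misses (hi : Representable f.hom) {E : EtOver X.obj} (h : Misses f E) :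
    (⊥ : Sieve ((EtOver.bc hi).obj E)) ∈ etTop Y.obj _ := by
  refine (etTop Y.obj).superset_covering ?_
    (ofArrows_mem_etTop (E := (EtOver.bc hi).obj E) (fun i : PEmpty.{1} => i.elim) (fun i => i.elim) fun p => ?_)
  · rw [Sieve.ofArrows, Sieve.generate_le_iff]
    rintro _ _ ⟨i⟩
    exact i.elim
  · exfalso
    refine Set.disjoint_left.1 h ⟨Points.map ((yon S).map (hi.snd E.obj.hom)) (Points.schemeHomeo _ p), rfl⟩
      ⟨Points.map (hi.fst E.obj.hom) (Points.schemeHomeo _ p), ?_⟩
    rw [← Points.map_comp, ← Points.map_comp, hi.w]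

theorem sup_misses_mem (hi : RepWith @IsIntegralHom f.hom) {E : EtOver X.obj} {R : Sieve E}
    (hR : R.functorPushforward (EtOver.bc hi.1) ∈ etTop Y.obj _) (T : Sieve E) (hT : R ≤ T)
    (hT' : ∀ ⦃Z : EtOver X.obj⦄ (g : Z ⟶ E), Misses f Z → T g) : T ∈ etTop X.obj E := by
  have key : ∀ x : ↥E.obj.left.left, ∃ (Z : EtOver X.obj) (g : Z ⟶ E), T g ∧ x ∈ Set.range g.hom.left.left := by
    intro x
    by_cases hx : x ∈ Set.range (hi.1.snd E.obj.hom).left
    · obtain ⟨p, rfl⟩ := hx
      obtain ⟨Z', g', ⟨Z, g, h, hg, rfl⟩, z, hz⟩ := surjective_of_mem_etTop hR p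
      refine ⟨Z, g, hT _ hg, (hi.1.snd Z.obj.hom).left (h.hom.left.left z), ?_⟩
      have h1 : (EtOver.bcMap hi.1 g).hom.left.left ≫ (hi.1.snd E.obj.hom).left =
          (hi.1.snd Z.obj.hom).left ≫ g.hom.left.left := congrArg (·.left) (EtOver.bcMap_snd hi.1 g)
      rw [← hz]
      exact (congr($h1 (h.hom.left.left z))).symm
    · haveI : IsIntegralHom (hi.1.snd E.obj.hom).left := hi.2 _ _ _ (hi.1.isPullback E.obj.hom)
      let O : E.obj.left.left.Opens :=
        ⟨(Set.range (hi.1.snd E.obj.hom).left)ᶜ, (hi.1.snd E.obj.hom).left.isClosedMap.isClosed_range.isOpen_compl⟩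
      let j : Over.mk (O.ι ≫ E.obj.left.hom) ⟶ E.obj.left := Over.homMk O.ι rfl
      have hj : Etale j.left := inferInstanceAs (Etale O.ι)
      let A : EtOver X.obj := EtOver.mk ((yon S).map j ≫ E.obj.hom) (repWith_comp ((repWith_yon_iff j).2 hj) E.property)
      refine ⟨A, EtOver.homMk j rfl, hT' _ (Set.disjoint_left.2 ?_), ⟨x, hx⟩, rfl⟩
      rintro _ ⟨a, rfl⟩ ⟨y, hy⟩
      obtain ⟨a', rfl⟩ := (Points.schemeHomeo _).surjective a
      change Points.map f.hom y = Points.map ((yon S).map j ≫ E.obj.hom)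
        (Points.schemeHomeo (Over.mk (O.ι ≫ E.obj.left.hom)) a') at hy
      rw [Points.map_comp, Points.map_yon_map_apply] at hy
      exact a'.2 (exists_preimage_bcπ hi.1 _ y hy)
  choose Z g hg hx using key
  refine (etTop X.obj).superset_covering ?_ (ofArrows_mem_etTop Z g fun x => ⟨x, hx x⟩)
  rw [Sieve.ofArrows, Sieve.generate_le_iff]
  rintro _ _ ⟨x⟩
  exact hg x

theorem isSheafFor_of_misses (hi : RepWith @IsIntegralHom f.hom) {Q : (EtOver X.obj)ᵒᵖ ⥤ Type u'}
    (hQ : Presieve.IsSheaf (etTop X.obj) Q) (hv : ∀ E, Misses f E → Nonempty (Unique (Q.obj (op E))))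
    {E : EtOver X.obj} {R : Sieve E} (hR : R.functorPushforward (EtOver.bc hi.1) ∈ etTop Y.obj _) :
    Presieve.IsSheafFor Q R.arrows := by
  classical
  let D : Sieve E :=
    { arrows := fun Z g => R g ∨ Misses f Z
      downward_closed := fun {Z W g} hg k =>
        hg.imp (fun h => R.downward_closed h k) fun h => misses_of_hom k h }
  have hD : D ∈ etTop X.obj E := sup_misses_mem hi hR D (fun Z g h => Or.inl h) fun Z g h => Or.inr h
  have hsub : ∀ Z, Misses f Z → Subsingleton (Q.obj (op Z)) := fun Z h => by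
    obtain ⟨_⟩ := hv Z h
    infer_instance
  intro x hx
  let x' : Presieve.FamilyOfElements Q D.arrows := fun Z g hg =>
    if h : Misses f Z then (hv Z h).some.default else x g (hg.resolve_right h)
  have hxe : ∀ ⦃Z⦄ (g : Z ⟶ E) (h : R g) (h' : D g), x' g h' = x g h := fun Z g h h' => by
    by_cases hm : Misses f Z
    · exact (hsub Z hm).elim _ _
    · exact dif_neg hm
  have hx' : x'.Compatible := by
    intro Z₁ Z₂ W r₁ r₂ g₁ g₂ h₁ h₂ e
    by_cases hW : Misses f W
    · haveI := hsub W hW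
      exact Subsingleton.elim _ _
    · have hR₁ : R g₁ := h₁.resolve_right fun h => hW (misses_of_hom r₁ h)
      have hR₂ : R g₂ := h₂.resolve_right fun h => hW (misses_of_hom r₂ h)
      rw [hxe g₁ hR₁ h₁, hxe g₂ hR₂ h₂]
      exact hx r₁ r₂ hR₁ hR₂ e
  obtain ⟨t, ht, huniq⟩ := hQ D hD x' hx'
  refine ⟨t, fun Z g hg => (ht g (Or.inl hg)).trans (hxe g hg (Or.inl hg)), fun t' ht' => huniq t' fun Z g hg => ?_⟩
  by_cases hm : Misses f Z
  · exact (hsub Z hm).elim _ _
  · rw [hxe g (hg.resolve_right hm) hg]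
    exact ht' g _

instance hasLimitsOfShape_structuredArrow {C D : Type (u + 1)} [Category.{u} C] [Category.{u} D] (G : C ⥤ D)
    (X : D) {A : Type u'} [Category.{v'} A] [HasLimitsOfSize.{u + 1, u + 1} A] :
    HasLimitsOfShape (StructuredArrow X G) A :=
  hasLimitsOfShape_of_equivalence (ULiftHom.equiv : StructuredArrow X G ≌ ULiftHom.{u + 1} (StructuredArrow X G)).symm

theorem essImage_pushEt_iff (hi : RepWith @IsIntegralHom f.hom) (hu : IsUnivInjectiveMor f.hom)
    {A : Type u'} [Category.{v'} A] [HasLimitsOfSize.{u + 1, u + 1} A] (G : EtSh X.obj A) :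
    (pushEt hi.1 A).essImage G ↔ ∀ E : EtOver X.obj, Misses f E → Nonempty (IsTerminal (G.obj.obj (op E))) := by
  haveI := isCoverDense_bc Y.property X.property hi (repWith_univInj hi hu)
  haveI := isLocallyFull_bc X.property hi (repWith_univInj hi hu)
  haveI := isLocallyFaithful_bc (Y := Y.obj) X.property hi.1
  constructor
  · rintro ⟨F, ⟨e⟩⟩ E hE
    exact ⟨(Sheaf.isTerminalOfBotCover F _ (bot_mem_of_misses hi.1 hE)).ofIso
      (((sheafToPresheaf _ A).mapIso e).app (op E))⟩
  · intro hv
    let J' := (EtOver.bc hi.1).inducedTopology (etTop Y.obj)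
    have hG : Presheaf.IsSheaf J' G.obj := fun T E R hR => by
      rw [Functor.mem_inducedTopology_iff_of_isCoverDense] at hR
      refine isSheafFor_of_misses hi (G.property T) (fun E' hE' => ?_) hR
      obtain ⟨ht⟩ := hv E' hE'
      exact ⟨⟨⟨ht.from T⟩, fun g => ht.hom_ext g _⟩⟩
    haveI : ((EtOver.bc hi.1).sheafPushforwardContinuous A J' (etTop Y.obj)).IsEquivalence := inferInstance
    let e := ((EtOver.bc hi.1).sheafPushforwardContinuous A J' (etTop Y.obj)).objObjPreimageIso ⟨G.obj, hG⟩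
    exact ⟨((EtOver.bc hi.1).sheafPushforwardContinuous A J' (etTop Y.obj)).objPreimage ⟨G.obj, hG⟩,
      ⟨(fullyFaithfulSheafToPresheaf _ A).preimageIso ((sheafToPresheaf J' A).mapIso e)⟩⟩

theorem essImage_pushEt_type (hi : RepWith @IsIntegralHom f.hom) (hu : IsUnivInjectiveMor f.hom)
    (G : EtSh X.obj (Type (u + 1))) :
    (pushEt hi.1 (Type (u + 1))).essImage G ↔
      ∀ E : EtOver X.obj, Misses f E → Nonempty (Unique (G.obj.obj (op E))) :=
  (essImage_pushEt_iff hi hu G).trans (forall_congr' fun _ => imp_congr_right fun _ =>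
    (Types.isTerminalEquivUnique _).nonempty_congr)

theorem essImage_pushEt_ab (hi : RepWith @IsIntegralHom f.hom) (hu : IsUnivInjectiveMor f.hom)
    (G : AbEt X.obj) :
    (pushEt hi.1 AddCommGrpCat.{u + 1}).essImage G ↔
      ∀ E : EtOver X.obj, Misses f E → Subsingleton ↥(G.obj.obj (op E)) :=
  (essImage_pushEt_iff hi hu G).trans (forall_congr' fun _ => imp_congr_right fun _ =>
    ⟨fun ⟨h⟩ => AddCommGrpCat.subsingleton_of_isZero
        ((isZero_zero _).of_iso (h.uniqueUpToIso (isZero_zero _).isTerminal)),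
      fun _ => ⟨(AddCommGrpCat.isZero_of_subsingleton _).isTerminal⟩⟩)

end Groth.Agent.EtInvariance
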