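import Mathlib.RingTheory.Flat.Rank
import Mathlib.RingTheory.Unramified.Field
import Mathlib.RingTheory.LocalRing.ResidueField.Fiber
import Mathlib.RingTheory.Spectrum.Prime.FreeLocus
import Mathlib.FieldTheory.PurelyInseparable.Basic
import Mathlib.RingTheory.Spectrum.Prime.Topology

/-!
# Finite étale algebras of rank one at a point
-/

universe u

open TensorProduct

namespace Groth.Agent.EtInvariance

/-- one point with purely inseparable residue extension in an unramified finite fibre means rank one -/
theorem rankAtStalk_eq_one {B F : Type u} [CommRing B] [CommRing F] [Algebra B F] [Module.Finite B F]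
    [Module.Flat B F] [Algebra.FormallyUnramified B F] (w : PrimeSpectrum B) {K : Type u} [Field K] [Algebra B K]
    [Algebra w.asIdeal.ResidueField K] [IsScalarTower B w.asIdeal.ResidueField K]
    [IsPurelyInseparable w.asIdeal.ResidueField K] (ρ : F →ₐ[B] K)
    (huniq : ∀ Q : Ideal F, Q.IsPrime → Q.under B = w.asIdeal → Q = RingHom.ker ρ.toRingHom) :
    Module.rankAtStalk (R := B) F w = 1 := by
  let k := w.asIdeal.ResidueField
  let L := w.asIdeal.Fiber F
  have : IsArtinianRing L := IsArtinianRing.of_finite k L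
  have : IsReduced L := Algebra.FormallyUnramified.isReduced_of_field k L
  let ρL : L →ₐ[k] K := Algebra.TensorProduct.lift (Algebra.ofId k K) ρ fun _ _ => Commute.all _ _
  have : Nontrivial L := ρL.toRingHom.domain_nontrivial
  have hsub : Subsingleton (PrimeSpectrum L) := ⟨fun a b => by
    refine (PrimeSpectrum.primesOverOrderIsoFiber B F w.asIdeal).symm.injective (Subtype.ext ?_)
    have h : ∀ z : w.asIdeal.primesOver F, z.1 = RingHom.ker ρ.toRingHom := fun z =>
      huniq z.1 z.2.1 z.2.2.over.symm
    rw [h, h]⟩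
  have : Subsingleton (MaximalSpectrum L) := ⟨fun a b => MaximalSpectrum.ext (congrArg PrimeSpectrum.asIdeal
    (hsub.elim ⟨a.asIdeal, a.isMaximal.isPrime⟩ ⟨b.asIdeal, b.isMaximal.isPrime⟩))⟩
  have : IsLocalRing L := .of_singleton_maximalSpectrum
  let : Field L := (IsArtinianRing.isField_of_isReduced_of_isLocalRing L).toField
  have : IsPurelyInseparable k L := (isPurelyInseparable_iff_pow_mem k (ringExpChar k)).2 fun x => by
    obtain ⟨n, c, hc⟩ := IsPurelyInseparable.pow_mem k (ringExpChar k) (ρL x)
    exact ⟨n, c, ρL.toRingHom.injective (by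
      show ρL (algebraMap k L c) = ρL (x ^ ringExpChar k ^ n)
      rw [AlgHom.commutes, map_pow, hc])⟩
  have : Algebra.IsSeparable k L := Algebra.FormallyUnramified.isSeparable k L
  have hb : Function.Bijective (algebraMap k L) :=
    IsPurelyInseparable.bijective_algebraMap_of_isSeparable k L
  rw [Module.rankAtStalk_eq]
  show Module.finrank k L = 1
  rw [← (LinearEquiv.ofBijective (Algebra.linearMap k L) hb).finrank_eq, Module.finrank_self]

/-- the locus of rank one contains a basic open of an integral base -/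
theorem exists_rankAtStalk_eq_one {E B F : Type u} [CommRing E] [CommRing B] [Algebra E B] [Algebra.IsIntegral E B]
    [CommRing F] [Algebra B F] [Module.FinitePresentation B F] [Module.Flat B F] (P : Ideal E) [P.IsPrime]
    (h : ∀ w : PrimeSpectrum B, w.asIdeal.under E = P → Module.rankAtStalk (R := B) F w = 1) :
    ∃ s ∉ P, ∀ w : PrimeSpectrum B, algebraMap E B s ∉ w.asIdeal → Module.rankAtStalk (R := B) F w = 1 := by
  let C : Set (PrimeSpectrum B) := {w | Module.rankAtStalk (R := B) F w ≠ 1}
  have hC : IsClosed C := by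
    rw [← isOpen_compl_iff]
    exact (Module.isLocallyConstant_rankAtStalk (R := B) (M := F)).isOpen_fiber 1 |> fun h => by
      convert h using 1; ext w; simp [C]
  have himg : IsClosed (PrimeSpectrum.comap (algebraMap E B) '' C) :=
    PrimeSpectrum.isClosedMap_comap_of_isIntegral _ Algebra.IsIntegral.isIntegral C hC
  have hP : (⟨P, ‹_›⟩ : PrimeSpectrum E) ∈ (PrimeSpectrum.comap (algebraMap E B) '' C)ᶜ := by
    rintro ⟨w, hw, e⟩
    exact hw (h w (congrArg PrimeSpectrum.asIdeal e))
  obtain ⟨_, ⟨s, rfl⟩, hPs, hs⟩ :=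
    PrimeSpectrum.isTopologicalBasis_basic_opens.exists_subset_of_mem_open hP himg.isOpen_compl
  refine ⟨s, hPs, fun w hw => ?_⟩
  by_contra hne
  exact hs (show PrimeSpectrum.comap (algebraMap E B) w ∈ PrimeSpectrum.basicOpen s from hw) ⟨w, hne, rfl⟩

/-- where the rank is one, a finite flat algebra has a unique point -/
theorem exists_algHom_of_rank {B F C : Type u} [CommRing B] [CommRing F] [Algebra B F] [Module.Finite B F]
    [Module.FinitePresentation B F] [Module.Flat B F] [CommRing C] [Algebra B C]
    (h : ∀ z : PrimeSpectrum C, Module.rankAtStalk (R := B) F (PrimeSpectrum.comap (algebraMap B C) z) = 1) :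
    ∃ σ : F →ₐ[B] C, ∀ (K : Type u) [CommRing K] [Algebra B K] (χ : C →ₐ[B] K) (ρ : F →ₐ[B] K), χ.comp σ = ρ := by
  have hb : Function.Bijective (algebraMap C (C ⊗[B] F)) :=
    Module.algebraMap_bijective_of_rankAtStalk (by
      ext z
      rw [Module.rankAtStalk_baseChange]
      exact h z)
  let e : C ≃ₐ[C] C ⊗[B] F := AlgEquiv.ofBijective (Algebra.ofId C _) hb
  refine ⟨(e.symm.toAlgHom.restrictScalars B).comp Algebra.TensorProduct.includeRight, fun K _ _ χ ρ => ?_⟩
  refine AlgHom.ext fun r => ?_
  have he : e (e.symm ((1 : C) ⊗ₜ[B] r)) = (1 : C) ⊗ₜ[B] r := e.apply_symm_apply _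
  have := congrArg (Algebra.TensorProduct.productMap χ ρ) he
  rw [show e (e.symm ((1 : C) ⊗ₜ[B] r)) = e.symm ((1 : C) ⊗ₜ[B] r) ⊗ₜ[B] (1 : F) from rfl,
    Algebra.TensorProduct.productMap_apply_tmul, Algebra.TensorProduct.productMap_apply_tmul,
    map_one, map_one, mul_one, one_mul] at this
  exact this

end Groth.Agent.EtInvariance
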