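import Groth.Agent.EtInvariance.SchemePush
import Groth.Agent.EtPushStalk.OpenImm
import Mathlib

/-!
# Sheaves of sets: open immersions, immersions, closed immersions
-/

set_option autoImplicit false
set_option backward.isDefEq.respectTransparency false
set_option backward.isDefEq.respectTransparency.types false
set_option linter.style.haveILetI false

universe u

open CategoryTheory CategoryTheory.Limits AlgebraicGeometry Opposite

namespace Groth.Agent.EtInvariance.SchemePush

section OpenImm

variable {U X : Scheme.{u}} (j : U ⟶ X) [IsOpenImmersion j]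

/-- restriction of sheaves of sets along an open immersion -/
noncomputable abbrev restrSh : EtDesc.Sh X ⥤ EtDesc.Sh U :=
  (EtShriek.compEtale j).sheafPushforwardContinuous (Type (u + 1)) U.smallEtaleTopology X.smallEtaleTopology

/-- restriction is left adjoint to direct image -/
noncomputable def restrPushShAdj : restrSh j ⊣ EtDesc.pushSh j :=
  ((Groth.Agent.EtPushStalk.compBcAdj j).op.whiskerLeft (Type (u + 1))).restrictFullyFaithful
    (fullyFaithfulSheafToPresheaf _ _) (fullyFaithfulSheafToPresheaf _ _) (Iso.refl _) (Iso.refl _)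

theorem isIso_counit_restrPush : IsIso (restrPushShAdj j).counit := by
  haveI hu : IsIso (Groth.Agent.EtPushStalk.compBcAdj j).unit := inferInstance
  rw [NatTrans.isIso_iff_isIso_app]
  intro F
  rw [← isIso_iff_of_reflects_iso _ (sheafToPresheaf U.smallEtaleTopology (Type (u + 1))),
    NatTrans.isIso_iff_isIso_app]
  intro V
  have key : ((sheafToPresheaf U.smallEtaleTopology (Type (u + 1))).map ((restrPushShAdj j).counit.app F)).app V =
      F.obj.map ((Groth.Agent.EtPushStalk.compBcAdj j).unit.app V.unop).op := by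
    ext x
    simp [restrPushShAdj, Adjunction.restrictFullyFaithful, Adjunction.op, Adjunction.whiskerLeft,
      Adjunction.homEquiv, Functor.FullyFaithful.homEquiv, fullyFaithfulSheafToPresheaf]
    rfl
  rw [key]
  infer_instance

theorem pushSh_openImm_fullyFaithful : (EtDesc.pushSh j).Full ∧ (EtDesc.pushSh j).Faithful := by
  haveI := isIso_counit_restrPush j
  exact ⟨(restrPushShAdj j).fullyFaithfulROfIsIsoCounit.full, (restrPushShAdj j).fullyFaithfulROfIsIsoCounit.faithful⟩

theorem isIso_terminalFrom_pullSh_iff (F : EtDesc.Sh X) :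
    IsIso (terminal.from ((EtDesc.pullSh j).obj F)) ↔
      ∀ E : X.Etale, Set.range E.hom ⊆ Set.range j → Nonempty (IsTerminal (F.obj.obj (op E))) := by
  let e : restrSh j ≅ EtDesc.pullSh j := (restrPushShAdj j).leftAdjointUniq (EtDesc.adjSh j)
  have h1 : IsIso (terminal.from ((EtDesc.pullSh j).obj F)) ↔ Nonempty (IsTerminal ((restrSh j).obj F)) :=
    ⟨fun _ => ⟨(terminalIsTerminal.ofIso (asIso (terminal.from ((EtDesc.pullSh j).obj F))).symm).ofIso (e.app F).symm⟩,
      fun ⟨h⟩ => isIso_of_isTerminal (h.ofIso (e.app F)) terminalIsTerminal _⟩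
  rw [h1]
  constructor
  · rintro ⟨h⟩ E hE
    haveI : Etale E.hom := E.prop
    let g : E.left ⟶ U := IsOpenImmersion.lift j E.hom hE
    have hg : g ≫ j = E.hom := IsOpenImmersion.lift_fac _ _ _
    haveI : Etale g := by
      haveI : Etale (g ≫ j) := by rw [hg]; infer_instance
      exact Etale.of_comp g j
    let V : U.Etale := Scheme.Etale.mk g
    let i : (EtShriek.compEtale j).obj V ≅ E := MorphismProperty.Over.isoMk (Iso.refl _) (by
      show 𝟙 _ ≫ E.hom = g ≫ j
      rw [Category.id_comp, hg])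
    exact ⟨(IsTerminal.isTerminalObj ((sheafToPresheaf _ _) ⋙ (evaluation _ _).obj (op V)) _ h).ofIso
      (F.obj.mapIso i.op.symm)⟩
  · intro h
    have hV : ∀ V : U.Etaleᵒᵖ, IsTerminal (F.obj.obj (op ((EtShriek.compEtale j).obj V.unop))) := fun V =>
      (h ((EtShriek.compEtale j).obj V.unop) (by
        rintro _ ⟨z, rfl⟩
        exact ⟨V.unop.hom z, rfl⟩)).some
    exact ⟨IsTerminal.ofUniqueHom
      (fun G => ObjectProperty.homMk ⟨fun V => (hV V).from _, fun V W k => (hV W).hom_ext _ _⟩)
      (fun G m => Sheaf.hom_ext (NatTrans.ext (funext fun V => (hV V).hom_ext _ _)))⟩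

end OpenImm

theorem pushSh_immersion_fullyFaithful {X Y : Scheme.{u}} (f : X ⟶ Y) [IsImmersion f] :
    (EtDesc.pushSh f).Full ∧ (EtDesc.pushSh f).Faithful := by
  obtain ⟨_, _⟩ := fullyFaithful_push f.liftCoborder (Type (u + 1))
  obtain ⟨_, _⟩ := pushSh_openImm_fullyFaithful f.coborderRange.ι
  haveI h1 : (EtDesc.pushSh f.liftCoborder).Full := ‹_›
  haveI h2 : (EtDesc.pushSh f.liftCoborder).Faithful := ‹_›
  let e : EtDesc.pushSh f.liftCoborder ⋙ EtDesc.pushSh f.coborderRange.ι ≅ EtDesc.pushSh f :=
    EtDesc.pushCompSh f.coborderRange.ι f.liftCoborder ≪≫ eqToIso (by rw [f.liftCoborder_ι])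
  exact ⟨Functor.Full.of_iso e, Functor.Faithful.of_iso e⟩

theorem isIso_counit_immersion {X Y : Scheme.{u}} (f : X ⟶ Y) [IsImmersion f] (F : EtDesc.Sh X) :
    IsIso ((EtDesc.adjSh f).counit.app F) := by
  obtain ⟨_, _⟩ := pushSh_immersion_fullyFaithful f
  infer_instance

theorem pushSh_closedImm {Y X U : Scheme.{u}} (i : Y ⟶ X) [IsClosedImmersion i] (j : U ⟶ X) [IsOpenImmersion j]
    (hU : Set.range j.base = (Set.range i.base)ᶜ) :
    (EtDesc.pushSh i).Full ∧ (EtDesc.pushSh i).Faithful ∧
      ∀ F : EtDesc.Sh X, (EtDesc.pushSh i).essImage F ↔ IsIso (terminal.from ((EtDesc.pullSh j).obj F)) := by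
  obtain ⟨h1, h2⟩ := fullyFaithful_push i (Type (u + 1))
  refine ⟨h1, h2, fun F => (essImage_push_iff i F).trans (Iff.trans ?_ (isIso_terminalFrom_pullSh_iff j F).symm)⟩
  refine forall_congr' fun E => imp_congr_left ?_
  show Disjoint (Set.range E.hom) (Set.range i.base) ↔ Set.range E.hom ⊆ Set.range j.base
  rw [hU, Set.subset_compl_iff_disjoint_right]

end Groth.Agent.EtInvariance.SchemePush
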