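import Groth.Agent.EtInvariance.Thick
import Groth.Agent.AlgSpLib.LocP
import Mathlib.LinearAlgebra.TensorProduct.RightExactness

/-!
# Finite type descends along finite order thickenings
-/

universe u

open CategoryTheory CategoryTheory.Limits AlgebraicGeometry Opposite TensorProduct

set_option backward.isDefEq.respectTransparency false

namespace Groth.Agent.EtInvariance

theorem finiteType_of_nilpotent {A B : Type u} [CommRing A] [CommRing B] [Algebra A B] (N : Ideal A)
    [Algebra.FiniteType A (B ⧸ N.map (algebraMap A B))] (h : IsNilpotent (N.map (algebraMap A B))) :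
    Algebra.FiniteType A B := by
  classical
  let K := N.map (algebraMap A B)
  obtain ⟨s, hs⟩ := Algebra.FiniteType.out (R := A) (A := B ⧸ K)
  choose l hl using fun x : B ⧸ K => Ideal.Quotient.mk_surjective (I := K) x
  let C : Subalgebra A B := Algebra.adjoin A ↑(s.image l)
  have h1 : ∀ b : B, ∃ c ∈ C, b - c ∈ K := fun b => by
    have : (Ideal.Quotient.mk K b) ∈ (Algebra.adjoin A (↑s : Set (B ⧸ K))) := by rw [hs]; trivial
    have e : (↑s : Set (B ⧸ K)) = Ideal.Quotient.mkₐ A K '' ↑(s.image l) := by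
      ext x
      simp only [Finset.coe_image, Set.mem_image, exists_exists_and_eq_and, Ideal.Quotient.mkₐ_eq_mk, hl]
      exact ⟨fun hx => ⟨x, hx, rfl⟩, fun ⟨y, hy, hxy⟩ => hxy ▸ hy⟩
    rw [e, ← AlgHom.map_adjoin] at this
    obtain ⟨c, hc, hc'⟩ := this
    exact ⟨c, hc, Ideal.Quotient.eq.1 hc'.symm⟩
  have hK : K.restrictScalars A = N • (⊤ : Submodule A B) := (Ideal.smul_top_eq_map N).symm
  have step : ∀ m : ℕ, Subalgebra.toSubmodule C ⊔ (K ^ m).restrictScalars A = ⊤ := fun m => by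
    induction m with
    | zero => rw [pow_zero, Ideal.one_eq_top, Submodule.restrictScalars_top, sup_top_eq]
    | succ m ih =>
      have hK' : K.restrictScalars A ≤ Subalgebra.toSubmodule C ⊔ (K ^ (m + 1)).restrictScalars A := by
        rw [hK, ← ih, Submodule.smul_sup]
        refine sup_le_sup Submodule.smul_le_right ?_
        rw [Submodule.smul_le]
        intro n hn x hx
        rw [Algebra.smul_def, Submodule.restrictScalars_mem, pow_succ']
        exact Ideal.mul_mem_mul (Ideal.mem_map_of_mem _ hn) hx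
      refine eq_top_iff.2 fun b _ => ?_
      obtain ⟨c, hc, hk⟩ := h1 b
      rw [← add_sub_cancel c b]
      exact add_mem (Submodule.mem_sup_left hc) (hK' hk)
  obtain ⟨n, hn⟩ := h
  refine ⟨⟨s.image l, ?_⟩⟩
  rw [eq_top_iff]
  intro b _
  have := step n
  rw [hn, Ideal.zero_eq_bot, Submodule.restrictScalars_bot, sup_bot_eq] at this
  exact (this ▸ Submodule.mem_top : b ∈ Subalgebra.toSubmodule C)

theorem lft_of_thick_spec {A B : CommRingCat.{u}} (φ : A ⟶ B) (I : Ideal A) {U₀ : Scheme.{u}} (u : U₀ ⟶ Spec B)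
    (k₀ : U₀ ⟶ Spec (.of (A ⧸ I)))
    (sq : IsPullback u k₀ (Spec.map φ) (Spec.map (CommRingCat.ofHom (Ideal.Quotient.mk I))))
    [LocallyOfFiniteType k₀] (n : ℕ) (hn : u.ker ^ (n + 1) = ⊥) : LocallyOfFiniteType (Spec.map φ) := by
  algebraize [φ.hom]
  have sq' := isPullback_SpecMap_of_isPushout _ _ _ _ (CommRingCat.isPushout_tensorProduct A B (A ⧸ I))
  let e := sq.isoIsPullback _ _ sq'
  have he₁ : e.hom ≫ _ = u := sq.isoIsPullback_hom_fst _ _ sq'
  have he₂ : e.hom ≫ _ = k₀ := sq.isoIsPullback_hom_snd _ _ sq'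
  have hft : LocallyOfFiniteType (Spec.map (CommRingCat.ofHom
      (Algebra.TensorProduct.includeRight : A ⧸ I →ₐ[A] B ⊗[A] (A ⧸ I)).toRingHom)) := by
    rw [← MorphismProperty.cancel_left_of_respectsIso (P := @LocallyOfFiniteType) e.hom]
    exact he₂ ▸ ‹LocallyOfFiniteType k₀›
  have : Algebra.FiniteType A (B ⊗[A] (A ⧸ I)) := by
    rw [← RingHom.finiteType_algebraMap, show algebraMap A (B ⊗[A] (A ⧸ I)) =
      (Algebra.TensorProduct.includeRight : A ⧸ I →ₐ[A] B ⊗[A] (A ⧸ I)).toRingHom.comp (algebraMap A (A ⧸ I)) from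
      RingHom.ext fun a => ((Algebra.TensorProduct.includeRight : A ⧸ I →ₐ[A] B ⊗[A] (A ⧸ I)).commutes a).symm]
    exact (HasRingHomProperty.Spec_iff.1 hft).comp (RingHom.FiniteType.of_surjective _ Ideal.Quotient.mk_surjective)
  let π : B →ₐ[A] B ⊗[A] (A ⧸ I) := Algebra.TensorProduct.includeLeft
  let eq := Algebra.TensorProduct.quotIdealMapEquivTensorQuot (A := A) B I
  have : Algebra.FiniteType A (B ⧸ I.map (algebraMap A B)) :=
    Algebra.FiniteType.equiv ‹_› ((eq.restrictScalars A)).symm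
  have hker : RingHom.ker π.toRingHom = I.map (algebraMap A B) := by
    ext b
    rw [RingHom.mem_ker, ← Ideal.Quotient.eq_zero_iff_mem, ← eq.map_eq_zero_iff]
    rfl
  rw [HasRingHomProperty.Spec_iff (P := @LocallyOfFiniteType)]
  show (algebraMap A B).FiniteType
  rw [RingHom.finiteType_algebraMap]
  refine finiteType_of_nilpotent I ⟨n + 1, ?_⟩
  rw [← hker, Ideal.zero_eq_bot, eq_bot_iff]
  rw [← he₁, Scheme.Hom.ker_comp_of_isIso] at hn
  have h2 := congrArg (fun J => J.ideal ⟨⊤, isAffineOpen_top (Spec B)⟩) hn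
  simp only [Scheme.IdealSheafData.ideal_pow, Pi.pow_apply, Scheme.ker_of_isAffine,
    Scheme.IdealSheafData.ofIdealTop_ideal, Scheme.IdealSheafData.ideal_bot, Pi.bot_apply] at h2
  let η := (Scheme.ΓSpecIso B).inv.hom
  have hle : (RingHom.ker π.toRingHom).map η ≤
      (RingHom.ker (Spec.map (CommRingCat.ofHom π.toRingHom)).appTop.hom).map
        ((Spec B).presheaf.map (homOfLE (le_top (a := (⊤ : (Spec B).Opens)))).op).hom := by
    rw [Ideal.map_le_iff_le_comap]
    intro b hb
    have h3 := congrArg (fun k => k.hom b) (Scheme.ΓSpecIso_inv_naturality (CommRingCat.ofHom π.toRingHom))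
    simp only [CommRingCat.hom_comp, RingHom.comp_apply, CommRingCat.hom_ofHom] at h3
    rw [RingHom.mem_ker.1 hb, map_zero] at h3
    rw [show homOfLE (le_top (a := (⊤ : (Spec B).Opens))) = 𝟙 _ from rfl, op_id, CategoryTheory.Functor.map_id,
      CommRingCat.hom_id]
    erw [Ideal.map_id]
    exact h3.symm
  have h4 := (Ideal.pow_right_mono hle (n + 1)).trans h2.le
  rw [← Ideal.map_pow] at h4
  intro b hb
  have h5 : η b = 0 := h4 (Ideal.mem_map_of_mem _ hb)
  exact (Scheme.ΓSpecIso B).commRingCatIsoToRingEquiv.symm.injective (h5.trans (map_zero η).symm)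

theorem pow_ker_eq_bot_iff {U₀ U : Scheme.{u}} [IsAffine U₀] [IsAffine U] (u : U₀ ⟶ U) (m : ℕ) :
    u.ker ^ m = ⊥ ↔ RingHom.ker u.appTop.hom ^ m = ⊥ := by
  have h : ∀ J : U.IdealSheafData, J = ⊥ ↔ J.ideal ⟨⊤, isAffineOpen_top U⟩ = ⊥ := fun J =>
    ⟨fun h => by rw [h]; simp, fun h => Scheme.IdealSheafData.ext_of_isAffine (by simpa using h)⟩
  rw [h, Scheme.IdealSheafData.ideal_pow, Pi.pow_apply, Scheme.ker_of_isAffine,
    Scheme.IdealSheafData.ofIdealTop_ideal]
  simp only [homOfLE_refl, op_id, CategoryTheory.Functor.map_id, CommRingCat.hom_id]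
  erw [Ideal.map_id]

theorem lft_of_thick_affine {U₀ U V₀ V : Scheme.{u}} [IsAffine U] [IsAffine V] {u : U₀ ⟶ U} {k₀ : U₀ ⟶ V₀}
    {k : U ⟶ V} {v : V₀ ⟶ V} (sq : IsPullback u k₀ k v) [IsClosedImmersion v] [LocallyOfFiniteType k₀] (n : ℕ)
    (hn : u.ker ^ (n + 1) = ⊥) : LocallyOfFiniteType k := by
  obtain ⟨φ, hφ⟩ := Spec.map_surjective (U.isoSpec.inv ≫ k ≫ V.isoSpec.hom)
  obtain ⟨I, e, he⟩ := IsClosedImmersion.Spec_iff.1 (inferInstance : IsClosedImmersion (v ≫ V.isoSpec.hom))
  have sq' : IsPullback (u ≫ U.isoSpec.hom) (k₀ ≫ e.hom) (Spec.map φ)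
      (Spec.map (CommRingCat.ofHom (Ideal.Quotient.mk I))) :=
    sq.of_iso (Iso.refl _) U.isoSpec e V.isoSpec (by simp) (by simp) (by simp [hφ]) (by simpa using he)
  have hk : LocallyOfFiniteType (Spec.map φ) := by
    refine lft_of_thick_spec φ I _ _ sq' n ?_
    have : IsClosedImmersion u := MorphismProperty.of_isPullback sq.flip ‹_›
    have : IsAffine U₀ := (IsClosedImmersion.isAffine_surjective_of_isAffine u).1
    rw [pow_ker_eq_bot_iff] at hn ⊢
    rw [Scheme.Hom.comp_appTop, CommRingCat.hom_comp, ← RingHom.comap_ker, eq_bot_iff]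
    refine (Ideal.le_comap_pow _ _).trans ?_
    rw [hn]
    intro b hb
    exact (ConcreteCategory.bijective_of_isIso U.isoSpec.hom.appTop).1 (hb.trans (map_zero _).symm)
  rw [show k = U.isoSpec.hom ≫ Spec.map φ ≫ V.isoSpec.inv by rw [hφ]; simp]
  infer_instance

theorem lft_of_forall_affine {X Y : Scheme.{u}} (f : X ⟶ Y)
    (h : ∀ {U V : Scheme.{u}} (u : U ⟶ X) (v : V ⟶ Y) (g : U ⟶ V), IsAffine U → IsAffine V → IsOpenImmersion u →
      IsOpenImmersion v → g ≫ v = u ≫ f → LocallyOfFiniteType g) : LocallyOfFiniteType f := by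
  refine IsZariskiLocalAtTarget.of_openCover Y.affineCover fun i => ?_
  refine IsZariskiLocalAtSource.of_openCover (Scheme.affineCover _) fun j => ?_
  refine h ((Scheme.affineCover _).f j ≫ pullback.fst f (Y.affineCover.f i)) (Y.affineCover.f i) _ inferInstance
    inferInstance inferInstance inferInstance ?_
  simp [Scheme.Cover.pullbackHom, pullback.condition]

open _root_.AlgSp Groth.Agent.AlgSpLib

theorem repWith_etale_openImmersion_comp {S : Scheme.{u}} {F : Sp S} {U : Over S} {a : (yon S).obj U ⟶ F}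
    (ha : RepWith @Etale a) {W : Scheme.{u}} (w : W ⟶ U.left) [IsOpenImmersion w] :
    RepWith @Etale ((yon S).map (Over.homMk (U := Over.mk (w ≫ U.hom)) w rfl) ≫ a) :=
  repWith_comp ((repWith_yon_iff _).2 (inferInstance : Etale w)) ha

/-- locally of finite type descends along finite order thickenings -/
theorem locP_lft_of_finThick {S : Scheme.{u}} {X X' Y Y' : Sp S} {i : X ⟶ X'} {j : Y ⟶ Y'} {f : X ⟶ Y}
    {f' : X' ⟶ Y'} (hj : IsThickMor j) (hcart : IsPullback i f f' j) (hfo : IsFinThickMor i)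
    (hf : LocP @LocallyOfFiniteType f) : LocP @LocallyOfFiniteType f' := by
  have main : ∀ ⦃U V : Over S⦄ (a : (yon S).obj U ⟶ X') (b : (yon S).obj V ⟶ Y') (k : U ⟶ V), IsAffine U.left →
      IsAffine V.left → RepWith @Etale a → RepWith @Etale b → a ≫ f' = (yon S).map k ≫ b →
      LocallyOfFiniteType k.left := by
    intro U V a b k hU hV ha hb comm
    obtain ⟨n, -, hn⟩ := hfo
    obtain ⟨V₀, y, v, sqV, hv⟩ := exists_repWith hj b
    obtain ⟨U₀, k₀, u, sqU⟩ := exists_pullback (IsAlgSpace.yon_obj V).diag ((yon S).map v) ((yon S).map k)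
    have h1 : IsPullback ((yon S).map k₀ ≫ y) ((yon S).map u) j (a ≫ f') := by
      rw [comm]
      exact sqU.paste_horiz sqV
    let x : (yon S).obj U₀ ⟶ X := hcart.lift ((yon S).map u ≫ a) ((yon S).map k₀ ≫ y) (by
      rw [Category.assoc, ← h1.w])
    have h2 : IsPullback x ((yon S).map u) i a :=
      IsPullback.of_right (by rw [hcart.lift_snd]; exact h1) (hcart.lift_fst _ _ _) hcart.flip
    have : LocallyOfFiniteType k₀.left :=
      hf x y k₀ (repWith_baseChange h2.flip ha) (repWith_baseChange sqV.flip hb) (hcart.lift_snd _ _ _)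
    have : IsClosedImmersion v.left := hv.1
    exact lft_of_thick_affine ((isPullback_yon_iff.1 sqU).flip) n (hn a x u hU ha h2)
  intro U V a b k ha hb comm
  refine lft_of_forall_affine k.left fun {W Z} w z g hW hZ hw hz e => ?_
  let W' : Over S := Over.mk (w ≫ U.hom)
  let Z' : Over S := Over.mk (z ≫ V.hom)
  let k' : W' ⟶ Z' := Over.homMk g (by simp [W', Z', reassoc_of% e, Over.w k])
  refine main _ _ k' hW hZ (repWith_etale_openImmersion_comp ha w) (repWith_etale_openImmersion_comp hb z) ?_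
  rw [Category.assoc, comm, ← Category.assoc, ← Category.assoc, ← Functor.map_comp, ← Functor.map_comp]
  congr 2
  exact Over.OverMorphism.ext e.symm

end Groth.Agent.EtInvariance
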