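import Groth.Agent.EtInvariance.Thick
import Groth.Agent.AlgSpLib.LocP
import Groth.Agent.FibCrit.Props
import Groth.Agent.LqfRep.Main
import Groth.Agent.S10589
import Mathlib.AlgebraicGeometry.ZariskisMainTheorem

/-!
# Properties across cartesian squares over thickenings
-/

universe u

open CategoryTheory CategoryTheory.Limits AlgebraicGeometry Opposite Topology

set_option backward.isDefEq.respectTransparency false

namespace Groth.Agent.EtInvariance

section Scheme

variable {X X' Y Y' : Scheme.{u}} {i : X ⟶ X'} {f : X ⟶ Y} {f' : X' ⟶ Y'} {j : Y ⟶ Y'}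

theorem exists_lift_of_isReduced [IsClosedImmersion j] [Surjective j] {T : Scheme.{u}} [IsReduced T] (g : T ⟶ Y') :
    ∃ g₀ : T ⟶ Y, g₀ ≫ j = g := by
  have : IsClosedImmersion (pullback.snd j g) := MorphismProperty.pullback_snd _ _ inferInstance
  have : Surjective (pullback.snd j g) := MorphismProperty.pullback_snd _ _ inferInstance
  have : IsIso (pullback.snd j g) := isIso_of_isClosedImmersion_of_surjective _
  exact ⟨inv (pullback.snd j g) ≫ pullback.fst j g, by rw [Category.assoc, pullback.condition, IsIso.inv_hom_id_assoc]⟩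

variable (sq : IsPullback i f f' j) [IsClosedImmersion j] [Surjective j] [LocallyOfFiniteType f']

include sq

theorem lqf_of_thick [LocallyQuasiFinite f] : LocallyQuasiFinite f' := by
  have : IsClosedImmersion i := MorphismProperty.of_isPullback (P := @IsClosedImmersion) sq.flip ‹_›
  have : Surjective i := MorphismProperty.of_isPullback (P := @Surjective) sq.flip ‹_›
  refine locallyQuasiFinite_iff_isDiscrete_preimage_singleton.2 fun y' => ?_
  obtain ⟨y, rfl⟩ := j.surjective y'
  have : f' ⁻¹' {j y} = i '' (f ⁻¹' {y}) := by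
    ext x'
    obtain ⟨x, rfl⟩ := i.surjective x'
    rw [i.isClosedEmbedding.injective.mem_set_image]
    simp only [Set.mem_preimage, Set.mem_singleton_iff, ← Scheme.Hom.comp_apply, sq.w]
    exact j.isClosedEmbedding.injective.eq_iff
  rw [this]
  exact (f.isDiscrete_preimage_singleton y).image i.isEmbedding.toIsInducing

theorem formallyUnramified_of_thick [FormallyUnramified f] : FormallyUnramified f' := by
  refine FibCrit.formallyUnramified_of_fiberToSpecResidueField f' fun y' => ?_
  obtain ⟨g₀, hg₀⟩ := exists_lift_of_isReduced (j := j) (Y'.fromSpecResidueField y')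
  have h1 : IsPullback (pullback.fst f g₀ ≫ i) (pullback.snd f g₀) f' (Y'.fromSpecResidueField y') := by
    rw [← hg₀]
    exact (IsPullback.of_hasPullback f g₀).paste_horiz sq
  rw [show f'.fiberToSpecResidueField y' = ((IsPullback.of_hasPullback f' _).isoIsPullback _ _ h1).hom ≫ pullback.snd f g₀
    from (IsPullback.isoIsPullback_hom_snd _ _ (IsPullback.of_hasPullback f' _) h1).symm]
  exact (MorphismProperty.cancel_left_of_respectsIso (P := @FormallyUnramified) _ _).2
    (MorphismProperty.pullback_snd _ _ ‹_›)

theorem mono_of_thick_square [Mono f] : Mono f' := by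
  have : IsClosedImmersion i := MorphismProperty.of_isPullback (P := @IsClosedImmersion) sq.flip ‹_›
  have : Surjective i := MorphismProperty.of_isPullback (P := @Surjective) sq.flip ‹_›
  have hui : UniversallyInjective f' := by
    refine ((tfae_universallyInjective f').out 0 1).2 ?_
    intro K _ a b e
    obtain ⟨a₀, rfl⟩ := exists_lift_of_isReduced (j := i) a
    obtain ⟨b₀, rfl⟩ := exists_lift_of_isReduced (j := i) b
    have e' : (a₀ ≫ i) ≫ f' = (b₀ ≫ i) ≫ f' := e
    rw [Category.assoc, Category.assoc, sq.w, ← Category.assoc, ← Category.assoc, cancel_mono j, cancel_mono f] at e'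
    rw [e']
  have : FormallyUnramified f := inferInstance
  have : FormallyUnramified f' := formallyUnramified_of_thick sq
  have : Surjective (pullback.diagonal f') := ((tfae_universallyInjective f').out 0 3).1 hui
  have : IsIso (pullback.diagonal f') := (isIso_iff_isOpenImmersion_and_epi_base _).2
    ⟨inferInstance, (TopCat.epi_iff_surjective _).2 (pullback.diagonal f').surjective⟩
  exact (pullback.isIso_diagonal_iff f').1 this

omit sq [LocallyOfFiniteType f'] [Surjective j] in
theorem universallyClosed_of_thick (w : i ≫ f' = f ≫ j) [Surjective i] [UniversallyClosed f] : UniversallyClosed f' := by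
  have : UniversallyClosed (i ≫ f') := by rw [w]; infer_instance
  exact .of_comp_surjective i f'

theorem isClosedImmersion_of_thick [IsClosedImmersion f] : IsClosedImmersion f' := by
  have : Surjective i := MorphismProperty.of_isPullback (P := @Surjective) sq.flip ‹_›
  have hm : Mono f' := mono_of_thick_square sq
  have : UniversallyClosed f' := universallyClosed_of_thick sq.w
  exact (IsClosedImmersion.iff_isProper_and_mono (f := f')).2 ⟨⟨⟩, hm⟩

theorem isImmersion_of_thick [IsImmersion f] : IsImmersion f' := by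
  have : IsClosedImmersion i := MorphismProperty.of_isPullback (P := @IsClosedImmersion) sq.flip ‹_›
  have : Surjective i := MorphismProperty.of_isPullback (P := @Surjective) sq.flip ‹_›
  have hr : Set.range f = j ⁻¹' Set.range f' := by
    ext y
    constructor
    · rintro ⟨x, rfl⟩; exact ⟨i x, by rw [← Scheme.Hom.comp_apply, sq.w]; rfl⟩
    · rintro ⟨x', hx⟩
      obtain ⟨x, -, hx'⟩ := Scheme.exists_preimage_of_isPullback sq x' y hx
      exact ⟨x, hx'⟩
  let hj : IsHomeomorph j := isHomeomorph_iff_isEmbedding_surjective.2 ⟨j.isClosedEmbedding.toIsEmbedding, j.surjective⟩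
  have hl : IsLocallyClosed (Set.range f') := by
    have h0 : IsLocallyClosed (Set.range f) := f.isLocallyClosed_range
    have : Set.range f' = hj.homeomorph '' Set.range f := by
      rw [hr]; exact (Set.image_preimage_eq _ j.surjective).symm
    rw [this]
    obtain ⟨U, Z, hU, hZ, he⟩ := h0
    exact ⟨hj.homeomorph '' U, hj.homeomorph '' Z, hj.homeomorph.isOpenMap _ hU, hj.homeomorph.isClosedMap _ hZ, by
      rw [he, Set.image_inter hj.homeomorph.injective]⟩
  let V : Y'.Opens := ⟨coborder (Set.range f'), hl.isOpen_coborder⟩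
  have hV : Set.range f' ⊆ Set.range V.ι := by rw [Scheme.Opens.range_ι]; exact subset_coborder
  let g' : X' ⟶ V := IsOpenImmersion.lift V.ι f' hV
  have hg' : g' ≫ V.ι = f' := IsOpenImmersion.lift_fac _ _ _
  let g : X ⟶ pullback j V.ι := pullback.lift f (i ≫ g') (by rw [Category.assoc, hg', sq.w])
  have sqV := IsPullback.of_hasPullback j V.ι
  have sqg : IsPullback i g g' (pullback.snd j V.ι) :=
    IsPullback.of_bot (by rw [pullback.lift_fst, hg']; exact sq) (pullback.lift_snd _ _ _).symm sqV.flip
  have : LocallyOfFiniteType g' := by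
    have : LocallyOfFiniteType (g' ≫ V.ι) := by rw [hg']; infer_instance
    exact locallyOfFiniteType_of_comp g' V.ι
  have : IsClosedImmersion (pullback.snd j V.ι) := MorphismProperty.pullback_snd _ _ ‹_›
  have : Surjective (pullback.snd j V.ι) := MorphismProperty.pullback_snd _ _ ‹_›
  have : IsImmersion (g ≫ pullback.fst j V.ι) := by rw [pullback.lift_fst]; infer_instance
  have : IsImmersion g := .of_comp g (pullback.fst j V.ι)
  have hc : IsClosed (Set.range g') := by
    have : Set.range g' = V.ι ⁻¹' Set.range f' := by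
      rw [← hg', Scheme.Hom.comp_base, TopCat.coe_comp, Set.range_comp, Set.preimage_image_eq _ V.ι.isOpenEmbedding.injective]
    rw [this]
    exact isClosed_preimage_val_coborder
  have hrg : Set.range g = pullback.snd j V.ι ⁻¹' Set.range g' := by
    ext y
    constructor
    · rintro ⟨x, rfl⟩
      exact ⟨i x, by rw [← Scheme.Hom.comp_apply, sqg.w]; rfl⟩
    · rintro ⟨x', hx⟩
      obtain ⟨x, -, hx'⟩ := Scheme.exists_preimage_of_isPullback sqg x' y hx
      exact ⟨x, hx'⟩
  have : IsClosedImmersion g := .of_isPreimmersion g (hrg ▸ hc.preimage (pullback.snd j V.ι).continuous)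
  have : IsClosedImmersion g' := isClosedImmersion_of_thick sqg
  rw [← hg']
  infer_instance

theorem isFinite_of_thick [IsFinite f] [IsSeparated f'] : IsFinite f' := by
  have : Surjective i := MorphismProperty.of_isPullback (P := @Surjective) sq.flip ‹_›
  have : UniversallyClosed f' := universallyClosed_of_thick sq.w
  have : LocallyQuasiFinite f' := lqf_of_thick sq
  have : IsProper f' := { }
  exact IsFinite.of_isProper_of_locallyQuasiFinite f'

end Scheme

open _root_.AlgSp Groth.Agent.AlgSpLib

variable {S : Scheme.{u}} {X X' Y Y' : Sp S} {i : X ⟶ X'} {j : Y ⟶ Y'} {f : X ⟶ Y} {f' : X' ⟶ Y'}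

/-- transfer of properties local on source and target -/
theorem locP_of_thick (hj : IsThickMor j) (hcart : IsPullback i f f' j) (P : MorphismProperty Scheme.{u})
    (Q : MorphismProperty Scheme.{u}) (hQ : LocP Q f')
    (h : ∀ {A A' B B' : Scheme.{u}} {a : A ⟶ A'} {g : A ⟶ B} {g' : A' ⟶ B'} {b : B ⟶ B'},
      IsPullback a g g' b → IsClosedImmersion b → Surjective b → Q g' → P g → P g')
    (hf : LocP P f) : LocP P f' := by
  intro U V a b k ha hb comm
  obtain ⟨V₀, y, v, sqV, hv⟩ := exists_repWith hj b
  obtain ⟨U₀, k₀, u, sqU⟩ := exists_pullback (IsAlgSpace.yon_obj V).diag ((yon S).map v) ((yon S).map k)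
  have h1 : IsPullback ((yon S).map k₀ ≫ y) ((yon S).map u) j (a ≫ f') := by
    rw [comm]
    exact sqU.paste_horiz sqV
  let x : (yon S).obj U₀ ⟶ X := hcart.lift ((yon S).map u ≫ a) ((yon S).map k₀ ≫ y) (by
    rw [Category.assoc, ← h1.w])
  have h2 : IsPullback x ((yon S).map u) i a :=
    IsPullback.of_right (by rw [hcart.lift_snd]; exact h1) (hcart.lift_fst _ _ _) hcart.flip
  have hP : P k₀.left := hf x y k₀ (repWith_baseChange h2.flip ha) (repWith_baseChange sqV.flip hb) (hcart.lift_snd _ _ _)
  exact h ((isPullback_yon_iff.1 sqU).flip) hv.1 hv.2 (hQ a b k ha hb comm) hP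

/-- transfer of properties of representable morphisms -/
theorem repWith_of_thick (hj : IsThickMor j) (hcart : IsPullback i f f' j) (hf' : Representable f')
    (P : MorphismProperty Scheme.{u}) [P.IsStableUnderBaseChange] (Q : MorphismProperty Scheme.{u})
    (hQ : RepWith Q f')
    (h : ∀ {A A' B B' : Scheme.{u}} {a : A ⟶ A'} {g : A ⟶ B} {g' : A' ⟶ B'} {b : B ⟶ B'},
      IsPullback a g g' b → IsClosedImmersion b → Surjective b → Q g' → P g → P g')
    (hf : RepWith P f) : RepWith P f' := by
  refine repWith_of_exists fun U ξ => ?_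
  obtain ⟨W, x', w, sqW⟩ := exists_isPullback_of_representable hf' ξ
  obtain ⟨U₀, y, v, sqV, hv⟩ := exists_repWith hj ξ
  obtain ⟨W₀, w₀, u, sqU⟩ := exists_pullback (IsAlgSpace.yon_obj U).diag ((yon S).map v) ((yon S).map w)
  have h1 : IsPullback ((yon S).map u ≫ x') ((yon S).map w₀) f' (y ≫ j) := by
    rw [sqV.w]
    exact sqU.flip.paste_horiz sqW
  let x : (yon S).obj W₀ ⟶ X := hcart.lift ((yon S).map u ≫ x') ((yon S).map w₀ ≫ y) (by
    rw [Category.assoc, Category.assoc, ← Category.assoc _ x', h1.w])
  have h2 : IsPullback x ((yon S).map w₀) f y :=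
    IsPullback.of_right (by rw [hcart.lift_fst]; exact h1) (hcart.lift_snd _ _ _) hcart
  exact ⟨W, x', w, sqW, h ((isPullback_yon_iff.1 sqU).flip) hv.1 hv.2 (hQ.2 ξ _ w sqW) (hf.2 y _ w₀ h2)⟩

theorem locP_lqf_of_thick (hj : IsThickMor j) (hcart : IsPullback i f f' j) (hft' : LocP @LocallyOfFiniteType f')
    (h : LocP (@LocallyQuasiFinite ⊓ @LocallyOfFiniteType) f) :
    LocP (@LocallyQuasiFinite ⊓ @LocallyOfFiniteType) f' :=
  locP_of_thick hj hcart _ _ hft' (fun sq hb hs hg' hg => by
    have := hb
    have := hs
    have := hg'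
    have := hg.1
    exact ⟨lqf_of_thick sq, hg'⟩) h

theorem locP_unramified_of_thick (hj : IsThickMor j) (hcart : IsPullback i f f' j) (hft' : LocP @LocallyOfFiniteType f')
    (h : LocP (@LocallyOfFiniteType ⊓ @FormallyUnramified) f) :
    LocP (@LocallyOfFiniteType ⊓ @FormallyUnramified) f' :=
  locP_of_thick hj hcart _ _ hft' (fun sq hb hs hg' hg => by
    have := hb
    have := hs
    have := hg'
    have := hg.2
    exact ⟨hg', formallyUnramified_of_thick sq⟩) h

/-- a separated locally quasi-finite reduction gives representability -/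
theorem representable_of_thick {X X' Y Y' : Space S} {i : X ⟶ X'} {j : Y ⟶ Y'} {f : X ⟶ Y} {f' : X' ⟶ Y'}
    (hi : IsThickMor i.hom) (hj : IsThickMor j.hom) (w : i ≫ f' = f ≫ j) (hcart : IsPullback i.hom f.hom f'.hom j.hom)
    (hft' : LocP @LocallyOfFiniteType f'.hom) (hf : RepWith (@LocallyQuasiFinite ⊓ @IsSeparated) f.hom)
    (hft : LocP @LocallyOfFiniteType f.hom) :
    Representable f'.hom ∧ IsSeparatedMor f'.hom := by
  have hsep : IsSeparatedMor f'.hom := (Groth.Agent.S10589.result i j f f' hi hj w).1.1
    ((isSeparatedMor_iff_repWith X.property Y.property hf.1).2 (repWith_mono (fun _ _ _ h => h.2) hf))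
  refine ⟨LqfRep.representable_of_lqf_separated X'.property Y'.property f'.hom ?_ hsep etST_lqf, hsep⟩
  refine locP_lqf_of_thick hj hcart hft' ?_
  have h1 := (locP_iff_repWith etST_lft Y.property hf.1).1 hft
  exact (locP_iff_repWith etST_lqf Y.property hf.1).2 (repWith_inf_iff.2
    ⟨repWith_mono (fun _ _ _ h => h.1) hf, h1⟩)

/-- transfer of finiteness and immersions -/
theorem repWith_finite_of_thick {X X' Y Y' : Space S} {i : X ⟶ X'} {j : Y ⟶ Y'} {f : X ⟶ Y} {f' : X' ⟶ Y'}
    (hi : IsThickMor i.hom) (hj : IsThickMor j.hom) (w : i ≫ f' = f ≫ j) (hcart : IsPullback i.hom f.hom f'.hom j.hom)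
    (hft : LocP @LocallyOfFiniteType f.hom) (hft' : LocP @LocallyOfFiniteType f'.hom) :
    (RepWith @IsFinite f.hom → RepWith @IsFinite f'.hom) ∧
      (RepWith @IsClosedImmersion f.hom → RepWith @IsClosedImmersion f'.hom) ∧
      (RepWith @IsImmersion f.hom → RepWith @IsImmersion f'.hom) := by
  have key : ∀ (P : MorphismProperty Scheme.{u}) [P.IsStableUnderBaseChange],
      (∀ {A B : Scheme.{u}} (g : A ⟶ B), P g → LocallyQuasiFinite g ∧ IsSeparated g) →
      (∀ {A A' B B' : Scheme.{u}} {a : A ⟶ A'} {g : A ⟶ B} {g' : A' ⟶ B'} {b : B ⟶ B'},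
        IsPullback a g g' b → IsClosedImmersion b → Surjective b →
        (@LocallyOfFiniteType ⊓ @IsSeparated : MorphismProperty Scheme.{u}) g' → P g → P g') →
      RepWith P f.hom → RepWith P f'.hom := by
    intro P _ hP h hf
    obtain ⟨hrep, hsep⟩ := representable_of_thick hi hj w hcart hft'
      (repWith_mono (fun _ _ g hg => hP g hg) hf) hft
    exact repWith_of_thick hj hcart hrep P _ (repWith_inf_iff.2 ⟨(locP_iff_repWith etST_lft Y'.property hrep).1 hft',
      (isSeparatedMor_iff_repWith X'.property Y'.property hrep).1 hsep⟩) h hf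
  refine ⟨key @IsFinite (fun g hg => ?_) ?_, key @IsClosedImmersion (fun g hg => ?_) ?_,
    key @IsImmersion (fun g hg => ?_) ?_⟩
  · have := hg; exact ⟨inferInstance, inferInstance⟩
  · intro A A' B B' a g g' b sq hb hs hg' hg
    have := hb; have := hs; have := hg'.1; have := hg'.2; have := hg
    exact isFinite_of_thick sq
  · have := hg; exact ⟨inferInstance, inferInstance⟩
  · intro A A' B B' a g g' b sq hb hs hg' hg
    have := hb; have := hs; have := hg'.1; have := hg
    exact isClosedImmersion_of_thick sq
  · have := hg; exact ⟨inferInstance, inferInstance⟩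
  · intro A A' B B' a g g' b sq hb hs hg' hg
    have := hb; have := hs; have := hg'.1; have := hg
    exact isImmersion_of_thick sq

end Groth.Agent.EtInvariance
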